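import Cfsg.Agent.H53.WeylTree
import Cfsg.Prelude.Def_ChevStructure

/-! Weyl group tables of type E8 (generated). -/

set_option autoImplicit false

namespace H53

def e8WeylRoots : WTree (List ℤ) := .node 120 (.node 60 (.node 30 (.node 15 (.node 7 (.node 3 (.node 1 (.leaf [-2, -3, -4, -6, -5, -4, -3, -2]) (.node 2 (.leaf [-2, -3, -4, -6, -5, -4, -3, -1]) (.leaf [-2, -3, -4, -6, -5, -4, -2, -1]))) (.node 5 (.node 4 (.leaf [-2, -3, -4, -6, -5, -3, -2, -1]) (.leaf [-2, -3, -4, -6, -4, -3, -2, -1])) (.node 6 (.leaf [-2, -3, -4, -5, -4, -3, -2, -1]) (.leaf [-2, -3, -3, -5, -4, -3, -2, -1])))) (.node 11 (.node 9 (.node 8 (.leaf [-2, -2, -4, -5, -4, -3, -2, -1]) (.leaf [-2, -2, -3, -5, -4, -3, -2, -1])) (.node 10 (.leaf [-2, -2, -3, -4, -4, -3, -2, -1]) (.leaf [-2, -2, -3, -4, -3, -3, -2, -1]))) (.node 13 (.node 12 (.leaf [-2, -2, -3, -4, -3, -2, -2, -1]) (.leaf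 [-2, -2, -3, -4, -3, -2, -1, -1])) (.node 14 (.leaf [-2, -2, -3, -4, -3, -2, -1, 0]) (.leaf [-1, -3, -3, -5, -4, -3, -2, -1]))))) (.node 22 (.node 18 (.node 16 (.leaf [-1, -2, -3, -5, -4, -3, -2, -1]) (.node 17 (.leaf [-1, -2, -3, -4, -4, -3, -2, -1]) (.leaf [-1, -2, -3, -4, -3, -3, -2, -1]))) (.node 20 (.node 19 (.leaf [-1, -2, -3, -4, -3, -2, -2, -1]) (.leaf [-1, -2, -3, -4, -3, -2, -1, -1])) (.node 21 (.leaf [-1, -2, -3, -4, -3, -2, -1, 0]) (.leaf [-1, -2, -2, -4, -4, -3, -2, -1])))) (.node 26 (.node 24 (.node 23 (.leaf [-1, -2, -2, -4, -3, -3, -2, -1]) (.leaf [-1, -2, -2, -4, -3, -2, -2, -1])) (.node 25 (.leaf [-1, -2, -2, -4, -3, -2, -1, -1]) (.leaf [-1, -2, -2, -4, -3, -2, -1, 0]))) (.node 28 (.node 27 (.leaf [-1, -2, -2, -3, -3, -3, -2, -1]) (.leaf [-1, -2, -2, -3, -3, -2, -2, -1])) (.node 29 (.leaf [-1, -2, -2, -3, -3, -2, -1, -1]) (.leaf [-1, -2,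 -2, -3, -3, -2, -1, 0])))))) (.node 45 (.node 37 (.node 33 (.node 31 (.leaf [-1, -2, -2, -3, -2, -2, -2, -1]) (.node 32 (.leaf [-1, -2, -2, -3, -2, -2, -1, -1]) (.leaf [-1, -2, -2, -3, -2, -2, -1, 0]))) (.node 35 (.node 34 (.leaf [-1, -2, -2, -3, -2, -1, -1, -1]) (.leaf [-1, -2, -2, -3, -2, -1, -1, 0])) (.node 36 (.leaf [-1, -2, -2, -3, -2, -1, 0, 0]) (.leaf [-1, -1, -2, -3, -3, -3, -2, -1])))) (.node 41 (.node 39 (.node 38 (.leaf [-1, -1, -2, -3, -3, -2, -2, -1]) (.leaf [-1, -1, -2, -3, -3, -2, -1, -1])) (.node 40 (.leaf [-1, -1, -2, -3, -3, -2, -1, 0]) (.leaf [-1, -1, -2, -3, -2, -2, -2, -1]))) (.node 43 (.node 42 (.leaf [-1, -1, -2, -3, -2, -2, -1, -1]) (.leaf [-1, -1, -2, -3, -2, -2, -1, 0])) (.node 44 (.leaf [-1, -1, -2, -3, -2, -1, -1, -1]) (.leaf [-1, -1, -2, -3, -2, -1, -1, 0]))))) (.node 52 (.node 48 (.node 46 (.leaf [-1, -1, -2, -3, -2, -1, 0,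 0]) (.node 47 (.leaf [-1, -1, -2, -2, -2, -2, -2, -1]) (.leaf [-1, -1, -2, -2, -2, -2, -1, -1]))) (.node 50 (.node 49 (.leaf [-1, -1, -2, -2, -2, -2, -1, 0]) (.leaf [-1, -1, -2, -2, -2, -1, -1, -1])) (.node 51 (.leaf [-1, -1, -2, -2, -2, -1, -1, 0]) (.leaf [-1, -1, -2, -2, -2, -1, 0, 0])))) (.node 56 (.node 54 (.node 53 (.leaf [-1, -1, -2, -2, -1, -1, -1, -1]) (.leaf [-1, -1, -2, -2, -1, -1, -1, 0])) (.node 55 (.leaf [-1, -1, -2, -2, -1, -1, 0, 0]) (.leaf [-1, -1, -2, -2, -1, 0, 0, 0]))) (.node 58 (.node 57 (.leaf [-1, -1, -1, -2, -2, -2, -2, -1]) (.leaf [-1, -1, -1, -2, -2, -2, -1, -1])) (.node 59 (.leaf [-1, -1, -1, -2, -2, -2, -1, 0]) (.leaf [-1, -1, -1, -2, -2, -1, -1, -1]))))))) (.node 90 (.node 75 (.node 67 (.node 63 (.node 61 (.leaf [-1, -1, -1, -2, -2, -1, -1, 0]) (.node 62 (.leaf [-1, -1, -1, -2, -2, -1, 0, 0]) (.leaf [-1, -1, -1, -2, -1, -1, -1,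 -1]))) (.node 65 (.node 64 (.leaf [-1, -1, -1, -2, -1, -1, -1, 0]) (.leaf [-1, -1, -1, -2, -1, -1, 0, 0])) (.node 66 (.leaf [-1, -1, -1, -2, -1, 0, 0, 0]) (.leaf [-1, -1, -1, -1, -1, -1, -1, -1])))) (.node 71 (.node 69 (.node 68 (.leaf [-1, -1, -1, -1, -1, -1, -1, 0]) (.leaf [-1, -1, -1, -1, -1, -1, 0, 0])) (.node 70 (.leaf [-1, -1, -1, -1, -1, 0, 0, 0]) (.leaf [-1, -1, -1, -1, 0, 0, 0, 0]))) (.node 73 (.node 72 (.leaf [-1, 0, -1, -1, -1, -1, -1, -1]) (.leaf [-1, 0, -1, -1, -1, -1, -1, 0])) (.node 74 (.leaf [-1, 0, -1, -1, -1, -1, 0, 0]) (.leaf [-1, 0, -1, -1, -1, 0, 0, 0]))))) (.node 82 (.node 78 (.node 76 (.leaf [-1, 0, -1, -1, 0, 0, 0, 0]) (.node 77 (.leaf [-1, 0, -1, 0, 0, 0, 0, 0]) (.leaf [-1, 0, 0, 0, 0, 0, 0, 0]))) (.node 80 (.node 79 (.leaf [0, -1, -1, -2, -2, -2, -2, -1]) (.leaf [0, -1, -1, -2, -2, -2, -1, -1])) (.node 81 (.leaf [0, -1, -1, -2,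 -2, -2, -1, 0]) (.leaf [0, -1, -1, -2, -2, -1, -1, -1])))) (.node 86 (.node 84 (.node 83 (.leaf [0, -1, -1, -2, -2, -1, -1, 0]) (.leaf [0, -1, -1, -2, -2, -1, 0, 0])) (.node 85 (.leaf [0, -1, -1, -2, -1, -1, -1, -1]) (.leaf [0, -1, -1, -2, -1, -1, -1, 0]))) (.node 88 (.node 87 (.leaf [0, -1, -1, -2, -1, -1, 0, 0]) (.leaf [0, -1, -1, -2, -1, 0, 0, 0])) (.node 89 (.leaf [0, -1, -1, -1, -1, -1, -1, -1]) (.leaf [0, -1, -1, -1, -1, -1, -1, 0])))))) (.node 105 (.node 97 (.node 93 (.node 91 (.leaf [0, -1, -1, -1, -1, -1, 0, 0]) (.node 92 (.leaf [0, -1, -1, -1, -1, 0, 0, 0]) (.leaf [0, -1, -1, -1, 0, 0, 0, 0]))) (.node 95 (.node 94 (.leaf [0, -1, 0, -1, -1, -1, -1, -1]) (.leaf [0, -1, 0, -1, -1, -1, -1, 0])) (.node 96 (.leaf [0, -1, 0, -1, -1, -1, 0, 0]) (.leaf [0, -1, 0, -1, -1, 0, 0, 0])))) (.node 101 (.node 99 (.node 98 (.leaf [0, -1, 0, -1, 0, 0, 0, 0]) (.leaf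 [0, -1, 0, 0, 0, 0, 0, 0])) (.node 100 (.leaf [0, 0, -1, -1, -1, -1, -1, -1]) (.leaf [0, 0, -1, -1, -1, -1, -1, 0]))) (.node 103 (.node 102 (.leaf [0, 0, -1, -1, -1, -1, 0, 0]) (.leaf [0, 0, -1, -1, -1, 0, 0, 0])) (.node 104 (.leaf [0, 0, -1, -1, 0, 0, 0, 0]) (.leaf [0, 0, -1, 0, 0, 0, 0, 0]))))) (.node 112 (.node 108 (.node 106 (.leaf [0, 0, 0, -1, -1, -1, -1, -1]) (.node 107 (.leaf [0, 0, 0, -1, -1, -1, -1, 0]) (.leaf [0, 0, 0, -1, -1, -1, 0, 0]))) (.node 110 (.node 109 (.leaf [0, 0, 0, -1, -1, 0, 0, 0]) (.leaf [0, 0, 0, -1, 0, 0, 0, 0])) (.node 111 (.leaf [0, 0, 0, 0, -1, -1, -1, -1]) (.leaf [0, 0, 0, 0, -1, -1, -1, 0])))) (.node 116 (.node 114 (.node 113 (.leaf [0, 0, 0, 0, -1, -1, 0, 0]) (.leaf [0, 0, 0, 0, -1, 0, 0, 0])) (.node 115 (.leaf [0, 0, 0, 0, 0, -1, -1, -1]) (.leaf [0, 0, 0, 0, 0, -1, -1, 0]))) (.node 118 (.node 117 (.leaf [0, 0, 0, 0, 0,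 -1, 0, 0]) (.leaf [0, 0, 0, 0, 0, 0, -1, -1])) (.node 119 (.leaf [0, 0, 0, 0, 0, 0, -1, 0]) (.leaf [0, 0, 0, 0, 0, 0, 0, -1])))))))) (.node 180 (.node 150 (.node 135 (.node 127 (.node 123 (.node 121 (.leaf [0, 0, 0, 0, 0, 0, 0, 1]) (.node 122 (.leaf [0, 0, 0, 0, 0, 0, 1, 0]) (.leaf [0, 0, 0, 0, 0, 0, 1, 1]))) (.node 125 (.node 124 (.leaf [0, 0, 0, 0, 0, 1, 0, 0]) (.leaf [0, 0, 0, 0, 0, 1, 1, 0])) (.node 126 (.leaf [0, 0, 0, 0, 0, 1, 1, 1]) (.leaf [0, 0, 0, 0, 1, 0, 0, 0])))) (.node 131 (.node 129 (.node 128 (.leaf [0, 0, 0, 0, 1, 1, 0, 0]) (.leaf [0, 0, 0, 0, 1, 1, 1, 0])) (.node 130 (.leaf [0, 0, 0, 0, 1, 1, 1, 1]) (.leaf [0, 0, 0, 1, 0, 0, 0, 0]))) (.node 133 (.node 132 (.leaf [0, 0, 0, 1, 1, 0, 0, 0]) (.leaf [0, 0, 0, 1, 1, 1, 0, 0])) (.node 134 (.leaf [0, 0, 0, 1, 1, 1, 1, 0]) (.leaf [0, 0, 0, 1, 1, 1, 1, 1]))))) (.node 142 (.node 138 (.node 136 (.leaf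 [0, 0, 1, 0, 0, 0, 0, 0]) (.node 137 (.leaf [0, 0, 1, 1, 0, 0, 0, 0]) (.leaf [0, 0, 1, 1, 1, 0, 0, 0]))) (.node 140 (.node 139 (.leaf [0, 0, 1, 1, 1, 1, 0, 0]) (.leaf [0, 0, 1, 1, 1, 1, 1, 0])) (.node 141 (.leaf [0, 0, 1, 1, 1, 1, 1, 1]) (.leaf [0, 1, 0, 0, 0, 0, 0, 0])))) (.node 146 (.node 144 (.node 143 (.leaf [0, 1, 0, 1, 0, 0, 0, 0]) (.leaf [0, 1, 0, 1, 1, 0, 0, 0])) (.node 145 (.leaf [0, 1, 0, 1, 1, 1, 0, 0]) (.leaf [0, 1, 0, 1, 1, 1, 1, 0]))) (.node 148 (.node 147 (.leaf [0, 1, 0, 1, 1, 1, 1, 1]) (.leaf [0, 1, 1, 1, 0, 0, 0, 0])) (.node 149 (.leaf [0, 1, 1, 1, 1, 0, 0, 0]) (.leaf [0, 1, 1, 1, 1, 1, 0, 0])))))) (.node 165 (.node 157 (.node 153 (.node 151 (.leaf [0, 1, 1, 1, 1, 1, 1, 0]) (.node 152 (.leaf [0, 1, 1, 1, 1, 1, 1, 1]) (.leaf [0, 1, 1, 2, 1, 0, 0, 0]))) (.node 155 (.node 154 (.leaf [0, 1, 1, 2, 1, 1, 0, 0]) (.leaf [0, 1, 1, 2, 1, 1, 1, 0]))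 (.node 156 (.leaf [0, 1, 1, 2, 1, 1, 1, 1]) (.leaf [0, 1, 1, 2, 2, 1, 0, 0])))) (.node 161 (.node 159 (.node 158 (.leaf [0, 1, 1, 2, 2, 1, 1, 0]) (.leaf [0, 1, 1, 2, 2, 1, 1, 1])) (.node 160 (.leaf [0, 1, 1, 2, 2, 2, 1, 0]) (.leaf [0, 1, 1, 2, 2, 2, 1, 1]))) (.node 163 (.node 162 (.leaf [0, 1, 1, 2, 2, 2, 2, 1]) (.leaf [1, 0, 0, 0, 0, 0, 0, 0])) (.node 164 (.leaf [1, 0, 1, 0, 0, 0, 0, 0]) (.leaf [1, 0, 1, 1, 0, 0, 0, 0]))))) (.node 172 (.node 168 (.node 166 (.leaf [1, 0, 1, 1, 1, 0, 0, 0]) (.node 167 (.leaf [1, 0, 1, 1, 1, 1, 0, 0]) (.leaf [1, 0, 1, 1, 1, 1, 1, 0]))) (.node 170 (.node 169 (.leaf [1, 0, 1, 1, 1, 1, 1, 1]) (.leaf [1, 1, 1, 1, 0, 0, 0, 0])) (.node 171 (.leaf [1, 1, 1, 1, 1, 0, 0, 0]) (.leaf [1, 1, 1, 1, 1, 1, 0, 0])))) (.node 176 (.node 174 (.node 173 (.leaf [1, 1, 1, 1, 1, 1, 1, 0]) (.leaf [1, 1, 1, 1, 1, 1, 1, 1])) (.node 175 (.leaf [1, 1,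 1, 2, 1, 0, 0, 0]) (.leaf [1, 1, 1, 2, 1, 1, 0, 0]))) (.node 178 (.node 177 (.leaf [1, 1, 1, 2, 1, 1, 1, 0]) (.leaf [1, 1, 1, 2, 1, 1, 1, 1])) (.node 179 (.leaf [1, 1, 1, 2, 2, 1, 0, 0]) (.leaf [1, 1, 1, 2, 2, 1, 1, 0]))))))) (.node 210 (.node 195 (.node 187 (.node 183 (.node 181 (.leaf [1, 1, 1, 2, 2, 1, 1, 1]) (.node 182 (.leaf [1, 1, 1, 2, 2, 2, 1, 0]) (.leaf [1, 1, 1, 2, 2, 2, 1, 1]))) (.node 185 (.node 184 (.leaf [1, 1, 1, 2, 2, 2, 2, 1]) (.leaf [1, 1, 2, 2, 1, 0, 0, 0])) (.node 186 (.leaf [1, 1, 2, 2, 1, 1, 0, 0]) (.leaf [1, 1, 2, 2, 1, 1, 1, 0])))) (.node 191 (.node 189 (.node 188 (.leaf [1, 1, 2, 2, 1, 1, 1, 1]) (.leaf [1, 1, 2, 2, 2, 1, 0, 0])) (.node 190 (.leaf [1, 1, 2, 2, 2, 1, 1, 0]) (.leaf [1, 1, 2, 2, 2, 1, 1, 1]))) (.node 193 (.node 192 (.leaf [1, 1, 2, 2, 2, 2, 1, 0]) (.leaf [1, 1, 2, 2, 2, 2, 1, 1])) (.node 194 (.leaf [1, 1, 2, 2, 2, 2,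 2, 1]) (.leaf [1, 1, 2, 3, 2, 1, 0, 0]))))) (.node 202 (.node 198 (.node 196 (.leaf [1, 1, 2, 3, 2, 1, 1, 0]) (.node 197 (.leaf [1, 1, 2, 3, 2, 1, 1, 1]) (.leaf [1, 1, 2, 3, 2, 2, 1, 0]))) (.node 200 (.node 199 (.leaf [1, 1, 2, 3, 2, 2, 1, 1]) (.leaf [1, 1, 2, 3, 2, 2, 2, 1])) (.node 201 (.leaf [1, 1, 2, 3, 3, 2, 1, 0]) (.leaf [1, 1, 2, 3, 3, 2, 1, 1])))) (.node 206 (.node 204 (.node 203 (.leaf [1, 1, 2, 3, 3, 2, 2, 1]) (.leaf [1, 1, 2, 3, 3, 3, 2, 1])) (.node 205 (.leaf [1, 2, 2, 3, 2, 1, 0, 0]) (.leaf [1, 2, 2, 3, 2, 1, 1, 0]))) (.node 208 (.node 207 (.leaf [1, 2, 2, 3, 2, 1, 1, 1]) (.leaf [1, 2, 2, 3, 2, 2, 1, 0])) (.node 209 (.leaf [1, 2, 2, 3, 2, 2, 1, 1]) (.leaf [1, 2, 2, 3, 2, 2, 2, 1])))))) (.node 225 (.node 217 (.node 213 (.node 211 (.leaf [1, 2, 2, 3, 3, 2, 1, 0]) (.node 212 (.leaf [1, 2, 2, 3, 3, 2, 1, 1]) (.leaf [1, 2, 2, 3, 3, 2, 2, 1]))) (.node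 215 (.node 214 (.leaf [1, 2, 2, 3, 3, 3, 2, 1]) (.leaf [1, 2, 2, 4, 3, 2, 1, 0])) (.node 216 (.leaf [1, 2, 2, 4, 3, 2, 1, 1]) (.leaf [1, 2, 2, 4, 3, 2, 2, 1])))) (.node 221 (.node 219 (.node 218 (.leaf [1, 2, 2, 4, 3, 3, 2, 1]) (.leaf [1, 2, 2, 4, 4, 3, 2, 1])) (.node 220 (.leaf [1, 2, 3, 4, 3, 2, 1, 0]) (.leaf [1, 2, 3, 4, 3, 2, 1, 1]))) (.node 223 (.node 222 (.leaf [1, 2, 3, 4, 3, 2, 2, 1]) (.leaf [1, 2, 3, 4, 3, 3, 2, 1])) (.node 224 (.leaf [1, 2, 3, 4, 4, 3, 2, 1]) (.leaf [1, 2, 3, 5, 4, 3, 2, 1]))))) (.node 232 (.node 228 (.node 226 (.leaf [1, 3, 3, 5, 4, 3, 2, 1]) (.node 227 (.leaf [2, 2, 3, 4, 3, 2, 1, 0]) (.leaf [2, 2, 3, 4, 3, 2, 1, 1]))) (.node 230 (.node 229 (.leaf [2, 2, 3, 4, 3, 2, 2, 1]) (.leaf [2, 2, 3, 4, 3, 3, 2, 1])) (.node 231 (.leaf [2, 2, 3, 4, 4, 3, 2, 1]) (.leaf [2, 2, 3, 5, 4, 3, 2, 1])))) (.node 236 (.node 234 (.node 233 (.leaf [2,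 2, 4, 5, 4, 3, 2, 1]) (.leaf [2, 3, 3, 5, 4, 3, 2, 1])) (.node 235 (.leaf [2, 3, 4, 5, 4, 3, 2, 1]) (.leaf [2, 3, 4, 6, 4, 3, 2, 1]))) (.node 238 (.node 237 (.leaf [2, 3, 4, 6, 5, 3, 2, 1]) (.leaf [2, 3, 4, 6, 5, 4, 2, 1])) (.node 239 (.leaf [2, 3, 4, 6, 5, 4, 3, 1]) (.leaf [2, 3, 4, 6, 5, 4, 3, 2]))))))))
def e8WeylAct : WTree (List ℕ) := .node 120 (.node 60 (.node 30 (.node 15 (.node 7 (.node 3 (.node 1 (.leaf [0, 0, 0, 0, 0, 0, 0, 1]) (.node 2 (.leaf [1, 1, 1, 1, 1, 1, 2, 0]) (.leaf [2, 2, 2, 2, 2, 3, 1, 2]))) (.node 5 (.node 4 (.leaf [3, 3, 3, 3, 4, 2, 3, 3]) (.leaf [4, 4, 4, 5, 3, 4, 4, 4])) (.node 6 (.leaf [5, 7, 6, 4, 5, 5, 5, 5]) (.leaf [14, 8, 5, 6, 6, 6, 6, 6])))) (.node 11 (.node 9 (.node 8 (.leaf [7, 5, 8, 7, 7, 7, 7, 7]) (.leaf [15, 6, 7, 9, 8, 8, 8, 8])) (.node 10 (.leaf [16, 9, 9, 8, 10, 9, 9, 9]) (.leaf [17, 10, 10, 10, 9, 11, 10, 10])))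 (.node 13 (.node 12 (.leaf [18, 11, 11, 11, 11, 10, 12, 11]) (.leaf [19, 12, 12, 12, 12, 12, 11, 13])) (.node 14 (.leaf [20, 13, 13, 13, 13, 13, 13, 12]) (.leaf [6, 15, 14, 14, 14, 14, 14, 14]))))) (.node 22 (.node 18 (.node 16 (.leaf [8, 14, 15, 16, 15, 15, 15, 15]) (.node 17 (.leaf [9, 16, 21, 15, 17, 16, 16, 16]) (.leaf [10, 17, 22, 17, 16, 18, 17, 17]))) (.node 20 (.node 19 (.leaf [11, 18, 23, 18, 18, 17, 19, 18]) (.leaf [12, 19, 24, 19, 19, 19, 18, 20])) (.node 21 (.leaf [13, 20, 25, 20, 20, 20, 20, 19]) (.leaf [21, 21, 16, 21, 22, 21, 21, 21])))) (.node 26 (.node 24 (.node 23 (.leaf [22, 22, 17, 26, 21, 23, 22, 22]) (.leaf [23, 23, 18, 27, 23, 22, 24, 23])) (.node 25 (.leaf [24, 24, 19, 28, 24, 24, 23, 25]) (.leaf [25, 25, 20, 29, 25, 25, 25, 24]))) (.node 28 (.node 27 (.leaf [26, 36, 26, 22, 26, 27, 26, 26]) (.leaf [27, 37, 27, 23, 30, 26, 28, 27]))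 (.node 29 (.leaf [28, 38, 28, 24, 31, 28, 27, 29]) (.leaf [29, 39, 29, 25, 32, 29, 29, 28])))))) (.node 45 (.node 37 (.node 33 (.node 31 (.leaf [30, 40, 30, 30, 27, 30, 31, 30]) (.node 32 (.leaf [31, 41, 31, 31, 28, 33, 30, 32]) (.leaf [32, 42, 32, 32, 29, 34, 32, 31]))) (.node 35 (.node 34 (.leaf [33, 43, 33, 33, 33, 31, 33, 34]) (.leaf [34, 44, 34, 34, 34, 32, 35, 33])) (.node 36 (.leaf [35, 45, 35, 35, 35, 35, 34, 35]) (.leaf [36, 26, 36, 36, 36, 37, 36, 36])))) (.node 41 (.node 39 (.node 38 (.leaf [37, 27, 37, 37, 40, 36, 38, 37]) (.leaf [38, 28, 38, 38, 41, 38, 37, 39])) (.node 40 (.leaf [39, 29, 39, 39, 42, 39, 39, 38]) (.leaf [40, 30, 40, 46, 37, 40, 41, 40]))) (.node 43 (.node 42 (.leaf [41, 31, 41, 47, 38, 43, 40, 42]) (.leaf [42, 32, 42, 48, 39, 44, 42, 41])) (.node 44 (.leaf [43, 33, 43, 49, 43, 41, 43, 44]) (.leaf [44, 34, 44, 50, 44, 42, 45,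 43]))))) (.node 52 (.node 48 (.node 46 (.leaf [45, 35, 45, 51, 45, 45, 44, 45]) (.node 47 (.leaf [46, 46, 56, 40, 46, 46, 47, 46]) (.leaf [47, 47, 57, 41, 47, 49, 46, 48]))) (.node 50 (.node 49 (.leaf [48, 48, 58, 42, 48, 50, 48, 47]) (.leaf [49, 49, 59, 43, 52, 47, 49, 50])) (.node 51 (.leaf [50, 50, 60, 44, 53, 48, 51, 49]) (.leaf [51, 51, 61, 45, 54, 51, 50, 51])))) (.node 56 (.node 54 (.node 53 (.leaf [52, 52, 62, 52, 49, 52, 52, 53]) (.leaf [53, 53, 63, 53, 50, 53, 54, 52])) (.node 55 (.leaf [54, 54, 64, 54, 51, 55, 53, 54]) (.leaf [55, 55, 65, 55, 55, 54, 55, 55]))) (.node 58 (.node 57 (.leaf [78, 56, 46, 56, 56, 56, 57, 56]) (.leaf [79, 57, 47, 57, 57, 59, 56, 58])) (.node 59 (.leaf [80, 58, 48, 58, 58, 60, 58, 57]) (.leaf [81, 59, 49, 59, 62, 57, 59, 60]))))))) (.node 90 (.node 75 (.node 67 (.node 63 (.node 61 (.leaf [82, 60, 50, 60, 63, 58, 61,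 59]) (.node 62 (.leaf [83, 61, 51, 61, 64, 61, 60, 61]) (.leaf [84, 62, 52, 66, 59, 62, 62, 63]))) (.node 65 (.node 64 (.leaf [85, 63, 53, 67, 60, 63, 64, 62]) (.leaf [86, 64, 54, 68, 61, 65, 63, 64])) (.node 66 (.leaf [87, 65, 55, 69, 65, 64, 65, 65]) (.leaf [88, 71, 66, 62, 66, 66, 66, 67])))) (.node 71 (.node 69 (.node 68 (.leaf [89, 72, 67, 63, 67, 67, 68, 66]) (.leaf [90, 73, 68, 64, 68, 69, 67, 68])) (.node 70 (.leaf [91, 74, 69, 65, 70, 68, 69, 69]) (.leaf [92, 75, 70, 70, 69, 70, 70, 70]))) (.node 73 (.node 72 (.leaf [99, 66, 71, 71, 71, 71, 71, 72]) (.leaf [100, 67, 72, 72, 72, 72, 73, 71])) (.node 74 (.leaf [101, 68, 73, 73, 73, 74, 72, 73]) (.leaf [102, 69, 74, 74, 75, 73, 74, 74]))))) (.node 82 (.node 78 (.node 76 (.leaf [103, 70, 75, 76, 74, 75, 75, 75]) (.node 77 (.leaf [104, 76, 77, 75, 76, 76, 76, 76]) (.leaf [162, 77, 76, 77, 77, 77, 77,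 77]))) (.node 80 (.node 79 (.leaf [56, 78, 78, 78, 78, 78, 79, 78]) (.leaf [57, 79, 79, 79, 79, 81, 78, 80])) (.node 81 (.leaf [58, 80, 80, 80, 80, 82, 80, 79]) (.leaf [59, 81, 81, 81, 84, 79, 81, 82])))) (.node 86 (.node 84 (.node 83 (.leaf [60, 82, 82, 82, 85, 80, 83, 81]) (.leaf [61, 83, 83, 83, 86, 83, 82, 83])) (.node 85 (.leaf [62, 84, 84, 88, 81, 84, 84, 85]) (.leaf [63, 85, 85, 89, 82, 85, 86, 84]))) (.node 88 (.node 87 (.leaf [64, 86, 86, 90, 83, 87, 85, 86]) (.leaf [65, 87, 87, 91, 87, 86, 87, 87])) (.node 89 (.leaf [66, 99, 93, 84, 88, 88, 88, 89]) (.leaf [67, 100, 94, 85, 89, 89, 90, 88])))))) (.node 105 (.node 97 (.node 93 (.node 91 (.leaf [68, 101, 95, 86, 90, 91, 89, 90]) (.node 92 (.leaf [69, 102, 96, 87, 92, 90, 91, 91]) (.leaf [70, 103, 97, 92, 91, 92, 92, 92]))) (.node 95 (.node 94 (.leaf [93, 105, 88, 93, 93, 93, 93, 94]) (.leaf [94,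 106, 89, 94, 94, 94, 95, 93])) (.node 96 (.leaf [95, 107, 90, 95, 95, 96, 94, 95]) (.leaf [96, 108, 91, 96, 97, 95, 96, 96])))) (.node 101 (.node 99 (.node 98 (.leaf [97, 109, 92, 98, 96, 97, 97, 97]) (.leaf [98, 141, 98, 97, 98, 98, 98, 98])) (.node 100 (.leaf [71, 88, 105, 99, 99, 99, 99, 100]) (.leaf [72, 89, 106, 100, 100, 100, 101, 99]))) (.node 103 (.node 102 (.leaf [73, 90, 107, 101, 101, 102, 100, 101]) (.leaf [74, 91, 108, 102, 103, 101, 102, 102])) (.node 104 (.leaf [75, 92, 109, 104, 102, 103, 103, 103]) (.leaf [76, 104, 135, 103, 104, 104, 104, 104]))))) (.node 112 (.node 108 (.node 106 (.leaf [105, 93, 99, 110, 105, 105, 105, 106]) (.node 107 (.leaf [106, 94, 100, 111, 106, 106, 107, 105]) (.leaf [107, 95, 101, 112, 107, 108, 106, 107]))) (.node 110 (.node 109 (.leaf [108, 96, 102, 113, 109, 107, 108, 108]) (.leaf [109, 97, 103, 130, 108, 109,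 109, 109])) (.node 111 (.leaf [110, 110, 110, 105, 114, 110, 110, 111]) (.leaf [111, 111, 111, 106, 115, 111, 112, 110])))) (.node 116 (.node 114 (.node 113 (.leaf [112, 112, 112, 107, 116, 113, 111, 112]) (.leaf [113, 113, 113, 108, 126, 112, 113, 113])) (.node 115 (.leaf [114, 114, 114, 114, 110, 117, 114, 115]) (.leaf [115, 115, 115, 115, 111, 118, 116, 114]))) (.node 118 (.node 117 (.leaf [116, 116, 116, 116, 112, 123, 115, 116]) (.leaf [117, 117, 117, 117, 117, 114, 119, 118])) (.node 119 (.leaf [118, 118, 118, 118, 118, 115, 121, 117]) (.leaf [119, 119, 119, 119, 119, 119, 117, 120])))))))) (.node 180 (.node 150 (.node 135 (.node 127 (.node 123 (.node 121 (.leaf [120, 120, 120, 120, 120, 120, 122, 119]) (.node 122 (.leaf [121, 121, 121, 121, 121, 124, 118, 122]) (.leaf [122, 122, 122, 122, 122, 125, 120, 121]))) (.node 125 (.node 124 (.leaf [123, 123,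 123, 123, 127, 116, 124, 123]) (.leaf [124, 124, 124, 124, 128, 121, 123, 125])) (.node 126 (.leaf [125, 125, 125, 125, 129, 122, 125, 124]) (.leaf [126, 126, 126, 131, 113, 127, 126, 126])))) (.node 131 (.node 129 (.node 128 (.leaf [127, 127, 127, 132, 123, 126, 128, 127]) (.leaf [128, 128, 128, 133, 124, 128, 127, 129])) (.node 130 (.leaf [129, 129, 129, 134, 125, 129, 129, 128]) (.leaf [130, 142, 136, 109, 131, 130, 130, 130]))) (.node 133 (.node 132 (.leaf [131, 143, 137, 126, 130, 132, 131, 131]) (.leaf [132, 144, 138, 127, 132, 131, 133, 132])) (.node 134 (.leaf [133, 145, 139, 128, 133, 133, 132, 134]) (.leaf [134, 146, 140, 129, 134, 134, 134, 133]))))) (.node 142 (.node 138 (.node 136 (.leaf [163, 135, 104, 136, 135, 135, 135, 135]) (.node 137 (.leaf [164, 147, 130, 135, 137, 136, 136, 136]) (.leaf [165, 148, 131, 137, 136, 138, 137, 137]))) (.node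 140 (.node 139 (.leaf [166, 149, 132, 138, 138, 137, 139, 138]) (.leaf [167, 150, 133, 139, 139, 139, 138, 140])) (.node 141 (.leaf [168, 151, 134, 140, 140, 140, 140, 139]) (.leaf [141, 98, 141, 142, 141, 141, 141, 141])))) (.node 146 (.node 144 (.node 143 (.leaf [142, 130, 147, 141, 143, 142, 142, 142]) (.leaf [143, 131, 148, 143, 142, 144, 143, 143])) (.node 145 (.leaf [144, 132, 149, 144, 144, 143, 145, 144]) (.leaf [145, 133, 150, 145, 145, 145, 144, 146]))) (.node 148 (.node 147 (.leaf [146, 134, 151, 146, 146, 146, 146, 145]) (.leaf [169, 136, 142, 147, 148, 147, 147, 147])) (.node 149 (.leaf [170, 137, 143, 152, 147, 149, 148, 148]) (.leaf [171, 138, 144, 153, 149, 148, 150, 149])))))) (.node 165 (.node 157 (.node 153 (.node 151 (.leaf [172, 139, 145, 154, 150, 150, 149, 151]) (.node 152 (.leaf [173, 140, 146, 155, 151, 151, 151, 150]) (.leaf [174,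 152, 152, 148, 152, 153, 152, 152]))) (.node 155 (.node 154 (.leaf [175, 153, 153, 149, 156, 152, 154, 153]) (.leaf [176, 154, 154, 150, 157, 154, 153, 155])) (.node 156 (.leaf [177, 155, 155, 151, 158, 155, 155, 154]) (.leaf [178, 156, 156, 156, 153, 156, 157, 156])))) (.node 161 (.node 159 (.node 158 (.leaf [179, 157, 157, 157, 154, 159, 156, 158]) (.leaf [180, 158, 158, 158, 155, 160, 158, 157])) (.node 160 (.leaf [181, 159, 159, 159, 159, 157, 159, 160]) (.leaf [182, 160, 160, 160, 160, 158, 161, 159]))) (.node 163 (.node 162 (.leaf [183, 161, 161, 161, 161, 161, 160, 161]) (.leaf [77, 162, 163, 162, 162, 162, 162, 162])) (.node 164 (.leaf [135, 163, 162, 164, 163, 163, 163, 163]) (.leaf [136, 169, 164, 163, 165, 164, 164, 164]))))) (.node 172 (.node 168 (.node 166 (.leaf [137, 170, 165, 165, 164, 166, 165, 165]) (.node 167 (.leaf [138, 171, 166, 166,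 166, 165, 167, 166]) (.leaf [139, 172, 167, 167, 167, 167, 166, 168]))) (.node 170 (.node 169 (.leaf [140, 173, 168, 168, 168, 168, 168, 167]) (.leaf [147, 164, 169, 169, 170, 169, 169, 169])) (.node 171 (.leaf [148, 165, 170, 174, 169, 171, 170, 170]) (.leaf [149, 166, 171, 175, 171, 170, 172, 171])))) (.node 176 (.node 174 (.node 173 (.leaf [150, 167, 172, 176, 172, 172, 171, 173]) (.leaf [151, 168, 173, 177, 173, 173, 173, 172])) (.node 175 (.leaf [152, 174, 184, 170, 174, 175, 174, 174]) (.leaf [153, 175, 185, 171, 178, 174, 176, 175]))) (.node 178 (.node 177 (.leaf [154, 176, 186, 172, 179, 176, 175, 177]) (.leaf [155, 177, 187, 173, 180, 177, 177, 176])) (.node 179 (.leaf [156, 178, 188, 178, 175, 178, 179, 178]) (.leaf [157, 179, 189, 179, 176, 181, 178, 180]))))))) (.node 210 (.node 195 (.node 187 (.node 183 (.node 181 (.leaf [158, 180, 190, 180,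 177, 182, 180, 179]) (.node 182 (.leaf [159, 181, 191, 181, 181, 179, 181, 182]) (.leaf [160, 182, 192, 182, 182, 180, 183, 181]))) (.node 185 (.node 184 (.leaf [161, 183, 193, 183, 183, 183, 182, 183]) (.leaf [184, 184, 174, 184, 184, 185, 184, 184])) (.node 186 (.leaf [185, 185, 175, 185, 188, 184, 186, 185]) (.leaf [186, 186, 176, 186, 189, 186, 185, 187])))) (.node 191 (.node 189 (.node 188 (.leaf [187, 187, 177, 187, 190, 187, 187, 186]) (.leaf [188, 188, 178, 194, 185, 188, 189, 188])) (.node 190 (.leaf [189, 189, 179, 195, 186, 191, 188, 190]) (.leaf [190, 190, 180, 196, 187, 192, 190, 189]))) (.node 193 (.node 192 (.leaf [191, 191, 181, 197, 191, 189, 191, 192]) (.leaf [192, 192, 182, 198, 192, 190, 193, 191])) (.node 194 (.leaf [193, 193, 183, 199, 193, 193, 192, 193]) (.leaf [194, 204, 194, 188, 194, 194, 195, 194]))))) (.node 202 (.node 198 (.node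 196 (.leaf [195, 205, 195, 189, 195, 197, 194, 196]) (.node 197 (.leaf [196, 206, 196, 190, 196, 198, 196, 195]) (.leaf [197, 207, 197, 191, 200, 195, 197, 198]))) (.node 200 (.node 199 (.leaf [198, 208, 198, 192, 201, 196, 199, 197]) (.leaf [199, 209, 199, 193, 202, 199, 198, 199])) (.node 201 (.leaf [200, 210, 200, 200, 197, 200, 200, 201]) (.leaf [201, 211, 201, 201, 198, 201, 202, 200])))) (.node 206 (.node 204 (.node 203 (.leaf [202, 212, 202, 202, 199, 203, 201, 202]) (.leaf [203, 213, 203, 203, 203, 202, 203, 203])) (.node 205 (.leaf [204, 194, 204, 204, 204, 204, 205, 204]) (.leaf [205, 195, 205, 205, 205, 207, 204, 206]))) (.node 208 (.node 207 (.leaf [206, 196, 206, 206, 206, 208, 206, 205]) (.leaf [207, 197, 207, 207, 210, 205, 207, 208])) (.node 209 (.leaf [208, 198, 208, 208, 211, 206, 209, 207]) (.leaf [209, 199, 209, 209, 212, 209, 208, 209]))))))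 (.node 225 (.node 217 (.node 213 (.node 211 (.leaf [210, 200, 210, 214, 207, 210, 210, 211]) (.node 212 (.leaf [211, 201, 211, 215, 208, 211, 212, 210]) (.leaf [212, 202, 212, 216, 209, 213, 211, 212]))) (.node 215 (.node 214 (.leaf [213, 203, 213, 217, 213, 212, 213, 213]) (.leaf [214, 214, 219, 210, 214, 214, 214, 215])) (.node 216 (.leaf [215, 215, 220, 211, 215, 215, 216, 214]) (.leaf [216, 216, 221, 212, 216, 217, 215, 216])))) (.node 221 (.node 219 (.node 218 (.leaf [217, 217, 222, 213, 218, 216, 217, 217]) (.leaf [218, 218, 223, 218, 217, 218, 218, 218])) (.node 220 (.leaf [226, 219, 214, 219, 219, 219, 219, 220]) (.leaf [227, 220, 215, 220, 220, 220, 221, 219]))) (.node 223 (.node 222 (.leaf [228, 221, 216, 221, 221, 222, 220, 221]) (.leaf [229, 222, 217, 222, 223, 221, 222, 222])) (.node 224 (.leaf [230, 223, 218, 224, 222, 223, 223, 223]) (.leaf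 [231, 225, 224, 223, 224, 224, 224, 224]))))) (.node 232 (.node 228 (.node 226 (.leaf [233, 224, 225, 225, 225, 225, 225, 225]) (.node 227 (.leaf [219, 226, 226, 226, 226, 226, 226, 227]) (.leaf [220, 227, 227, 227, 227, 227, 228, 226]))) (.node 230 (.node 229 (.leaf [221, 228, 228, 228, 228, 229, 227, 228]) (.leaf [222, 229, 229, 229, 230, 228, 229, 229])) (.node 231 (.leaf [223, 230, 230, 231, 229, 230, 230, 230]) (.leaf [224, 233, 232, 230, 231, 231, 231, 231])))) (.node 236 (.node 234 (.node 233 (.leaf [232, 234, 231, 232, 232, 232, 232, 232]) (.leaf [225, 231, 234, 233, 233, 233, 233, 233])) (.node 235 (.leaf [234, 232, 233, 235, 234, 234, 234, 234]) (.leaf [235, 235, 235, 234, 236, 235, 235, 235]))) (.node 238 (.node 237 (.leaf [236, 236, 236, 236, 235, 237, 236, 236]) (.leaf [237, 237, 237, 237, 237, 236, 238, 237])) (.node 239 (.leaf [238, 238, 238,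 238, 238, 238, 237, 239]) (.leaf [239, 239, 239, 239, 239, 239, 239, 238]))))))))

/-- The root system of type E8. -/
def e8Weyl : WeylData 8 240 where
  A i j := (([[2, 0, -1, 0, 0, 0, 0, 0], [0, 2, 0, -1, 0, 0, 0, 0], [-1, 0, 2, -1, 0, 0, 0, 0], [0, -1, -1, 2, -1, 0, 0, 0], [0, 0, 0, -1, 2, -1, 0, 0], [0, 0, 0, 0, -1, 2, -1, 0], [0, 0, 0, 0, 0, -1, 2, -1], [0, 0, 0, 0, 0, 0, -1, 2]] : List (List ℤ)).getD i.val []).getD j.val 0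
  d i := ([1, 1, 1, 1, 1, 1, 1, 1] : List ℤ).getD i.val 0
  M := CoxeterMatrix.E₈
  v r k := (e8WeylRoots.get r.val).getD k.val 0
  simple i := Fin.ofNat 240 (([162, 141, 135, 130, 126, 123, 121, 120] : List ℕ).getD i.val 0)
  act i r := Fin.ofNat 240 ((e8WeylAct.get r.val).getD i.val 0)

set_option backward.isDefEq.respectTransparency false in
theorem e8Weyl_valid : e8Weyl.Valid := by
  constructor <;> decide +kernel

def e8Orb0V : WTree (List ℤ) := .node 120 (.node 60 (.node 30 (.node 15 (.node 7 (.node 3 (.node 1 (.leaf [2, 3, 4, 6, 5, 4, 3, 2]) (.node 2 (.leaf [2, 3, 4, 6, 5, 4, 3, 1]) (.leaf [2, 3, 4, 6, 5, 4, 2, 1]))) (.node 5 (.node 4 (.leaf [2, 3, 4, 6, 5, 3, 2, 1]) (.leaf [2, 3, 4, 6, 4, 3, 2, 1])) (.node 6 (.leaf [2, 3, 4, 5, 4, 3, 2, 1]) (.leaf [2, 2, 4, 5, 4, 3, 2, 1])))) (.node 11 (.node 9 (.node 8 (.leaf [2, 3, 3, 5, 4, 3, 2, 1]) (.leaf [1,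 3, 3, 5, 4, 3, 2, 1])) (.node 10 (.leaf [2, 2, 3, 5, 4, 3, 2, 1]) (.leaf [1, 2, 3, 5, 4, 3, 2, 1]))) (.node 13 (.node 12 (.leaf [2, 2, 3, 4, 4, 3, 2, 1]) (.leaf [1, 2, 3, 4, 4, 3, 2, 1])) (.node 14 (.leaf [1, 2, 2, 4, 4, 3, 2, 1]) (.leaf [2, 2, 3, 4, 3, 3, 2, 1]))))) (.node 22 (.node 18 (.node 16 (.leaf [1, 2, 3, 4, 3, 3, 2, 1]) (.node 17 (.leaf [1, 2, 2, 4, 3, 3, 2, 1]) (.leaf [1, 2, 2, 3, 3, 3, 2, 1]))) (.node 20 (.node 19 (.leaf [1, 1, 2, 3, 3, 3, 2, 1]) (.leaf [2, 2, 3, 4, 3, 2, 2, 1])) (.node 21 (.leaf [1, 2, 3, 4, 3, 2, 2, 1]) (.leaf [1, 2, 2, 4, 3, 2, 2, 1])))) (.node 26 (.node 24 (.node 23 (.leaf [1, 2, 2, 3, 3, 2, 2, 1]) (.leaf [1, 1, 2, 3, 3, 2, 2, 1])) (.node 25 (.leaf [1, 2, 2, 3, 2, 2, 2, 1]) (.leaf [1, 1, 2, 3, 2, 2, 2, 1]))) (.node 28 (.node 27 (.leaf [1, 1, 2, 2, 2, 2, 2, 1]) (.leaf [1, 1, 1, 2, 2, 2, 2, 1])) (.node 29 (.leaf [0, 1, 1, 2,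 2, 2, 2, 1]) (.leaf [2, 2, 3, 4, 3, 2, 1, 1])))))) (.node 45 (.node 37 (.node 33 (.node 31 (.leaf [1, 2, 3, 4, 3, 2, 1, 1]) (.node 32 (.leaf [1, 2, 2, 4, 3, 2, 1, 1]) (.leaf [1, 2, 2, 3, 3, 2, 1, 1]))) (.node 35 (.node 34 (.leaf [1, 1, 2, 3, 3, 2, 1, 1]) (.leaf [1, 2, 2, 3, 2, 2, 1, 1])) (.node 36 (.leaf [1, 1, 2, 3, 2, 2, 1, 1]) (.leaf [1, 1, 2, 2, 2, 2, 1, 1])))) (.node 41 (.node 39 (.node 38 (.leaf [1, 1, 1, 2, 2, 2, 1, 1]) (.leaf [0, 1, 1, 2, 2, 2, 1, 1])) (.node 40 (.leaf [1, 2, 2, 3, 2, 1, 1, 1]) (.leaf [1, 1, 2, 3, 2, 1, 1, 1]))) (.node 43 (.node 42 (.leaf [1, 1, 2, 2, 2, 1, 1, 1]) (.leaf [1, 1, 1, 2, 2, 1, 1, 1])) (.node 44 (.leaf [0, 1, 1, 2, 2, 1, 1, 1]) (.leaf [1, 1, 2, 2, 1, 1, 1, 1]))))) (.node 52 (.node 48 (.node 46 (.leaf [1, 1, 1, 2, 1, 1, 1, 1]) (.node 47 (.leaf [0, 1, 1, 2, 1, 1, 1, 1]) (.leaf [1, 1, 1, 1, 1, 1, 1, 1]))) (.node 50 (.node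 49 (.leaf [0, 1, 1, 1, 1, 1, 1, 1]) (.leaf [1, 0, 1, 1, 1, 1, 1, 1])) (.node 51 (.leaf [0, 0, 1, 1, 1, 1, 1, 1]) (.leaf [0, 1, 0, 1, 1, 1, 1, 1])))) (.node 56 (.node 54 (.node 53 (.leaf [0, 0, 0, 1, 1, 1, 1, 1]) (.leaf [0, 0, 0, 0, 1, 1, 1, 1])) (.node 55 (.leaf [0, 0, 0, 0, 0, 1, 1, 1]) (.leaf [0, 0, 0, 0, 0, 0, 1, 1]))) (.node 58 (.node 57 (.leaf [0, 0, 0, 0, 0, 0, 0, 1]) (.leaf [2, 2, 3, 4, 3, 2, 1, 0])) (.node 59 (.leaf [1, 2, 3, 4, 3, 2, 1, 0]) (.leaf [1, 2, 2, 4, 3, 2, 1, 0]))))))) (.node 90 (.node 75 (.node 67 (.node 63 (.node 61 (.leaf [1, 2, 2, 3, 3, 2, 1, 0]) (.node 62 (.leaf [1, 1, 2, 3, 3, 2, 1, 0]) (.leaf [1, 2, 2, 3, 2, 2, 1, 0]))) (.node 65 (.node 64 (.leaf [1, 1, 2, 3, 2, 2, 1, 0]) (.leaf [1, 1, 2, 2, 2, 2, 1, 0])) (.node 66 (.leaf [1, 1, 1, 2, 2, 2, 1, 0]) (.leaf [0, 1, 1, 2, 2, 2, 1, 0])))) (.node 71 (.node 69 (.node 68 (.leaf [1, 2, 2,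 3, 2, 1, 1, 0]) (.leaf [1, 1, 2, 3, 2, 1, 1, 0])) (.node 70 (.leaf [1, 1, 2, 2, 2, 1, 1, 0]) (.leaf [1, 1, 1, 2, 2, 1, 1, 0]))) (.node 73 (.node 72 (.leaf [0, 1, 1, 2, 2, 1, 1, 0]) (.leaf [1, 1, 2, 2, 1, 1, 1, 0])) (.node 74 (.leaf [1, 1, 1, 2, 1, 1, 1, 0]) (.leaf [0, 1, 1, 2, 1, 1, 1, 0]))))) (.node 82 (.node 78 (.node 76 (.leaf [1, 1, 1, 1, 1, 1, 1, 0]) (.node 77 (.leaf [0, 1, 1, 1, 1, 1, 1, 0]) (.leaf [1, 0, 1, 1, 1, 1, 1, 0]))) (.node 80 (.node 79 (.leaf [0, 0, 1, 1, 1, 1, 1, 0]) (.leaf [0, 1, 0, 1, 1, 1, 1, 0])) (.node 81 (.leaf [0, 0, 0, 1, 1, 1, 1, 0]) (.leaf [0, 0, 0, 0, 1, 1, 1, 0])))) (.node 86 (.node 84 (.node 83 (.leaf [0, 0, 0, 0, 0, 1, 1, 0]) (.leaf [0, 0, 0, 0, 0, 0, 1, 0])) (.node 85 (.leaf [1, 2, 2, 3, 2, 1, 0, 0]) (.leaf [1, 1, 2, 3, 2, 1, 0, 0]))) (.node 88 (.node 87 (.leaf [1, 1, 2, 2, 2, 1, 0, 0]) (.leaf [1, 1, 1, 2, 2, 1, 0, 0])) (.node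 89 (.leaf [0, 1, 1, 2, 2, 1, 0, 0]) (.leaf [1, 1, 2, 2, 1, 1, 0, 0])))))) (.node 105 (.node 97 (.node 93 (.node 91 (.leaf [1, 1, 1, 2, 1, 1, 0, 0]) (.node 92 (.leaf [0, 1, 1, 2, 1, 1, 0, 0]) (.leaf [1, 1, 1, 1, 1, 1, 0, 0]))) (.node 95 (.node 94 (.leaf [0, 1, 1, 1, 1, 1, 0, 0]) (.leaf [1, 0, 1, 1, 1, 1, 0, 0])) (.node 96 (.leaf [0, 0, 1, 1, 1, 1, 0, 0]) (.leaf [0, 1, 0, 1, 1, 1, 0, 0])))) (.node 101 (.node 99 (.node 98 (.leaf [0, 0, 0, 1, 1, 1, 0, 0]) (.leaf [0, 0, 0, 0, 1, 1, 0, 0])) (.node 100 (.leaf [0, 0, 0, 0, 0, 1, 0, 0]) (.leaf [1, 1, 2, 2, 1, 0, 0, 0]))) (.node 103 (.node 102 (.leaf [1, 1, 1, 2, 1, 0, 0, 0]) (.leaf [0, 1, 1, 2, 1, 0, 0, 0])) (.node 104 (.leaf [1, 1, 1, 1, 1, 0, 0, 0]) (.leaf [0, 1, 1, 1, 1, 0, 0, 0]))))) (.node 112 (.node 108 (.node 106 (.leaf [1, 0, 1, 1, 1, 0, 0, 0]) (.node 107 (.leaf [0, 0, 1, 1, 1, 0, 0, 0]) (.leaf [0, 1, 0,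 1, 1, 0, 0, 0]))) (.node 110 (.node 109 (.leaf [0, 0, 0, 1, 1, 0, 0, 0]) (.leaf [0, 0, 0, 0, 1, 0, 0, 0])) (.node 111 (.leaf [1, 1, 1, 1, 0, 0, 0, 0]) (.leaf [0, 1, 1, 1, 0, 0, 0, 0])))) (.node 116 (.node 114 (.node 113 (.leaf [1, 0, 1, 1, 0, 0, 0, 0]) (.leaf [0, 0, 1, 1, 0, 0, 0, 0])) (.node 115 (.leaf [0, 1, 0, 1, 0, 0, 0, 0]) (.leaf [0, 0, 0, 1, 0, 0, 0, 0]))) (.node 118 (.node 117 (.leaf [1, 0, 1, 0, 0, 0, 0, 0]) (.leaf [0, 0, 1, 0, 0, 0, 0, 0])) (.node 119 (.leaf [0, 1, 0, 0, 0, 0, 0, 0]) (.leaf [1, 0, 0, 0, 0, 0, 0, 0])))))))) (.node 180 (.node 150 (.node 135 (.node 127 (.node 123 (.node 121 (.leaf [-1, 0, 0, 0, 0, 0, 0, 0]) (.node 122 (.leaf [0, -1, 0, 0, 0, 0, 0, 0]) (.leaf [0, 0, -1, 0, 0, 0, 0, 0]))) (.node 125 (.node 124 (.leaf [-1, 0, -1, 0, 0, 0, 0, 0]) (.leaf [0, 0, 0, -1, 0, 0, 0, 0])) (.node 126 (.leaf [0, -1, 0, -1, 0, 0, 0, 0]) (.leaf [0,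 0, -1, -1, 0, 0, 0, 0])))) (.node 131 (.node 129 (.node 128 (.leaf [-1, 0, -1, -1, 0, 0, 0, 0]) (.leaf [0, -1, -1, -1, 0, 0, 0, 0])) (.node 130 (.leaf [-1, -1, -1, -1, 0, 0, 0, 0]) (.leaf [0, 0, 0, 0, -1, 0, 0, 0]))) (.node 133 (.node 132 (.leaf [0, 0, 0, -1, -1, 0, 0, 0]) (.leaf [0, -1, 0, -1, -1, 0, 0, 0])) (.node 134 (.leaf [0, 0, -1, -1, -1, 0, 0, 0]) (.leaf [-1, 0, -1, -1, -1, 0, 0, 0]))))) (.node 142 (.node 138 (.node 136 (.leaf [0, -1, -1, -1, -1, 0, 0, 0]) (.node 137 (.leaf [-1, -1, -1, -1, -1, 0, 0, 0]) (.leaf [0, -1, -1, -2, -1, 0, 0, 0]))) (.node 140 (.node 139 (.leaf [-1, -1, -1, -2, -1, 0, 0, 0]) (.leaf [-1, -1, -2, -2, -1, 0, 0, 0])) (.node 141 (.leaf [0, 0, 0, 0, 0, -1, 0, 0]) (.leaf [0, 0, 0, 0, -1, -1, 0, 0])))) (.node 146 (.node 144 (.node 143 (.leaf [0, 0, 0, -1, -1, -1, 0, 0]) (.leaf [0, -1, 0, -1, -1, -1, 0, 0])) (.node 145 (.leaf [0,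 0, -1, -1, -1, -1, 0, 0]) (.leaf [-1, 0, -1, -1, -1, -1, 0, 0]))) (.node 148 (.node 147 (.leaf [0, -1, -1, -1, -1, -1, 0, 0]) (.leaf [-1, -1, -1, -1, -1, -1, 0, 0])) (.node 149 (.leaf [0, -1, -1, -2, -1, -1, 0, 0]) (.leaf [-1, -1, -1, -2, -1, -1, 0, 0])))))) (.node 165 (.node 157 (.node 153 (.node 151 (.leaf [-1, -1, -2, -2, -1, -1, 0, 0]) (.node 152 (.leaf [0, -1, -1, -2, -2, -1, 0, 0]) (.leaf [-1, -1, -1, -2, -2, -1, 0, 0]))) (.node 155 (.node 154 (.leaf [-1, -1, -2, -2, -2, -1, 0, 0]) (.leaf [-1, -1, -2, -3, -2, -1, 0, 0])) (.node 156 (.leaf [-1, -2, -2, -3, -2, -1, 0, 0]) (.leaf [0, 0, 0, 0, 0, 0, -1, 0])))) (.node 161 (.node 159 (.node 158 (.leaf [0, 0, 0, 0, 0, -1, -1, 0]) (.leaf [0, 0, 0, 0, -1, -1, -1, 0])) (.node 160 (.leaf [0, 0, 0, -1, -1, -1, -1, 0]) (.leaf [0, -1, 0, -1, -1, -1, -1, 0]))) (.node 163 (.node 162 (.leaf [0, 0, -1, -1, -1, -1, -1,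 0]) (.leaf [-1, 0, -1, -1, -1, -1, -1, 0])) (.node 164 (.leaf [0, -1, -1, -1, -1, -1, -1, 0]) (.leaf [-1, -1, -1, -1, -1, -1, -1, 0]))))) (.node 172 (.node 168 (.node 166 (.leaf [0, -1, -1, -2, -1, -1, -1, 0]) (.node 167 (.leaf [-1, -1, -1, -2, -1, -1, -1, 0]) (.leaf [-1, -1, -2, -2, -1, -1, -1, 0]))) (.node 170 (.node 169 (.leaf [0, -1, -1, -2, -2, -1, -1, 0]) (.leaf [-1, -1, -1, -2, -2, -1, -1, 0])) (.node 171 (.leaf [-1, -1, -2, -2, -2, -1, -1, 0]) (.leaf [-1, -1, -2, -3, -2, -1, -1, 0])))) (.node 176 (.node 174 (.node 173 (.leaf [-1, -2, -2, -3, -2, -1, -1, 0]) (.leaf [0, -1, -1, -2, -2, -2, -1, 0])) (.node 175 (.leaf [-1, -1, -1, -2, -2, -2, -1, 0]) (.leaf [-1, -1, -2, -2, -2, -2, -1, 0]))) (.node 178 (.node 177 (.leaf [-1, -1, -2, -3, -2, -2, -1, 0]) (.leaf [-1, -2, -2, -3, -2, -2, -1, 0])) (.node 179 (.leaf [-1, -1, -2, -3, -3, -2, -1, 0]) (.leaf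 [-1, -2, -2, -3, -3, -2, -1, 0]))))))) (.node 210 (.node 195 (.node 187 (.node 183 (.node 181 (.leaf [-1, -2, -2, -4, -3, -2, -1, 0]) (.node 182 (.leaf [-1, -2, -3, -4, -3, -2, -1, 0]) (.leaf [-2, -2, -3, -4, -3, -2, -1, 0]))) (.node 185 (.node 184 (.leaf [0, 0, 0, 0, 0, 0, 0, -1]) (.leaf [0, 0, 0, 0, 0, 0, -1, -1])) (.node 186 (.leaf [0, 0, 0, 0, 0, -1, -1, -1]) (.leaf [0, 0, 0, 0, -1, -1, -1, -1])))) (.node 191 (.node 189 (.node 188 (.leaf [0, 0, 0, -1, -1, -1, -1, -1]) (.leaf [0, -1, 0, -1, -1, -1, -1, -1])) (.node 190 (.leaf [0, 0, -1, -1, -1, -1, -1, -1]) (.leaf [-1, 0, -1, -1, -1, -1, -1, -1]))) (.node 193 (.node 192 (.leaf [0, -1, -1, -1, -1, -1, -1, -1]) (.leaf [-1, -1, -1, -1, -1, -1, -1, -1])) (.node 194 (.leaf [0, -1, -1, -2, -1, -1, -1, -1]) (.leaf [-1, -1, -1, -2, -1, -1, -1, -1]))))) (.node 202 (.node 198 (.node 196 (.leaf [-1, -1, -2, -2,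 -1, -1, -1, -1]) (.node 197 (.leaf [0, -1, -1, -2, -2, -1, -1, -1]) (.leaf [-1, -1, -1, -2, -2, -1, -1, -1]))) (.node 200 (.node 199 (.leaf [-1, -1, -2, -2, -2, -1, -1, -1]) (.leaf [-1, -1, -2, -3, -2, -1, -1, -1])) (.node 201 (.leaf [-1, -2, -2, -3, -2, -1, -1, -1]) (.leaf [0, -1, -1, -2, -2, -2, -1, -1])))) (.node 206 (.node 204 (.node 203 (.leaf [-1, -1, -1, -2, -2, -2, -1, -1]) (.leaf [-1, -1, -2, -2, -2, -2, -1, -1])) (.node 205 (.leaf [-1, -1, -2, -3, -2, -2, -1, -1]) (.leaf [-1, -2, -2, -3, -2, -2, -1, -1]))) (.node 208 (.node 207 (.leaf [-1, -1, -2, -3, -3, -2, -1, -1]) (.leaf [-1, -2, -2, -3, -3, -2, -1, -1])) (.node 209 (.leaf [-1, -2, -2, -4, -3, -2, -1, -1]) (.leaf [-1, -2, -3, -4, -3, -2, -1, -1])))))) (.node 225 (.node 217 (.node 213 (.node 211 (.leaf [-2, -2, -3, -4, -3, -2, -1, -1]) (.node 212 (.leaf [0, -1, -1, -2, -2, -2, -2, -1]) (.leaf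 [-1, -1, -1, -2, -2, -2, -2, -1]))) (.node 215 (.node 214 (.leaf [-1, -1, -2, -2, -2, -2, -2, -1]) (.leaf [-1, -1, -2, -3, -2, -2, -2, -1])) (.node 216 (.leaf [-1, -2, -2, -3, -2, -2, -2, -1]) (.leaf [-1, -1, -2, -3, -3, -2, -2, -1])))) (.node 221 (.node 219 (.node 218 (.leaf [-1, -2, -2, -3, -3, -2, -2, -1]) (.leaf [-1, -2, -2, -4, -3, -2, -2, -1])) (.node 220 (.leaf [-1, -2, -3, -4, -3, -2, -2, -1]) (.leaf [-2, -2, -3, -4, -3, -2, -2, -1]))) (.node 223 (.node 222 (.leaf [-1, -1, -2, -3, -3, -3, -2, -1]) (.leaf [-1, -2, -2, -3, -3, -3, -2, -1])) (.node 224 (.leaf [-1, -2, -2, -4, -3, -3, -2, -1]) (.leaf [-1, -2, -3, -4, -3, -3, -2, -1]))))) (.node 232 (.node 228 (.node 226 (.leaf [-2, -2, -3, -4, -3, -3, -2, -1]) (.node 227 (.leaf [-1, -2, -2, -4, -4, -3, -2, -1]) (.leaf [-1, -2, -3, -4, -4, -3, -2, -1]))) (.node 230 (.node 229 (.leaf [-2, -2, -3, -4, -4,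 -3, -2, -1]) (.leaf [-1, -2, -3, -5, -4, -3, -2, -1])) (.node 231 (.leaf [-2, -2, -3, -5, -4, -3, -2, -1]) (.leaf [-1, -3, -3, -5, -4, -3, -2, -1])))) (.node 236 (.node 234 (.node 233 (.leaf [-2, -3, -3, -5, -4, -3, -2, -1]) (.leaf [-2, -2, -4, -5, -4, -3, -2, -1])) (.node 235 (.leaf [-2, -3, -4, -5, -4, -3, -2, -1]) (.leaf [-2, -3, -4, -6, -4, -3, -2, -1]))) (.node 238 (.node 237 (.leaf [-2, -3, -4, -6, -5, -3, -2, -1]) (.leaf [-2, -3, -4, -6, -5, -4, -2, -1])) (.node 239 (.leaf [-2, -3, -4, -6, -5, -4, -3, -1]) (.leaf [-2, -3, -4, -6, -5, -4, -3, -2]))))))))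
def e8Orb0Tab : WTree (List ℕ) := .node 120 (.node 60 (.node 30 (.node 15 (.node 7 (.node 3 (.node 1 (.leaf [0, 0, 0, 0, 0, 0, 0, 1]) (.node 2 (.leaf [1, 1, 1, 1, 1, 1, 2, 0]) (.leaf [2, 2, 2, 2, 2, 3, 1, 2]))) (.node 5 (.node 4 (.leaf [3, 3, 3, 3, 4, 2, 3, 3]) (.leaf [4, 4, 4, 5, 3, 4, 4, 4])) (.node 6 (.leaf [5, 6, 7, 4, 5, 5, 5, 5]) (.leaf [6, 5, 9, 6, 6, 6, 6, 6])))) (.node 11 (.node 9 (.node 8 (.leaf [8, 9, 5, 7, 7, 7, 7, 7]) (.leaf [7, 10, 8, 8, 8, 8, 8, 8])) (.node 10 (.leaf [10, 7, 6, 11, 9, 9, 9, 9]) (.leaf [9, 8, 10, 12, 10, 10, 10, 10]))) (.node 13 (.node 12 (.leaf [12, 11, 11, 9, 14, 11, 11, 11]) (.leaf [11, 12, 13, 10, 15, 12, 12, 12])) (.node 14 (.leaf [13, 13, 12, 13, 16, 13, 13, 13]) (.leaf [15, 14, 14, 14, 11, 19, 14, 14]))))) (.node 22 (.node 18 (.node 16 (.leaf [14, 15, 16, 15, 12, 20, 15, 15]) (.node 17 (.leaf [16, 16, 15, 17, 13, 21,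 16, 16]) (.leaf [17, 18, 17, 16, 17, 22, 17, 17]))) (.node 20 (.node 19 (.leaf [18, 17, 18, 18, 18, 23, 18, 18]) (.leaf [20, 19, 19, 19, 19, 14, 29, 19])) (.node 21 (.leaf [19, 20, 21, 20, 20, 15, 30, 20]) (.leaf [21, 21, 20, 22, 21, 16, 31, 21])))) (.node 26 (.node 24 (.node 23 (.leaf [22, 23, 22, 21, 24, 17, 32, 22]) (.leaf [23, 22, 23, 23, 25, 18, 33, 23])) (.node 25 (.leaf [24, 25, 24, 24, 22, 24, 34, 24]) (.leaf [25, 24, 25, 26, 23, 25, 35, 25]))) (.node 28 (.node 27 (.leaf [26, 26, 27, 25, 26, 26, 36, 26]) (.leaf [28, 27, 26, 27, 27, 27, 37, 27])) (.node 29 (.leaf [27, 28, 28, 28, 28, 28, 38, 28]) (.leaf [30, 29, 29, 29, 29, 29, 19, 57])))))) (.node 45 (.node 37 (.node 33 (.node 31 (.leaf [29, 30, 31, 30, 30, 30, 20, 58]) (.node 32 (.leaf [31, 31, 30, 32, 31, 31, 21, 59]) (.leaf [32, 33, 32, 31, 34, 32, 22, 60]))) (.node 35 (.node 34 (.leaf [33, 32,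 33, 33, 35, 33, 23, 61]) (.leaf [34, 35, 34, 34, 32, 39, 24, 62])) (.node 36 (.leaf [35, 34, 35, 36, 33, 40, 25, 63]) (.leaf [36, 36, 37, 35, 36, 41, 26, 64])))) (.node 41 (.node 39 (.node 38 (.leaf [38, 37, 36, 37, 37, 42, 27, 65]) (.leaf [37, 38, 38, 38, 38, 43, 28, 66])) (.node 40 (.leaf [39, 40, 39, 39, 39, 34, 39, 67]) (.leaf [40, 39, 40, 41, 40, 35, 40, 68]))) (.node 43 (.node 42 (.leaf [41, 41, 42, 40, 44, 36, 41, 69]) (.leaf [43, 42, 41, 42, 45, 37, 42, 70])) (.node 44 (.leaf [42, 43, 43, 43, 46, 38, 43, 71]) (.leaf [44, 44, 45, 44, 41, 44, 44, 72]))))) (.node 52 (.node 48 (.node 46 (.leaf [46, 45, 44, 47, 42, 45, 45, 73]) (.node 47 (.leaf [45, 46, 46, 48, 43, 46, 46, 74]) (.leaf [48, 49, 47, 45, 47, 47, 47, 75]))) (.node 50 (.node 49 (.leaf [47, 50, 51, 46, 48, 48, 48, 76]) (.leaf [50, 47, 49, 49, 49, 49, 49, 77])) (.node 51 (.leaf [49, 48, 52,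 50, 50, 50, 50, 78]) (.leaf [51, 52, 48, 51, 51, 51, 51, 79])))) (.node 56 (.node 54 (.node 53 (.leaf [52, 51, 50, 53, 52, 52, 52, 80]) (.leaf [53, 53, 53, 52, 54, 53, 53, 81])) (.node 55 (.leaf [54, 54, 54, 54, 53, 55, 54, 82]) (.leaf [55, 55, 55, 55, 55, 54, 56, 83]))) (.node 58 (.node 57 (.leaf [56, 56, 56, 56, 56, 56, 55, 183]) (.leaf [58, 57, 57, 57, 57, 57, 57, 29])) (.node 59 (.leaf [57, 58, 59, 58, 58, 58, 58, 30]) (.leaf [59, 59, 58, 60, 59, 59, 59, 31]))))))) (.node 90 (.node 75 (.node 67 (.node 63 (.node 61 (.leaf [60, 61, 60, 59, 62, 60, 60, 32]) (.node 62 (.leaf [61, 60, 61, 61, 63, 61, 61, 33]) (.leaf [62, 63, 62, 62, 60, 67, 62, 34]))) (.node 65 (.node 64 (.leaf [63, 62, 63, 64, 61, 68, 63, 35]) (.leaf [64, 64, 65, 63, 64, 69, 64, 36])) (.node 66 (.leaf [66, 65, 64, 65, 65, 70, 65, 37]) (.leaf [65, 66, 66, 66, 66, 71, 66, 38])))) (.node 71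 (.node 69 (.node 68 (.leaf [67, 68, 67, 67, 67, 62, 84, 39]) (.leaf [68, 67, 68, 69, 68, 63, 85, 40])) (.node 70 (.leaf [69, 69, 70, 68, 72, 64, 86, 41]) (.leaf [71, 70, 69, 70, 73, 65, 87, 42]))) (.node 73 (.node 72 (.leaf [70, 71, 71, 71, 74, 66, 88, 43]) (.leaf [72, 72, 73, 72, 69, 72, 89, 44])) (.node 74 (.leaf [74, 73, 72, 75, 70, 73, 90, 45]) (.leaf [73, 74, 74, 76, 71, 74, 91, 46]))))) (.node 82 (.node 78 (.node 76 (.leaf [76, 77, 75, 73, 75, 75, 92, 47]) (.node 77 (.leaf [75, 78, 79, 74, 76, 76, 93, 48]) (.leaf [78, 75, 77, 77, 77, 77, 94, 49]))) (.node 80 (.node 79 (.leaf [77, 76, 80, 78, 78, 78, 95, 50]) (.leaf [79, 80, 76, 79, 79, 79, 96, 51])) (.node 81 (.leaf [80, 79, 78, 81, 80, 80, 97, 52]) (.leaf [81, 81, 81, 80, 82, 81, 98, 53])))) (.node 86 (.node 84 (.node 83 (.leaf [82, 82, 82, 82, 81, 83, 99, 54]) (.leaf [83, 83, 83, 83, 83, 82, 156,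 55])) (.node 85 (.leaf [84, 85, 84, 84, 84, 84, 67, 84]) (.leaf [85, 84, 85, 86, 85, 85, 68, 85]))) (.node 88 (.node 87 (.leaf [86, 86, 87, 85, 89, 86, 69, 86]) (.leaf [88, 87, 86, 87, 90, 87, 70, 87])) (.node 89 (.leaf [87, 88, 88, 88, 91, 88, 71, 88]) (.leaf [89, 89, 90, 89, 86, 100, 72, 89])))))) (.node 105 (.node 97 (.node 93 (.node 91 (.leaf [91, 90, 89, 92, 87, 101, 73, 90]) (.node 92 (.leaf [90, 91, 91, 93, 88, 102, 74, 91]) (.leaf [93, 94, 92, 90, 92, 103, 75, 92]))) (.node 95 (.node 94 (.leaf [92, 95, 96, 91, 93, 104, 76, 93]) (.leaf [95, 92, 94, 94, 94, 105, 77, 94])) (.node 96 (.leaf [94, 93, 97, 95, 95, 106, 78, 95]) (.leaf [96, 97, 93, 96, 96, 107, 79, 96])))) (.node 101 (.node 99 (.node 98 (.leaf [97, 96, 95, 98, 97, 108, 80, 97]) (.leaf [98, 98, 98, 97, 99, 109, 81, 98])) (.node 100 (.leaf [99, 99, 99, 99, 98, 140, 82, 99]) (.leaf [100, 100,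 101, 100, 100, 89, 100, 100]))) (.node 103 (.node 102 (.leaf [102, 101, 100, 103, 101, 90, 101, 101]) (.leaf [101, 102, 102, 104, 102, 91, 102, 102])) (.node 104 (.leaf [104, 105, 103, 101, 110, 92, 103, 103]) (.leaf [103, 106, 107, 102, 111, 93, 104, 104]))))) (.node 112 (.node 108 (.node 106 (.leaf [106, 103, 105, 105, 112, 94, 105, 105]) (.node 107 (.leaf [105, 104, 108, 106, 113, 95, 106, 106]) (.leaf [107, 108, 104, 107, 114, 96, 107, 107]))) (.node 110 (.node 109 (.leaf [108, 107, 106, 109, 115, 97, 108, 108]) (.leaf [109, 109, 109, 108, 130, 98, 109, 109])) (.node 111 (.leaf [111, 112, 110, 110, 103, 110, 110, 110]) (.leaf [110, 113, 114, 111, 104, 111, 111, 111])))) (.node 116 (.node 114 (.node 113 (.leaf [113, 110, 112, 116, 105, 112, 112, 112]) (.leaf [112, 111, 115, 117, 106, 113, 113, 113])) (.node 115 (.leaf [114, 115, 111, 118, 107, 114, 114,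 114]) (.leaf [115, 114, 113, 124, 108, 115, 115, 115]))) (.node 118 (.node 117 (.leaf [117, 116, 119, 112, 116, 116, 116, 116]) (.leaf [116, 117, 122, 113, 117, 117, 117, 117])) (.node 119 (.leaf [118, 121, 118, 114, 118, 118, 118, 118]) (.leaf [120, 119, 116, 119, 119, 119, 119, 119])))))))) (.node 180 (.node 150 (.node 135 (.node 127 (.node 123 (.node 121 (.leaf [119, 120, 123, 120, 120, 120, 120, 120]) (.node 122 (.leaf [121, 118, 121, 125, 121, 121, 121, 121]) (.leaf [123, 122, 117, 126, 122, 122, 122, 122]))) (.node 125 (.node 124 (.leaf [122, 123, 120, 127, 123, 123, 123, 123]) (.leaf [124, 125, 126, 115, 131, 124, 124, 124])) (.node 126 (.leaf [125, 124, 128, 121, 132, 125, 125, 125]) (.leaf [127, 128, 124, 122, 133, 126, 126, 126])))) (.node 131 (.node 129 (.node 128 (.leaf [126, 129, 127, 123, 134, 127, 127, 127]) (.leaf [129, 126, 125, 128, 135,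 128, 128, 128])) (.node 130 (.leaf [128, 127, 129, 129, 136, 129, 129, 129]) (.leaf [130, 130, 130, 131, 109, 141, 130, 130]))) (.node 133 (.node 132 (.leaf [131, 132, 133, 130, 124, 142, 131, 131]) (.leaf [132, 131, 135, 132, 125, 143, 132, 132])) (.node 134 (.leaf [134, 135, 131, 133, 126, 144, 133, 133]) (.leaf [133, 136, 134, 134, 127, 145, 134, 134]))))) (.node 142 (.node 138 (.node 136 (.leaf [136, 133, 132, 137, 128, 146, 135, 135]) (.node 137 (.leaf [135, 134, 136, 138, 129, 147, 136, 136]) (.leaf [138, 137, 137, 135, 137, 148, 137, 137]))) (.node 140 (.node 139 (.leaf [137, 138, 139, 136, 138, 149, 138, 138]) (.leaf [139, 139, 138, 139, 139, 150, 139, 139])) (.node 141 (.leaf [140, 140, 140, 140, 141, 99, 157, 140]) (.leaf [141, 141, 141, 142, 140, 130, 158, 141])))) (.node 146 (.node 144 (.node 143 (.leaf [142, 143, 144, 141, 142, 131, 159, 142])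 (.leaf [143, 142, 146, 143, 143, 132, 160, 143])) (.node 145 (.leaf [145, 146, 142, 144, 144, 133, 161, 144]) (.leaf [144, 147, 145, 145, 145, 134, 162, 145]))) (.node 148 (.node 147 (.leaf [147, 144, 143, 148, 146, 135, 163, 146]) (.leaf [146, 145, 147, 149, 147, 136, 164, 147])) (.node 149 (.leaf [149, 148, 148, 146, 151, 137, 165, 148]) (.leaf [148, 149, 150, 147, 152, 138, 166, 149])))))) (.node 165 (.node 157 (.node 153 (.node 151 (.leaf [150, 150, 149, 150, 153, 139, 167, 150]) (.node 152 (.leaf [152, 151, 151, 151, 148, 151, 168, 151]) (.leaf [151, 152, 153, 152, 149, 152, 169, 152]))) (.node 155 (.node 154 (.leaf [153, 153, 152, 154, 150, 153, 170, 153]) (.leaf [154, 155, 154, 153, 154, 154, 171, 154])) (.node 156 (.leaf [155, 154, 155, 155, 155, 155, 172, 155]) (.leaf [156, 156, 156, 156, 156, 157, 83, 184])))) (.node 161 (.node 159 (.node 158 (.leaf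 [157, 157, 157, 157, 158, 156, 140, 185]) (.leaf [158, 158, 158, 159, 157, 158, 141, 186])) (.node 160 (.leaf [159, 160, 161, 158, 159, 159, 142, 187]) (.leaf [160, 159, 163, 160, 160, 160, 143, 188]))) (.node 163 (.node 162 (.leaf [162, 163, 159, 161, 161, 161, 144, 189]) (.leaf [161, 164, 162, 162, 162, 162, 145, 190])) (.node 164 (.leaf [164, 161, 160, 165, 163, 163, 146, 191]) (.leaf [163, 162, 164, 166, 164, 164, 147, 192]))))) (.node 172 (.node 168 (.node 166 (.leaf [166, 165, 165, 163, 168, 165, 148, 193]) (.node 167 (.leaf [165, 166, 167, 164, 169, 166, 149, 194]) (.leaf [167, 167, 166, 167, 170, 167, 150, 195]))) (.node 170 (.node 169 (.leaf [169, 168, 168, 168, 165, 173, 151, 196]) (.leaf [168, 169, 170, 169, 166, 174, 152, 197])) (.node 171 (.leaf [170, 170, 169, 171, 167, 175, 153, 198]) (.leaf [171, 172, 171, 170, 171, 176, 154, 199])))) (.node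 176 (.node 174 (.node 173 (.leaf [172, 171, 172, 172, 172, 177, 155, 200]) (.leaf [174, 173, 173, 173, 173, 168, 173, 201])) (.node 175 (.leaf [173, 174, 175, 174, 174, 169, 174, 202]) (.leaf [175, 175, 174, 176, 175, 170, 175, 203]))) (.node 178 (.node 177 (.leaf [176, 177, 176, 175, 178, 171, 176, 204]) (.leaf [177, 176, 177, 177, 179, 172, 177, 205])) (.node 179 (.leaf [178, 179, 178, 178, 176, 178, 178, 206]) (.leaf [179, 178, 179, 180, 177, 179, 179, 207]))))))) (.node 210 (.node 195 (.node 187 (.node 183 (.node 181 (.leaf [180, 180, 181, 179, 180, 180, 180, 208]) (.node 182 (.leaf [182, 181, 180, 181, 181, 181, 181, 209]) (.leaf [181, 182, 182, 182, 182, 182, 182, 210]))) (.node 185 (.node 184 (.leaf [183, 183, 183, 183, 183, 183, 184, 56]) (.leaf [184, 184, 184, 184, 184, 185, 183, 156])) (.node 186 (.leaf [185, 185, 185, 185, 186, 184, 185, 157])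 (.leaf [186, 186, 186, 187, 185, 186, 186, 158])))) (.node 191 (.node 189 (.node 188 (.leaf [187, 188, 189, 186, 187, 187, 187, 159]) (.leaf [188, 187, 191, 188, 188, 188, 188, 160])) (.node 190 (.leaf [190, 191, 187, 189, 189, 189, 189, 161]) (.leaf [189, 192, 190, 190, 190, 190, 190, 162]))) (.node 193 (.node 192 (.leaf [192, 189, 188, 193, 191, 191, 191, 163]) (.leaf [191, 190, 192, 194, 192, 192, 192, 164])) (.node 194 (.leaf [194, 193, 193, 191, 196, 193, 193, 165]) (.leaf [193, 194, 195, 192, 197, 194, 194, 166]))))) (.node 202 (.node 198 (.node 196 (.leaf [195, 195, 194, 195, 198, 195, 195, 167]) (.node 197 (.leaf [197, 196, 196, 196, 193, 201, 196, 168]) (.leaf [196, 197, 198, 197, 194, 202, 197, 169]))) (.node 200 (.node 199 (.leaf [198, 198, 197, 199, 195, 203, 198, 170]) (.leaf [199, 200, 199, 198, 199, 204, 199, 171])) (.node 201 (.leaf [200,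 199, 200, 200, 200, 205, 200, 172]) (.leaf [202, 201, 201, 201, 201, 196, 211, 173])))) (.node 206 (.node 204 (.node 203 (.leaf [201, 202, 203, 202, 202, 197, 212, 174]) (.leaf [203, 203, 202, 204, 203, 198, 213, 175])) (.node 205 (.leaf [204, 205, 204, 203, 206, 199, 214, 176]) (.leaf [205, 204, 205, 205, 207, 200, 215, 177]))) (.node 208 (.node 207 (.leaf [206, 207, 206, 206, 204, 206, 216, 178]) (.leaf [207, 206, 207, 208, 205, 207, 217, 179])) (.node 209 (.leaf [208, 208, 209, 207, 208, 208, 218, 180]) (.leaf [210, 209, 208, 209, 209, 209, 219, 181])))))) (.node 225 (.node 217 (.node 213 (.node 211 (.leaf [209, 210, 210, 210, 210, 210, 220, 182]) (.node 212 (.leaf [212, 211, 211, 211, 211, 211, 201, 211]) (.leaf [211, 212, 213, 212, 212, 212, 202, 212]))) (.node 215 (.node 214 (.leaf [213, 213, 212, 214, 213, 213, 203, 213]) (.leaf [214, 215, 214, 213,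 216, 214, 204, 214])) (.node 216 (.leaf [215, 214, 215, 215, 217, 215, 205, 215]) (.leaf [216, 217, 216, 216, 214, 221, 206, 216])))) (.node 221 (.node 219 (.node 218 (.leaf [217, 216, 217, 218, 215, 222, 207, 217]) (.leaf [218, 218, 219, 217, 218, 223, 208, 218])) (.node 220 (.leaf [220, 219, 218, 219, 219, 224, 209, 219]) (.leaf [219, 220, 220, 220, 220, 225, 210, 220]))) (.node 223 (.node 222 (.leaf [221, 222, 221, 221, 221, 216, 221, 221]) (.leaf [222, 221, 222, 223, 222, 217, 222, 222])) (.node 224 (.leaf [223, 223, 224, 222, 226, 218, 223, 223]) (.leaf [225, 224, 223, 224, 227, 219, 224, 224]))))) (.node 232 (.node 228 (.node 226 (.leaf [224, 225, 225, 225, 228, 220, 225, 225]) (.node 227 (.leaf [226, 226, 227, 226, 223, 226, 226, 226]) (.leaf [228, 227, 226, 229, 224, 227, 227, 227]))) (.node 230 (.node 229 (.leaf [227, 228, 228, 230, 225, 228, 228,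 228]) (.leaf [230, 231, 229, 227, 229, 229, 229, 229])) (.node 231 (.leaf [229, 232, 233, 228, 230, 230, 230, 230]) (.leaf [232, 229, 231, 231, 231, 231, 231, 231])))) (.node 236 (.node 234 (.node 233 (.leaf [231, 230, 234, 232, 232, 232, 232, 232]) (.leaf [233, 234, 230, 233, 233, 233, 233, 233])) (.node 235 (.leaf [234, 233, 232, 235, 234, 234, 234, 234]) (.leaf [235, 235, 235, 234, 236, 235, 235, 235]))) (.node 238 (.node 237 (.leaf [236, 236, 236, 236, 235, 237, 236, 236]) (.leaf [237, 237, 237, 237, 237, 236, 238, 237])) (.node 239 (.leaf [238, 238, 238, 238, 238, 238, 237, 239]) (.leaf [239, 239, 239, 239, 239, 239, 239, 238]))))))))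
def e8Orb0Par : WTree (ℕ × ℕ) := .node 120 (.node 60 (.node 30 (.node 15 (.node 7 (.node 3 (.node 1 (.leaf (0, 0)) (.node 2 (.leaf (7, 0)) (.leaf (6, 1)))) (.node 5 (.node 4 (.leaf (5, 2)) (.leaf (4, 3))) (.node 6 (.leaf (3, 4)) (.leaf (1, 5))))) (.node 11 (.node 9 (.node 8 (.leaf (2, 5)) (.leaf (0, 7))) (.node 10 (.leaf (1, 7)) (.leaf (0, 9)))) (.node 13 (.node 12 (.leaf (3, 9)) (.leaf (0, 11))) (.node 14 (.leaf (2, 12)) (.leaf (4, 11)))))) (.node 22 (.node 18 (.node 16 (.leaf (0, 14)) (.node 17 (.leaf (2, 15)) (.leaf (3, 16)))) (.node 20 (.node 19 (.leaf (1, 17)) (.leaf (5, 14))) (.node 21 (.leaf (0, 19)) (.leaf (2, 20))))) (.node 26 (.node 24 (.node 23 (.leaf (3, 21)) (.leaf (1, 22))) (.node 25 (.leaf (4, 22)) (.leaf (1, 24)))) (.node 28 (.node 27 (.leaf (3, 25)) (.leaf (2, 26))) (.node 29 (.leaf (0, 27)) (.leaf (6, 19))))))) (.node 45 (.node 37 (.node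 33 (.node 31 (.leaf (0, 29)) (.node 32 (.leaf (2, 30)) (.leaf (3, 31)))) (.node 35 (.node 34 (.leaf (1, 32)) (.leaf (4, 32))) (.node 36 (.leaf (1, 34)) (.leaf (3, 35))))) (.node 41 (.node 39 (.node 38 (.leaf (2, 36)) (.leaf (0, 37))) (.node 40 (.leaf (5, 34)) (.leaf (1, 39)))) (.node 43 (.node 42 (.leaf (3, 40)) (.leaf (2, 41))) (.node 44 (.leaf (0, 42)) (.leaf (4, 41)))))) (.node 52 (.node 48 (.node 46 (.leaf (2, 44)) (.node 47 (.leaf (0, 45)) (.leaf (3, 45)))) (.node 50 (.node 49 (.leaf (0, 47)) (.leaf (1, 47))) (.node 51 (.leaf (0, 49)) (.leaf (2, 48))))) (.node 56 (.node 54 (.node 53 (.leaf (1, 51)) (.leaf (3, 52))) (.node 55 (.leaf (4, 53)) (.leaf (5, 54)))) (.node 58 (.node 57 (.leaf (6, 55)) (.leaf (7, 29))) (.node 59 (.leaf (0, 57)) (.leaf (2, 58)))))))) (.node 90 (.node 75 (.node 67 (.node 63 (.node 61 (.leaf (3, 59)) (.node 62 (.leaf (1, 60)) (.leaf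 (4, 60)))) (.node 65 (.node 64 (.leaf (1, 62)) (.leaf (3, 63))) (.node 66 (.leaf (2, 64)) (.leaf (0, 65))))) (.node 71 (.node 69 (.node 68 (.leaf (5, 62)) (.leaf (1, 67))) (.node 70 (.leaf (3, 68)) (.leaf (2, 69)))) (.node 73 (.node 72 (.leaf (0, 70)) (.leaf (4, 69))) (.node 74 (.leaf (2, 72)) (.leaf (0, 73)))))) (.node 82 (.node 78 (.node 76 (.leaf (3, 73)) (.node 77 (.leaf (0, 75)) (.leaf (1, 75)))) (.node 80 (.node 79 (.leaf (0, 77)) (.leaf (2, 76))) (.node 81 (.leaf (1, 79)) (.leaf (3, 80))))) (.node 86 (.node 84 (.node 83 (.leaf (4, 81)) (.leaf (5, 82))) (.node 85 (.leaf (6, 67)) (.leaf (1, 84)))) (.node 88 (.node 87 (.leaf (3, 85)) (.leaf (2, 86))) (.node 89 (.leaf (0, 87)) (.leaf (4, 86))))))) (.node 105 (.node 97 (.node 93 (.node 91 (.leaf (2, 89)) (.node 92 (.leaf (0, 90)) (.leaf (3, 90)))) (.node 95 (.node 94 (.leaf (0, 92)) (.leaf (1, 92))) (.node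 96 (.leaf (0, 94)) (.leaf (2, 93))))) (.node 101 (.node 99 (.node 98 (.leaf (1, 96)) (.leaf (3, 97))) (.node 100 (.leaf (4, 98)) (.leaf (5, 89)))) (.node 103 (.node 102 (.leaf (2, 100)) (.leaf (0, 101))) (.node 104 (.leaf (3, 101)) (.leaf (0, 103)))))) (.node 112 (.node 108 (.node 106 (.leaf (1, 103)) (.node 107 (.leaf (0, 105)) (.leaf (2, 104)))) (.node 110 (.node 109 (.leaf (1, 107)) (.leaf (3, 108))) (.node 111 (.leaf (4, 103)) (.leaf (0, 110))))) (.node 116 (.node 114 (.node 113 (.leaf (1, 110)) (.leaf (0, 112))) (.node 115 (.leaf (2, 111)) (.leaf (1, 114)))) (.node 118 (.node 117 (.leaf (3, 112)) (.leaf (0, 116))) (.node 119 (.leaf (3, 114)) (.leaf (2, 116))))))))) (.node 180 (.node 150 (.node 135 (.node 127 (.node 123 (.node 121 (.leaf (0, 119)) (.node 122 (.leaf (1, 118)) (.leaf (2, 117)))) (.node 125 (.node 124 (.leaf (0, 122)) (.leaf (3, 115)))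 (.node 126 (.leaf (1, 124)) (.leaf (2, 124))))) (.node 131 (.node 129 (.node 128 (.leaf (0, 126)) (.leaf (1, 126))) (.node 130 (.leaf (0, 128)) (.leaf (4, 109)))) (.node 133 (.node 132 (.leaf (3, 130)) (.leaf (1, 131))) (.node 134 (.leaf (2, 131)) (.leaf (0, 133)))))) (.node 142 (.node 138 (.node 136 (.leaf (1, 133)) (.node 137 (.leaf (0, 135)) (.leaf (3, 135)))) (.node 140 (.node 139 (.leaf (0, 137)) (.leaf (2, 138))) (.node 141 (.leaf (5, 99)) (.leaf (4, 140))))) (.node 146 (.node 144 (.node 143 (.leaf (3, 141)) (.leaf (1, 142))) (.node 145 (.leaf (2, 142)) (.leaf (0, 144)))) (.node 148 (.node 147 (.leaf (1, 144)) (.leaf (0, 146))) (.node 149 (.leaf (3, 146)) (.leaf (0, 148))))))) (.node 165 (.node 157 (.node 153 (.node 151 (.leaf (2, 149)) (.node 152 (.leaf (4, 148)) (.leaf (0, 151)))) (.node 155 (.node 154 (.leaf (2, 152)) (.leaf (3, 153))) (.node 156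 (.leaf (1, 154)) (.leaf (6, 83))))) (.node 161 (.node 159 (.node 158 (.leaf (5, 156)) (.leaf (4, 157))) (.node 160 (.leaf (3, 158)) (.leaf (1, 159)))) (.node 163 (.node 162 (.leaf (2, 159)) (.leaf (0, 161))) (.node 164 (.leaf (1, 161)) (.leaf (0, 163)))))) (.node 172 (.node 168 (.node 166 (.leaf (3, 163)) (.node 167 (.leaf (0, 165)) (.leaf (2, 166)))) (.node 170 (.node 169 (.leaf (4, 165)) (.leaf (0, 168))) (.node 171 (.leaf (2, 169)) (.leaf (3, 170))))) (.node 176 (.node 174 (.node 173 (.leaf (1, 171)) (.leaf (5, 168))) (.node 175 (.leaf (0, 173)) (.leaf (2, 174)))) (.node 178 (.node 177 (.leaf (3, 175)) (.leaf (1, 176))) (.node 179 (.leaf (4, 176)) (.leaf (1, 178)))))))) (.node 210 (.node 195 (.node 187 (.node 183 (.node 181 (.leaf (3, 179)) (.node 182 (.leaf (2, 180)) (.leaf (0, 181)))) (.node 185 (.node 184 (.leaf (7, 56)) (.leaf (6, 183))) (.node 186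 (.leaf (5, 184)) (.leaf (4, 185))))) (.node 191 (.node 189 (.node 188 (.leaf (3, 186)) (.leaf (1, 187))) (.node 190 (.leaf (2, 187)) (.leaf (0, 189)))) (.node 193 (.node 192 (.leaf (1, 189)) (.leaf (0, 191))) (.node 194 (.leaf (3, 191)) (.leaf (0, 193)))))) (.node 202 (.node 198 (.node 196 (.leaf (2, 194)) (.node 197 (.leaf (4, 193)) (.leaf (0, 196)))) (.node 200 (.node 199 (.leaf (2, 197)) (.leaf (3, 198))) (.node 201 (.leaf (1, 199)) (.leaf (5, 196))))) (.node 206 (.node 204 (.node 203 (.leaf (0, 201)) (.leaf (2, 202))) (.node 205 (.leaf (3, 203)) (.leaf (1, 204)))) (.node 208 (.node 207 (.leaf (4, 204)) (.leaf (1, 206))) (.node 209 (.leaf (3, 207)) (.leaf (2, 208))))))) (.node 225 (.node 217 (.node 213 (.node 211 (.leaf (0, 209)) (.node 212 (.leaf (6, 201)) (.leaf (0, 211)))) (.node 215 (.node 214 (.leaf (2, 212)) (.leaf (3, 213))) (.node 216 (.leaf (1,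 214)) (.leaf (4, 214))))) (.node 221 (.node 219 (.node 218 (.leaf (1, 216)) (.leaf (3, 217))) (.node 220 (.leaf (2, 218)) (.leaf (0, 219)))) (.node 223 (.node 222 (.leaf (5, 216)) (.leaf (1, 221))) (.node 224 (.leaf (3, 222)) (.leaf (2, 223)))))) (.node 232 (.node 228 (.node 226 (.leaf (0, 224)) (.node 227 (.leaf (4, 223)) (.leaf (2, 226)))) (.node 230 (.node 229 (.leaf (0, 227)) (.leaf (3, 227))) (.node 231 (.leaf (0, 229)) (.leaf (1, 229))))) (.node 236 (.node 234 (.node 233 (.leaf (0, 231)) (.leaf (2, 230))) (.node 235 (.leaf (1, 233)) (.leaf (3, 234)))) (.node 238 (.node 237 (.leaf (4, 235)) (.leaf (5, 236))) (.node 239 (.leaf (6, 237)) (.leaf (7, 238)))))))))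

theorem e8Orb0_check : WeylData.OrbitCheck e8Weyl (fun i => [true, true, true, true, true, true, true, true].getD i.val false) (fun i => [true, true, true, true, true, true, true, false].getD i.val false) 240
    (fun r c => (e8Orb0V.get r.val).getD c.val 0)
    (fun j r => Fin.ofNat 240 ((e8Orb0Tab.get r.val).getD j.val 0))
    (fun r => (Fin.ofNat 8 (e8Orb0Par.get r.val).1, Fin.ofNat 240 (e8Orb0Par.get r.val).2))
    (0 : Fin 240) (fun r => WTree.encode 6 13 ((e8Orb0V.get r.val)))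
    (fun x => WTree.encode 6 13 (List.ofFn x)) := by
  constructor <;> decide +kernel

def e8Orb1V : WTree (List ℤ) := .node 28 (.node 14 (.node 7 (.node 3 (.node 1 (.leaf [2, 3, 4, 6, 5, 4, 3, 0]) (.node 2 (.leaf [2, 3, 4, 6, 5, 4, 1, 0]) (.leaf [2, 3, 4, 6, 5, 2, 1, 0]))) (.node 5 (.node 4 (.leaf [2, 3, 4, 6, 3, 2, 1, 0]) (.leaf [2, 3, 4, 4, 3, 2, 1, 0])) (.node 6 (.leaf [2, 1, 4, 4, 3, 2, 1, 0]) (.leaf [2, 3, 2, 4, 3, 2, 1, 0])))) (.node 10 (.node 8 (.leaf [0, 3, 2, 4, 3, 2, 1, 0]) (.node 9 (.leaf [2, 1, 2, 4, 3, 2, 1, 0]) (.leaf [0, 1, 2, 4, 3, 2, 1, 0]))) (.node 12 (.node 11 (.leaf [2, 1, 2, 2, 3, 2, 1, 0]) (.leaf [0, 1, 2, 2, 3, 2, 1, 0])) (.node 13 (.leaf [0, 1, 0, 2, 3, 2, 1, 0]) (.leaf [2, 1, 2, 2, 1, 2, 1, 0]))))) (.node 21 (.node 17 (.node 15 (.leaf [0, 1, 2, 2, 1, 2, 1, 0]) (.node 16 (.leaf [0, 1, 0, 2, 1, 2, 1, 0]) (.leaf [0, 1, 0, 0, 1, 2,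 1, 0]))) (.node 19 (.node 18 (.leaf [0, -1, 0, 0, 1, 2, 1, 0]) (.leaf [2, 1, 2, 2, 1, 0, 1, 0])) (.node 20 (.leaf [0, 1, 2, 2, 1, 0, 1, 0]) (.leaf [0, 1, 0, 2, 1, 0, 1, 0])))) (.node 24 (.node 22 (.leaf [0, 1, 0, 0, 1, 0, 1, 0]) (.node 23 (.leaf [0, -1, 0, 0, 1, 0, 1, 0]) (.leaf [0, 1, 0, 0, -1, 0, 1, 0]))) (.node 26 (.node 25 (.leaf [0, -1, 0, 0, -1, 0, 1, 0]) (.leaf [0, -1, 0, -2, -1, 0, 1, 0])) (.node 27 (.leaf [0, -1, -2, -2, -1, 0, 1, 0]) (.leaf [-2, -1, -2, -2, -1, 0, 1, 0])))))) (.node 42 (.node 35 (.node 31 (.node 29 (.leaf [2, 1, 2, 2, 1, 0, -1, 0]) (.node 30 (.leaf [0, 1, 2, 2, 1, 0, -1, 0]) (.leaf [0, 1, 0, 2, 1, 0, -1, 0]))) (.node 33 (.node 32 (.leaf [0, 1, 0, 0, 1, 0, -1, 0]) (.leaf [0, -1, 0, 0, 1, 0, -1, 0])) (.node 34 (.leaf [0, 1, 0, 0, -1, 0, -1, 0]) (.leaf [0, -1, 0, 0, -1, 0, -1, 0])))) (.node 38 (.node 36 (.leaf [0, -1, 0, -2, -1, 0,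 -1, 0]) (.node 37 (.leaf [0, -1, -2, -2, -1, 0, -1, 0]) (.leaf [-2, -1, -2, -2, -1, 0, -1, 0]))) (.node 40 (.node 39 (.leaf [0, 1, 0, 0, -1, -2, -1, 0]) (.leaf [0, -1, 0, 0, -1, -2, -1, 0])) (.node 41 (.leaf [0, -1, 0, -2, -1, -2, -1, 0]) (.leaf [0, -1, -2, -2, -1, -2, -1, 0]))))) (.node 49 (.node 45 (.node 43 (.leaf [-2, -1, -2, -2, -1, -2, -1, 0]) (.node 44 (.leaf [0, -1, 0, -2, -3, -2, -1, 0]) (.leaf [0, -1, -2, -2, -3, -2, -1, 0]))) (.node 47 (.node 46 (.leaf [-2, -1, -2, -2, -3, -2, -1, 0]) (.leaf [0, -1, -2, -4, -3, -2, -1, 0])) (.node 48 (.leaf [-2, -1, -2, -4, -3, -2, -1, 0]) (.leaf [0, -3, -2, -4, -3, -2, -1, 0])))) (.node 52 (.node 50 (.leaf [-2, -3, -2, -4, -3, -2, -1, 0]) (.node 51 (.leaf [-2, -1, -4, -4, -3, -2, -1, 0]) (.leaf [-2, -3, -4, -4, -3, -2, -1, 0]))) (.node 54 (.node 53 (.leaf [-2, -3, -4, -6, -3, -2, -1, 0]) (.leaf [-2, -3, -4, -6,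 -5, -2, -1, 0])) (.node 55 (.leaf [-2, -3, -4, -6, -5, -4, -1, 0]) (.leaf [-2, -3, -4, -6, -5, -4, -3, 0]))))))
def e8Orb1Tab : WTree (List ℕ) := .node 28 (.node 14 (.node 7 (.node 3 (.node 1 (.leaf [0, 0, 0, 0, 0, 0, 1, 0]) (.node 2 (.leaf [1, 1, 1, 1, 1, 2, 0, 1]) (.leaf [2, 2, 2, 2, 3, 1, 2, 2]))) (.node 5 (.node 4 (.leaf [3, 3, 3, 4, 2, 3, 3, 3]) (.leaf [4, 5, 6, 3, 4, 4, 4, 4])) (.node 6 (.leaf [5, 4, 8, 5, 5, 5, 5, 5]) (.leaf [7, 8, 4, 6, 6, 6, 6, 6])))) (.node 10 (.node 8 (.leaf [6, 9, 7, 7, 7, 7, 7, 7]) (.node 9 (.leaf [9, 6, 5, 10, 8, 8, 8, 8]) (.leaf [8, 7, 9, 11, 9, 9, 9, 9]))) (.node 12 (.node 11 (.leaf [11, 10, 10, 8, 13, 10, 10, 10]) (.leaf [10, 11, 12, 9, 14, 11, 11, 11])) (.node 13 (.leaf [12, 12, 11, 12, 15, 12, 12, 12]) (.leaf [14, 13, 13, 13, 10, 18, 13, 13]))))) (.node 21 (.node 17 (.node 15 (.leaf [13, 14, 15, 14, 11, 19, 14, 14]) (.node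 16 (.leaf [15, 15, 14, 16, 12, 20, 15, 15]) (.leaf [16, 17, 16, 15, 16, 21, 16, 16]))) (.node 19 (.node 18 (.leaf [17, 16, 17, 17, 17, 22, 17, 17]) (.leaf [19, 18, 18, 18, 18, 13, 28, 18])) (.node 20 (.leaf [18, 19, 20, 19, 19, 14, 29, 19]) (.leaf [20, 20, 19, 21, 20, 15, 30, 20])))) (.node 24 (.node 22 (.leaf [21, 22, 21, 20, 23, 16, 31, 21]) (.node 23 (.leaf [22, 21, 22, 22, 24, 17, 32, 22]) (.leaf [23, 24, 23, 23, 21, 23, 33, 23]))) (.node 26 (.node 25 (.leaf [24, 23, 24, 25, 22, 24, 34, 24]) (.leaf [25, 25, 26, 24, 25, 25, 35, 25])) (.node 27 (.leaf [27, 26, 25, 26, 26, 26, 36, 26]) (.leaf [26, 27, 27, 27, 27, 27, 37, 27])))))) (.node 42 (.node 35 (.node 31 (.node 29 (.leaf [29, 28, 28, 28, 28, 28, 18, 28]) (.node 30 (.leaf [28, 29, 30, 29, 29, 29, 19, 29]) (.leaf [30, 30, 29, 31, 30, 30, 20, 30]))) (.node 33 (.node 32 (.leaf [31, 32, 31, 30, 33, 31,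 21, 31]) (.leaf [32, 31, 32, 32, 34, 32, 22, 32])) (.node 34 (.leaf [33, 34, 33, 33, 31, 38, 23, 33]) (.leaf [34, 33, 34, 35, 32, 39, 24, 34])))) (.node 38 (.node 36 (.leaf [35, 35, 36, 34, 35, 40, 25, 35]) (.node 37 (.leaf [37, 36, 35, 36, 36, 41, 26, 36]) (.leaf [36, 37, 37, 37, 37, 42, 27, 37]))) (.node 40 (.node 39 (.leaf [38, 39, 38, 38, 38, 33, 38, 38]) (.leaf [39, 38, 39, 40, 39, 34, 39, 39])) (.node 41 (.leaf [40, 40, 41, 39, 43, 35, 40, 40]) (.leaf [42, 41, 40, 41, 44, 36, 41, 41]))))) (.node 49 (.node 45 (.node 43 (.leaf [41, 42, 42, 42, 45, 37, 42, 42]) (.node 44 (.leaf [43, 43, 44, 43, 40, 43, 43, 43]) (.leaf [45, 44, 43, 46, 41, 44, 44, 44]))) (.node 47 (.node 46 (.leaf [44, 45, 45, 47, 42, 45, 45, 45]) (.leaf [47, 48, 46, 44, 46, 46, 46, 46])) (.node 48 (.leaf [46, 49, 50, 45, 47, 47, 47, 47]) (.leaf [49, 46, 48, 48, 48, 48, 48, 48])))) (.node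 52 (.node 50 (.leaf [48, 47, 51, 49, 49, 49, 49, 49]) (.node 51 (.leaf [50, 51, 47, 50, 50, 50, 50, 50]) (.leaf [51, 50, 49, 52, 51, 51, 51, 51]))) (.node 54 (.node 53 (.leaf [52, 52, 52, 51, 53, 52, 52, 52]) (.leaf [53, 53, 53, 53, 52, 54, 53, 53])) (.node 55 (.leaf [54, 54, 54, 54, 54, 53, 55, 54]) (.leaf [55, 55, 55, 55, 55, 55, 54, 55]))))))
def e8Orb1Par : WTree (ℕ × ℕ) := .node 28 (.node 14 (.node 7 (.node 3 (.node 1 (.leaf (0, 0)) (.node 2 (.leaf (6, 0)) (.leaf (5, 1)))) (.node 5 (.node 4 (.leaf (4, 2)) (.leaf (3, 3))) (.node 6 (.leaf (1, 4)) (.leaf (2, 4))))) (.node 10 (.node 8 (.leaf (0, 6)) (.node 9 (.leaf (1, 6)) (.leaf (0, 8)))) (.node 12 (.node 11 (.leaf (3, 8)) (.leaf (0, 10))) (.node 13 (.leaf (2, 11)) (.leaf (4, 10)))))) (.node 21 (.node 17 (.node 15 (.leaf (0, 13)) (.node 16 (.leaf (2, 14)) (.leaf (3, 15)))) (.node 19 (.node 18 (.leaf (1,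 16)) (.leaf (5, 13))) (.node 20 (.leaf (0, 18)) (.leaf (2, 19))))) (.node 24 (.node 22 (.leaf (3, 20)) (.node 23 (.leaf (1, 21)) (.leaf (4, 21)))) (.node 26 (.node 25 (.leaf (1, 23)) (.leaf (3, 24))) (.node 27 (.leaf (2, 25)) (.leaf (0, 26))))))) (.node 42 (.node 35 (.node 31 (.node 29 (.leaf (6, 18)) (.node 30 (.leaf (0, 28)) (.leaf (2, 29)))) (.node 33 (.node 32 (.leaf (3, 30)) (.leaf (1, 31))) (.node 34 (.leaf (4, 31)) (.leaf (1, 33))))) (.node 38 (.node 36 (.leaf (3, 34)) (.node 37 (.leaf (2, 35)) (.leaf (0, 36)))) (.node 40 (.node 39 (.leaf (5, 33)) (.leaf (1, 38))) (.node 41 (.leaf (3, 39)) (.leaf (2, 40)))))) (.node 49 (.node 45 (.node 43 (.leaf (0, 41)) (.node 44 (.leaf (4, 40)) (.leaf (2, 43)))) (.node 47 (.node 46 (.leaf (0, 44)) (.leaf (3, 44))) (.node 48 (.leaf (0, 46)) (.leaf (1, 46))))) (.node 52 (.node 50 (.leaf (0, 48)) (.node 51 (.leaf (2,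 47)) (.leaf (1, 50)))) (.node 54 (.node 53 (.leaf (3, 51)) (.leaf (4, 52))) (.node 55 (.leaf (5, 53)) (.leaf (6, 54)))))))

theorem e8Orb1_check : WeylData.OrbitCheck e8Weyl (fun i => [true, true, true, true, true, true, true, false].getD i.val false) (fun i => [true, true, true, true, true, true, false, false].getD i.val false) 56
    (fun r c => (e8Orb1V.get r.val).getD c.val 0)
    (fun j r => Fin.ofNat 56 ((e8Orb1Tab.get r.val).getD j.val 0))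
    (fun r => (Fin.ofNat 8 (e8Orb1Par.get r.val).1, Fin.ofNat 56 (e8Orb1Par.get r.val).2))
    (0 : Fin 56) (fun r => WTree.encode 6 13 ((e8Orb1V.get r.val)))
    (fun x => WTree.encode 6 13 (List.ofFn x)) := by
  constructor <;> decide +kernel

def e8Orb2V : WTree (List ℤ) := .node 13 (.node 6 (.node 3 (.node 1 (.leaf [4, 3, 5, 6, 4, 2, 0, 0]) (.node 2 (.leaf [1, 3, 5, 6, 4, 2, 0, 0]) (.leaf [1, 3, 2, 6, 4, 2, 0, 0]))) (.node 4 (.leaf [1, 3, 2, 3, 4, 2, 0, 0]) (.node 5 (.leaf [1, 0, 2, 3, 4, 2, 0, 0]) (.leaf [1, 3, 2, 3, 1, 2, 0, 0])))) (.node 9 (.node 7 (.leaf [1, 0, 2, 3, 1, 2, 0, 0]) (.node 8 (.leaf [1, 0, 2, 0, 1, 2, 0, 0]) (.leaf [1, 0, -1, 0, 1, 2, 0, 0]))) (.node 11 (.node 10 (.leaf [-2, 0, -1, 0, 1, 2, 0, 0]) (.leaf [1, 3, 2, 3, 1, -1, 0, 0])) (.node 12 (.leaf [1, 0, 2, 3, 1, -1, 0, 0]) (.leaf [1, 0, 2, 0, 1, -1, 0, 0]))))) (.node 20 (.node 16 (.node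 14 (.leaf [1, 0, -1, 0, 1, -1, 0, 0]) (.node 15 (.leaf [-2, 0, -1, 0, 1, -1, 0, 0]) (.leaf [1, 0, 2, 0, -2, -1, 0, 0]))) (.node 18 (.node 17 (.leaf [1, 0, -1, 0, -2, -1, 0, 0]) (.leaf [-2, 0, -1, 0, -2, -1, 0, 0])) (.node 19 (.leaf [1, 0, -1, -3, -2, -1, 0, 0]) (.leaf [-2, 0, -1, -3, -2, -1, 0, 0])))) (.node 23 (.node 21 (.leaf [1, -3, -1, -3, -2, -1, 0, 0]) (.node 22 (.leaf [-2, -3, -1, -3, -2, -1, 0, 0]) (.leaf [-2, 0, -4, -3, -2, -1, 0, 0]))) (.node 25 (.node 24 (.leaf [-2, -3, -4, -3, -2, -1, 0, 0]) (.leaf [-2, -3, -4, -6, -2, -1, 0, 0])) (.node 26 (.leaf [-2, -3, -4, -6, -5, -1, 0, 0]) (.leaf [-2, -3, -4, -6, -5, -4, 0, 0])))))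
def e8Orb2Tab : WTree (List ℕ) := .node 13 (.node 6 (.node 3 (.node 1 (.leaf [1, 0, 0, 0, 0, 0, 0, 0]) (.node 2 (.leaf [0, 1, 2, 1, 1, 1, 1, 1]) (.leaf [2, 2, 1, 3, 2, 2, 2, 2]))) (.node 4 (.leaf [3, 4, 3, 2, 5, 3, 3, 3]) (.node 5 (.leaf [4, 3, 4, 4, 6, 4, 4, 4]) (.leaf [5, 6, 5, 5, 3, 10, 5, 5])))) (.node 9 (.node 7 (.leaf [6, 5, 6, 7, 4, 11, 6, 6]) (.node 8 (.leaf [7, 7, 8, 6, 7, 12, 7, 7]) (.leaf [9, 8, 7, 8, 8, 13, 8, 8]))) (.node 11 (.node 10 (.leaf [8, 9, 9, 9, 9, 14, 9, 9]) (.leaf [10, 11, 10, 10, 10, 5, 10, 10])) (.node 12 (.leaf [11, 10, 11, 12, 11, 6, 11, 11]) (.leaf [12, 12, 13, 11, 15, 7, 12, 12]))))) (.node 20 (.node 16 (.node 14 (.leaf [14, 13, 12, 13, 16, 8, 13, 13]) (.node 15 (.leaf [13, 14, 14, 14, 17, 9, 14, 14]) (.leaf [15, 15, 16, 15, 12, 15, 15, 15]))) (.node 18 (.node 17 (.leaf [17, 16, 15, 18, 13, 16, 16, 16]) (.leaf [16, 17, 17, 19,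 14, 17, 17, 17])) (.node 19 (.leaf [19, 20, 18, 16, 18, 18, 18, 18]) (.leaf [18, 21, 22, 17, 19, 19, 19, 19])))) (.node 23 (.node 21 (.leaf [21, 18, 20, 20, 20, 20, 20, 20]) (.node 22 (.leaf [20, 19, 23, 21, 21, 21, 21, 21]) (.leaf [22, 23, 19, 22, 22, 22, 22, 22]))) (.node 25 (.node 24 (.leaf [23, 22, 21, 24, 23, 23, 23, 23]) (.leaf [24, 24, 24, 23, 25, 24, 24, 24])) (.node 26 (.leaf [25, 25, 25, 25, 24, 26, 25, 25]) (.leaf [26, 26, 26, 26, 26, 25, 26, 26])))))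
def e8Orb2Par : WTree (ℕ × ℕ) := .node 13 (.node 6 (.node 3 (.node 1 (.leaf (0, 0)) (.node 2 (.leaf (0, 0)) (.leaf (2, 1)))) (.node 4 (.leaf (3, 2)) (.node 5 (.leaf (1, 3)) (.leaf (4, 3))))) (.node 9 (.node 7 (.leaf (1, 5)) (.node 8 (.leaf (3, 6)) (.leaf (2, 7)))) (.node 11 (.node 10 (.leaf (0, 8)) (.leaf (5, 5))) (.node 12 (.leaf (1, 10)) (.leaf (3, 11)))))) (.node 20 (.node 16 (.node 14 (.leaf (2, 12)) (.node 15 (.leaf (0, 13)) (.leaf (4, 12)))) (.node 18 (.node 17 (.leaf (2, 15)) (.leaf (0, 16))) (.node 19 (.leaf (3, 16)) (.leaf (0, 18))))) (.node 23 (.node 21 (.leaf (1, 18)) (.node 22 (.leaf (0, 20)) (.leaf (2, 19)))) (.node 25 (.node 24 (.leaf (1, 22)) (.leaf (3, 23))) (.node 26 (.leaf (4, 24)) (.leaf (5, 25))))))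

theorem e8Orb2_check : WeylData.OrbitCheck e8Weyl (fun i => [true, true, true, true, true, true, false, false].getD i.val false) (fun i => [false, true, true, true, true, true, false, false].getD i.val false) 27
    (fun r c => (e8Orb2V.get r.val).getD c.val 0)
    (fun j r => Fin.ofNat 27 ((e8Orb2Tab.get r.val).getD j.val 0))
    (fun r => (Fin.ofNat 8 (e8Orb2Par.get r.val).1, Fin.ofNat 27 (e8Orb2Par.get r.val).2))
    (0 : Fin 27) (fun r => WTree.encode 6 13 ((e8Orb2V.get r.val)))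
    (fun x => WTree.encode 6 13 (List.ofFn x)) := by
  constructor <;> decide +kernel

def e8Orb3V : WTree (List ℤ) := .node 5 (.node 2 (.node 1 (.leaf [0, 1, 1, 2, 2, 2, 0, 0]) (.leaf [0, 1, 1, 2, 2, 0, 0, 0])) (.node 3 (.leaf [0, 1, 1, 2, 0, 0, 0, 0]) (.node 4 (.leaf [0, 1, 1, 0, 0, 0, 0, 0]) (.leaf [0, -1, 1, 0, 0, 0, 0, 0])))) (.node 7 (.node 6 (.leaf [0, 1, -1, 0, 0, 0, 0, 0]) (.leaf [0, -1, -1, 0, 0, 0, 0, 0])) (.node 8 (.leaf [0, -1, -1, -2, 0, 0, 0, 0]) (.node 9 (.leaf [0, -1, -1, -2, -2, 0, 0, 0]) (.leaf [0, -1, -1, -2, -2, -2, 0, 0]))))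
def e8Orb3Tab : WTree (List ℕ) := .node 5 (.node 2 (.node 1 (.leaf [0, 0, 0, 0, 0, 1, 0, 0]) (.leaf [1, 1, 1, 1, 2, 0, 1, 1])) (.node 3 (.leaf [2, 2, 2, 3, 1, 2, 2, 2]) (.node 4 (.leaf [3, 4, 5, 2, 3, 3, 3, 3]) (.leaf [4, 3, 6, 4, 4, 4, 4, 4])))) (.node 7 (.node 6 (.leaf [5, 6, 3, 5, 5, 5, 5, 5]) (.leaf [6, 5, 4, 7, 6, 6, 6, 6])) (.node 8 (.leaf [7, 7, 7, 6, 8, 7, 7, 7]) (.node 9 (.leaf [8, 8, 8, 8, 7, 9, 8, 8]) (.leaf [9, 9, 9, 9, 9, 8, 9, 9]))))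
def e8Orb3Par : WTree (ℕ × ℕ) := .node 5 (.node 2 (.node 1 (.leaf (0, 0)) (.leaf (5, 0))) (.node 3 (.leaf (4, 1)) (.node 4 (.leaf (3, 2)) (.leaf (1, 3))))) (.node 7 (.node 6 (.leaf (2, 3)) (.leaf (1, 5))) (.node 8 (.leaf (3, 6)) (.node 9 (.leaf (4, 7)) (.leaf (5, 8)))))

theorem e8Orb3_check : WeylData.OrbitCheck e8Weyl (fun i => [false, true, true, true, true, true, false, false].getD i.val false) (fun i => [false, true, true, true, true, false, false, false].getD i.val false) 10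
    (fun r c => (e8Orb3V.get r.val).getD c.val 0)
    (fun j r => Fin.ofNat 10 ((e8Orb3Tab.get r.val).getD j.val 0))
    (fun r => (Fin.ofNat 8 (e8Orb3Par.get r.val).1, Fin.ofNat 10 (e8Orb3Par.get r.val).2))
    (0 : Fin 10) (fun r => WTree.encode 2 5 ((e8Orb3V.get r.val)))
    (fun x => WTree.encode 2 5 (List.ofFn x)) := by
  constructor <;> decide +kernel

def e8Orb4V : WTree (List ℤ) := .node 4 (.node 2 (.node 1 (.leaf [0, 2, 1, 2, 1, 0, 0, 0]) (.leaf [0, 0, 1, 2, 1, 0, 0, 0])) (.node 3 (.leaf [0, 0, 1, 0, 1, 0, 0, 0]) (.leaf [0, 0, -1, 0, 1, 0, 0, 0]))) (.node 6 (.node 5 (.leaf [0, 0, 1, 0, -1, 0, 0, 0]) (.leaf [0, 0, -1, 0, -1, 0, 0, 0])) (.node 7 (.leaf [0, 0, -1, -2, -1, 0, 0, 0]) (.leaf [0, -2, -1, -2, -1, 0, 0, 0])))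
def e8Orb4Tab : WTree (List ℕ) := .node 4 (.node 2 (.node 1 (.leaf [0, 1, 0, 0, 0, 0, 0, 0]) (.leaf [1, 0, 1, 2, 1, 1, 1, 1])) (.node 3 (.leaf [2, 2, 3, 1, 4, 2, 2, 2]) (.leaf [3, 3, 2, 3, 5, 3, 3, 3]))) (.node 6 (.node 5 (.leaf [4, 4, 5, 4, 2, 4, 4, 4]) (.leaf [5, 5, 4, 6, 3, 5, 5, 5])) (.node 7 (.leaf [6, 7, 6, 5, 6, 6, 6, 6]) (.leaf [7, 6, 7, 7, 7, 7, 7, 7])))
def e8Orb4Par : WTree (ℕ × ℕ) := .node 4 (.node 2 (.node 1 (.leaf (0, 0)) (.leaf (1, 0))) (.node 3 (.leaf (3, 1)) (.leaf (2, 2)))) (.node 6 (.node 5 (.leaf (4, 2)) (.leaf (2, 4))) (.node 7 (.leaf (3, 5)) (.leaf (1, 6))))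

theorem e8Orb4_check : WeylData.OrbitCheck e8Weyl (fun i => [false, true, true, true, true, false, false, false].getD i.val false) (fun i => [false, false, true, true, true, false, false, false].getD i.val false) 8
    (fun r c => (e8Orb4V.get r.val).getD c.val 0)
    (fun j r => Fin.ofNat 8 ((e8Orb4Tab.get r.val).getD j.val 0))
    (fun r => (Fin.ofNat 8 (e8Orb4Par.get r.val).1, Fin.ofNat 8 (e8Orb4Par.get r.val).2))
    (0 : Fin 8) (fun r => WTree.encode 2 5 ((e8Orb4V.get r.val)))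
    (fun x => WTree.encode 2 5 (List.ofFn x)) := by
  constructor <;> decide +kernel

def e8Orb5V : WTree (List ℤ) := .node 2 (.node 1 (.leaf [0, 0, 3, 2, 1, 0, 0, 0]) (.leaf [0, 0, -1, 2, 1, 0, 0, 0])) (.node 3 (.leaf [0, 0, -1, -2, 1, 0, 0, 0]) (.leaf [0, 0, -1, -2, -3, 0, 0, 0]))
def e8Orb5Tab : WTree (List ℕ) := .node 2 (.node 1 (.leaf [0, 0, 1, 0, 0, 0, 0, 0]) (.leaf [1, 1, 0, 2, 1, 1, 1, 1])) (.node 3 (.leaf [2, 2, 2, 1, 3, 2, 2, 2]) (.leaf [3, 3, 3, 3, 2, 3, 3, 3]))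
def e8Orb5Par : WTree (ℕ × ℕ) := .node 2 (.node 1 (.leaf (0, 0)) (.leaf (2, 0))) (.node 3 (.leaf (3, 1)) (.leaf (4, 2)))

theorem e8Orb5_check : WeylData.OrbitCheck e8Weyl (fun i => [false, false, true, true, true, false, false, false].getD i.val false) (fun i => [false, false, false, true, true, false, false, false].getD i.val false) 4
    (fun r c => (e8Orb5V.get r.val).getD c.val 0)
    (fun j r => Fin.ofNat 4 ((e8Orb5Tab.get r.val).getD j.val 0))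
    (fun r => (Fin.ofNat 8 (e8Orb5Par.get r.val).1, Fin.ofNat 4 (e8Orb5Par.get r.val).2))
    (0 : Fin 4) (fun r => WTree.encode 3 7 ((e8Orb5V.get r.val)))
    (fun x => WTree.encode 3 7 (List.ofFn x)) := by
  constructor <;> decide +kernel

def e8Orb6V : WTree (List ℤ) := .node 1 (.leaf [0, 0, 0, 2, 1, 0, 0, 0]) (.node 2 (.leaf [0, 0, 0, -1, 1, 0, 0, 0]) (.leaf [0, 0, 0, -1, -2, 0, 0, 0]))
def e8Orb6Tab : WTree (List ℕ) := .node 1 (.leaf [0, 0, 0, 1, 0, 0, 0, 0]) (.node 2 (.leaf [1, 1, 1, 0, 2, 1, 1, 1]) (.leaf [2, 2, 2, 2, 1, 2, 2, 2]))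
def e8Orb6Par : WTree (ℕ × ℕ) := .node 1 (.leaf (0, 0)) (.node 2 (.leaf (3, 0)) (.leaf (4, 1)))

theorem e8Orb6_check : WeylData.OrbitCheck e8Weyl (fun i => [false, false, false, true, true, false, false, false].getD i.val false) (fun i => [false, false, false, false, true, false, false, false].getD i.val false) 3
    (fun r c => (e8Orb6V.get r.val).getD c.val 0)
    (fun j r => Fin.ofNat 3 ((e8Orb6Tab.get r.val).getD j.val 0))
    (fun r => (Fin.ofNat 8 (e8Orb6Par.get r.val).1, Fin.ofNat 3 (e8Orb6Par.get r.val).2))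
    (0 : Fin 3) (fun r => WTree.encode 2 5 ((e8Orb6V.get r.val)))
    (fun x => WTree.encode 2 5 (List.ofFn x)) := by
  constructor <;> decide +kernel

def e8Orb7V : WTree (List ℤ) := .node 1 (.leaf [0, 0, 0, 0, 1, 0, 0, 0]) (.leaf [0, 0, 0, 0, -1, 0, 0, 0])
def e8Orb7Tab : WTree (List ℕ) := .node 1 (.leaf [0, 0, 0, 0, 1, 0, 0, 0]) (.leaf [1, 1, 1, 1, 0, 1, 1, 1])
def e8Orb7Par : WTree (ℕ × ℕ) := .node 1 (.leaf (0, 0)) (.leaf (4, 0))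

theorem e8Orb7_check : WeylData.OrbitCheck e8Weyl (fun i => [false, false, false, false, true, false, false, false].getD i.val false) (fun i => [false, false, false, false, false, false, false, false].getD i.val false) 2
    (fun r c => (e8Orb7V.get r.val).getD c.val 0)
    (fun j r => Fin.ofNat 2 ((e8Orb7Tab.get r.val).getD j.val 0))
    (fun r => (Fin.ofNat 8 (e8Orb7Par.get r.val).1, Fin.ofNat 2 (e8Orb7Par.get r.val).2))
    (0 : Fin 2) (fun r => WTree.encode 1 3 ((e8Orb7V.get r.val)))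
    (fun x => WTree.encode 1 3 (List.ofFn x)) := by
  constructor <;> decide +kernel

theorem e8Weyl_card : Nat.card e8Weyl.M.Group = 696729600 := by
  have hD := e8Weyl_valid
  have h0 := WeylData.card_step hD e8Orb0_check
  have h1 := WeylData.card_step hD e8Orb1_check
  have h2 := WeylData.card_step hD e8Orb2_check
  have h3 := WeylData.card_step hD e8Orb3_check
  have h4 := WeylData.card_step hD e8Orb4_check
  have h5 := WeylData.card_step hD e8Orb5_check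
  have h6 := WeylData.card_step hD e8Orb6_check
  have h7 := WeylData.card_step hD e8Orb7_check
  have ht : (fun i : Fin 8 => [true, true, true, true, true, true, true, true].getD i.val false = true) = (fun _ : Fin 8 => (true : Bool) = true) :=
    funext fun i => by fin_cases i <;> rfl
  have hf : (fun i : Fin 8 => [false, false, false, false, false, false, false, false].getD i.val false = true) = (fun _ : Fin 8 => (false : Bool) = true) :=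
    funext fun i => by fin_cases i <;> rfl
  rw [ht] at h0
  rw [hf] at h7
  rw [WeylData.card_WJ_false] at h7
  rw [h1, h2, h3, h4, h5, h6, h7] at h0
  rw [WeylData.WJ_true hD, Subgroup.card_top] at h0
  exact h0

theorem e8Weyl_coxeterElement :
    orderOf ((List.finRange 8).map e8Weyl.M.simple).prod = 30 :=
  WeylData.orderOf_wp e8Weyl_valid (List.finRange 8) 30 (by norm_num) (by decide +kernel) (by decide +kernel)

end H53
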