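import Cfsg.Agent.H53.WeylTree
import Cfsg.Prelude.Def_ChevStructure

/-! Weyl group tables of type E6 (generated). -/

set_option autoImplicit false

namespace H53

def e6WeylRoots : WTree (List ℤ) := .node 36 (.node 18 (.node 9 (.node 4 (.node 2 (.node 1 (.leaf [-1, -2, -2, -3, -2, -1]) (.leaf [-1, -1, -2, -3, -2, -1])) (.node 3 (.leaf [-1, -1, -2, -2, -2, -1]) (.leaf [-1, -1, -2, -2, -1, -1]))) (.node 6 (.node 5 (.leaf [-1, -1, -2, -2, -1, 0]) (.leaf [-1, -1, -1, -2, -2, -1])) (.node 7 (.leaf [-1, -1, -1, -2, -1, -1]) (.node 8 (.leaf [-1, -1, -1, -2, -1, 0]) (.leaf [-1, -1, -1, -1, -1, -1]))))) (.node 13 (.node 11 (.node 10 (.leaf [-1, -1, -1, -1, -1, 0]) (.leaf [-1, -1, -1, -1, 0, 0])) (.node 12 (.leaf [-1, 0, -1, -1, -1, -1]) (.leaf [-1, 0, -1, -1, -1, 0]))) (.node 15 (.node 14 (.leaf [-1, 0, -1, -1, 0, 0]) (.leaf [-1, 0, -1, 0, 0, 0])) (.node 16 (.leaf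 [-1, 0, 0, 0, 0, 0]) (.node 17 (.leaf [0, -1, -1, -2, -2, -1]) (.leaf [0, -1, -1, -2, -1, -1])))))) (.node 27 (.node 22 (.node 20 (.node 19 (.leaf [0, -1, -1, -2, -1, 0]) (.leaf [0, -1, -1, -1, -1, -1])) (.node 21 (.leaf [0, -1, -1, -1, -1, 0]) (.leaf [0, -1, -1, -1, 0, 0]))) (.node 24 (.node 23 (.leaf [0, -1, 0, -1, -1, -1]) (.leaf [0, -1, 0, -1, -1, 0])) (.node 25 (.leaf [0, -1, 0, -1, 0, 0]) (.node 26 (.leaf [0, -1, 0, 0, 0, 0]) (.leaf [0, 0, -1, -1, -1, -1]))))) (.node 31 (.node 29 (.node 28 (.leaf [0, 0, -1, -1, -1, 0]) (.leaf [0, 0, -1, -1, 0, 0])) (.node 30 (.leaf [0, 0, -1, 0, 0, 0]) (.leaf [0, 0, 0, -1, -1, -1]))) (.node 33 (.node 32 (.leaf [0, 0, 0, -1, -1, 0]) (.leaf [0, 0, 0, -1, 0, 0])) (.node 34 (.leaf [0, 0, 0, 0, -1, -1]) (.node 35 (.leaf [0, 0, 0, 0, -1, 0]) (.leaf [0, 0, 0, 0, 0, -1]))))))) (.node 54 (.node 45 (.node 40 (.node 38 (.node 37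 (.leaf [0, 0, 0, 0, 0, 1]) (.leaf [0, 0, 0, 0, 1, 0])) (.node 39 (.leaf [0, 0, 0, 0, 1, 1]) (.leaf [0, 0, 0, 1, 0, 0]))) (.node 42 (.node 41 (.leaf [0, 0, 0, 1, 1, 0]) (.leaf [0, 0, 0, 1, 1, 1])) (.node 43 (.leaf [0, 0, 1, 0, 0, 0]) (.node 44 (.leaf [0, 0, 1, 1, 0, 0]) (.leaf [0, 0, 1, 1, 1, 0]))))) (.node 49 (.node 47 (.node 46 (.leaf [0, 0, 1, 1, 1, 1]) (.leaf [0, 1, 0, 0, 0, 0])) (.node 48 (.leaf [0, 1, 0, 1, 0, 0]) (.leaf [0, 1, 0, 1, 1, 0]))) (.node 51 (.node 50 (.leaf [0, 1, 0, 1, 1, 1]) (.leaf [0, 1, 1, 1, 0, 0])) (.node 52 (.leaf [0, 1, 1, 1, 1, 0]) (.node 53 (.leaf [0, 1, 1, 1, 1, 1]) (.leaf [0, 1, 1, 2, 1, 0])))))) (.node 63 (.node 58 (.node 56 (.node 55 (.leaf [0, 1, 1, 2, 1, 1]) (.leaf [0, 1, 1, 2, 2, 1])) (.node 57 (.leaf [1, 0, 0, 0, 0, 0]) (.leaf [1, 0, 1, 0, 0, 0]))) (.node 60 (.node 59 (.leaf [1, 0, 1, 1, 0, 0]) (.leaf [1, 0, 1, 1, 1, 0]))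 (.node 61 (.leaf [1, 0, 1, 1, 1, 1]) (.node 62 (.leaf [1, 1, 1, 1, 0, 0]) (.leaf [1, 1, 1, 1, 1, 0]))))) (.node 67 (.node 65 (.node 64 (.leaf [1, 1, 1, 1, 1, 1]) (.leaf [1, 1, 1, 2, 1, 0])) (.node 66 (.leaf [1, 1, 1, 2, 1, 1]) (.leaf [1, 1, 1, 2, 2, 1]))) (.node 69 (.node 68 (.leaf [1, 1, 2, 2, 1, 0]) (.leaf [1, 1, 2, 2, 1, 1])) (.node 70 (.leaf [1, 1, 2, 2, 2, 1]) (.node 71 (.leaf [1, 1, 2, 3, 2, 1]) (.leaf [1, 2, 2, 3, 2, 1])))))))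
def e6WeylAct : WTree (List ℕ) := .node 36 (.node 18 (.node 9 (.node 4 (.node 2 (.node 1 (.leaf [0, 1, 0, 0, 0, 0]) (.leaf [1, 0, 1, 2, 1, 1])) (.node 3 (.leaf [2, 2, 5, 1, 3, 2]) (.leaf [3, 3, 6, 3, 2, 4]))) (.node 6 (.node 5 (.leaf [4, 4, 7, 4, 4, 3]) (.leaf [16, 5, 2, 5, 6, 5])) (.node 7 (.leaf [17, 6, 3, 8, 5, 7]) (.node 8 (.leaf [18, 7, 4, 9, 7, 6]) (.leaf [19, 11, 8, 6, 8, 9]))))) (.node 13 (.node 11 (.node 10 (.leaf [20, 12, 9, 7, 10, 8]) (.leaf [21, 13, 10, 10, 9, 10])) (.node 12 (.leaf [26, 8, 11, 11, 11, 12]) (.leaf [27, 9, 12, 12, 13, 11]))) (.node 15 (.node 14 (.leaf [28, 10, 13, 14, 12, 13]) (.leaf [29, 14, 15, 13, 14, 14])) (.node 16 (.leaf [56, 15, 14, 15, 15, 15]) (.node 17 (.leaf [5, 16, 16, 16, 17, 16]) (.leaf [6, 17, 17, 19, 16, 18])))))) (.node 27 (.node 22 (.node 20 (.node 19 (.leaf [7, 18, 18, 20, 18, 17]) (.leaf [8, 26, 22, 17, 19, 20]))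 (.node 21 (.leaf [9, 27, 23, 18, 21, 19]) (.leaf [10, 28, 24, 21, 20, 21]))) (.node 24 (.node 23 (.leaf [22, 30, 19, 22, 22, 23]) (.leaf [23, 31, 20, 23, 24, 22])) (.node 25 (.leaf [24, 32, 21, 25, 23, 24]) (.node 26 (.leaf [25, 46, 25, 24, 25, 25]) (.leaf [11, 19, 30, 26, 26, 27]))))) (.node 31 (.node 29 (.node 28 (.leaf [12, 20, 31, 27, 28, 26]) (.leaf [13, 21, 32, 29, 27, 28])) (.node 30 (.leaf [14, 29, 42, 28, 29, 29]) (.leaf [30, 22, 26, 33, 30, 31]))) (.node 33 (.node 32 (.leaf [31, 23, 27, 34, 32, 30]) (.leaf [32, 24, 28, 39, 31, 32])) (.node 34 (.leaf [33, 33, 33, 30, 35, 34]) (.node 35 (.leaf [34, 34, 34, 31, 37, 33]) (.leaf [35, 35, 35, 35, 33, 36]))))))) (.node 54 (.node 45 (.node 40 (.node 38 (.node 37 (.leaf [36, 36, 36, 36, 38, 35]) (.leaf [37, 37, 37, 40, 34, 38])) (.node 39 (.leaf [38, 38, 38, 41, 36, 37]) (.leaf [39, 47, 43, 32, 40, 39])))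 (.node 42 (.node 41 (.leaf [40, 48, 44, 37, 39, 41]) (.leaf [41, 49, 45, 38, 41, 40])) (.node 43 (.leaf [57, 42, 29, 43, 42, 42]) (.node 44 (.leaf [58, 50, 39, 42, 44, 43]) (.leaf [59, 51, 40, 44, 43, 45]))))) (.node 49 (.node 47 (.node 46 (.leaf [60, 52, 41, 45, 45, 44]) (.leaf [46, 25, 46, 47, 46, 46])) (.node 48 (.leaf [47, 39, 50, 46, 48, 47]) (.leaf [48, 40, 51, 48, 47, 49]))) (.node 51 (.node 50 (.leaf [49, 41, 52, 49, 49, 48]) (.leaf [61, 43, 47, 50, 51, 50])) (.node 52 (.leaf [62, 44, 48, 53, 50, 52]) (.node 53 (.leaf [63, 45, 49, 54, 52, 51]) (.leaf [64, 53, 53, 51, 53, 54])))))) (.node 63 (.node 58 (.node 56 (.node 55 (.leaf [65, 54, 54, 52, 55, 53]) (.leaf [66, 55, 55, 55, 54, 55])) (.node 57 (.leaf [15, 56, 57, 56, 56, 56]) (.leaf [42, 57, 56, 58, 57, 57]))) (.node 60 (.node 59 (.leaf [43, 61, 58, 57, 59, 58]) (.leaf [44, 62, 59, 59, 58, 60])) (.node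 61 (.leaf [45, 63, 60, 60, 60, 59]) (.node 62 (.leaf [50, 58, 61, 61, 62, 61]) (.leaf [51, 59, 62, 64, 61, 63]))))) (.node 67 (.node 65 (.node 64 (.leaf [52, 60, 63, 65, 63, 62]) (.leaf [53, 64, 67, 62, 64, 65])) (.node 66 (.leaf [54, 65, 68, 63, 66, 64]) (.leaf [55, 66, 69, 66, 65, 66]))) (.node 69 (.node 68 (.leaf [67, 67, 64, 67, 67, 68]) (.leaf [68, 68, 65, 68, 69, 67])) (.node 70 (.leaf [69, 69, 66, 70, 68, 69]) (.node 71 (.leaf [70, 71, 70, 69, 70, 70]) (.leaf [71, 70, 71, 71, 71, 71])))))))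

/-- The root system of type E6. -/
def e6Weyl : WeylData 6 72 where
  A i j := (([[2, 0, -1, 0, 0, 0], [0, 2, 0, -1, 0, 0], [-1, 0, 2, -1, 0, 0], [0, -1, -1, 2, -1, 0], [0, 0, 0, -1, 2, -1], [0, 0, 0, 0, -1, 2]] : List (List ℤ)).getD i.val []).getD j.val 0
  d i := ([1, 1, 1, 1, 1, 1] : List ℤ).getD i.val 0
  M := CoxeterMatrix.E₆
  v r k := (e6WeylRoots.get r.val).getD k.val 0
  simple i := Fin.ofNat 72 (([56, 46, 42, 39, 37, 36] : List ℕ).getD i.val 0)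
  act i r := Fin.ofNat 72 ((e6WeylAct.get r.val).getD i.val 0)

set_option backward.isDefEq.respectTransparency false in
theorem e6Weyl_valid : e6Weyl.Valid := by
  constructor <;> decide +kernel

def e6Orb0V : WTree (List ℤ) := .node 13 (.node 6 (.node 3 (.node 1 (.leaf [4, 3, 5, 6, 4, 2]) (.node 2 (.leaf [1, 3, 5, 6, 4, 2]) (.leaf [1, 3, 2, 6, 4, 2]))) (.node 4 (.leaf [1, 3, 2, 3, 4, 2]) (.node 5 (.leaf [1, 0, 2, 3, 4, 2]) (.leaf [1, 3, 2, 3, 1, 2])))) (.node 9 (.node 7 (.leaf [1, 0, 2, 3, 1, 2]) (.node 8 (.leaf [1, 0, 2, 0, 1, 2]) (.leaf [1, 0, -1, 0, 1, 2]))) (.node 11 (.node 10 (.leaf [-2, 0, -1, 0, 1, 2]) (.leaf [1, 3, 2, 3, 1, -1])) (.node 12 (.leaf [1, 0, 2, 3, 1, -1]) (.leaf [1, 0, 2, 0, 1, -1]))))) (.node 20 (.node 16 (.node 14 (.leaf [1, 0, -1, 0, 1, -1]) (.node 15 (.leaf [-2, 0, -1, 0, 1, -1]) (.leaf [1, 0, 2, 0, -2, -1]))) (.node 18 (.node 17 (.leaf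 [1, 0, -1, 0, -2, -1]) (.leaf [-2, 0, -1, 0, -2, -1])) (.node 19 (.leaf [1, 0, -1, -3, -2, -1]) (.leaf [-2, 0, -1, -3, -2, -1])))) (.node 23 (.node 21 (.leaf [1, -3, -1, -3, -2, -1]) (.node 22 (.leaf [-2, -3, -1, -3, -2, -1]) (.leaf [-2, 0, -4, -3, -2, -1]))) (.node 25 (.node 24 (.leaf [-2, -3, -4, -3, -2, -1]) (.leaf [-2, -3, -4, -6, -2, -1])) (.node 26 (.leaf [-2, -3, -4, -6, -5, -1]) (.leaf [-2, -3, -4, -6, -5, -4])))))
def e6Orb0Tab : WTree (List ℕ) := .node 13 (.node 6 (.node 3 (.node 1 (.leaf [1, 0, 0, 0, 0, 0]) (.node 2 (.leaf [0, 1, 2, 1, 1, 1]) (.leaf [2, 2, 1, 3, 2, 2]))) (.node 4 (.leaf [3, 4, 3, 2, 5, 3]) (.node 5 (.leaf [4, 3, 4, 4, 6, 4]) (.leaf [5, 6, 5, 5, 3, 10])))) (.node 9 (.node 7 (.leaf [6, 5, 6, 7, 4, 11]) (.node 8 (.leaf [7, 7, 8, 6, 7, 12]) (.leaf [9, 8, 7, 8, 8, 13]))) (.node 11 (.node 10 (.leaf [8, 9, 9, 9, 9, 14]) (.leaf [10, 11,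 10, 10, 10, 5])) (.node 12 (.leaf [11, 10, 11, 12, 11, 6]) (.leaf [12, 12, 13, 11, 15, 7]))))) (.node 20 (.node 16 (.node 14 (.leaf [14, 13, 12, 13, 16, 8]) (.node 15 (.leaf [13, 14, 14, 14, 17, 9]) (.leaf [15, 15, 16, 15, 12, 15]))) (.node 18 (.node 17 (.leaf [17, 16, 15, 18, 13, 16]) (.leaf [16, 17, 17, 19, 14, 17])) (.node 19 (.leaf [19, 20, 18, 16, 18, 18]) (.leaf [18, 21, 22, 17, 19, 19])))) (.node 23 (.node 21 (.leaf [21, 18, 20, 20, 20, 20]) (.node 22 (.leaf [20, 19, 23, 21, 21, 21]) (.leaf [22, 23, 19, 22, 22, 22]))) (.node 25 (.node 24 (.leaf [23, 22, 21, 24, 23, 23]) (.leaf [24, 24, 24, 23, 25, 24])) (.node 26 (.leaf [25, 25, 25, 25, 24, 26]) (.leaf [26, 26, 26, 26, 26, 25])))))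
def e6Orb0Par : WTree (ℕ × ℕ) := .node 13 (.node 6 (.node 3 (.node 1 (.leaf (0, 0)) (.node 2 (.leaf (0, 0)) (.leaf (2, 1)))) (.node 4 (.leaf (3, 2)) (.node 5 (.leaf (1, 3)) (.leaf (4, 3))))) (.node 9 (.node 7 (.leaf (1, 5)) (.node 8 (.leaf (3, 6)) (.leaf (2, 7)))) (.node 11 (.node 10 (.leaf (0, 8)) (.leaf (5, 5))) (.node 12 (.leaf (1, 10)) (.leaf (3, 11)))))) (.node 20 (.node 16 (.node 14 (.leaf (2, 12)) (.node 15 (.leaf (0, 13)) (.leaf (4, 12)))) (.node 18 (.node 17 (.leaf (2, 15)) (.leaf (0, 16))) (.node 19 (.leaf (3, 16)) (.leaf (0, 18))))) (.node 23 (.node 21 (.leaf (1, 18)) (.node 22 (.leaf (0, 20)) (.leaf (2, 19)))) (.node 25 (.node 24 (.leaf (1, 22)) (.leaf (3, 23))) (.node 26 (.leaf (4, 24)) (.leaf (5, 25))))))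

theorem e6Orb0_check : WeylData.OrbitCheck e6Weyl (fun i => [true, true, true, true, true, true].getD i.val false) (fun i => [false, true, true, true, true, true].getD i.val false) 27
    (fun r c => (e6Orb0V.get r.val).getD c.val 0)
    (fun j r => Fin.ofNat 27 ((e6Orb0Tab.get r.val).getD j.val 0))
    (fun r => (Fin.ofNat 6 (e6Orb0Par.get r.val).1, Fin.ofNat 27 (e6Orb0Par.get r.val).2))
    (0 : Fin 27) (fun r => WTree.encode 6 13 ((e6Orb0V.get r.val)))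
    (fun x => WTree.encode 6 13 (List.ofFn x)) := by
  constructor <;> decide +kernel

def e6Orb1V : WTree (List ℤ) := .node 5 (.node 2 (.node 1 (.leaf [0, 1, 1, 2, 2, 2]) (.leaf [0, 1, 1, 2, 2, 0])) (.node 3 (.leaf [0, 1, 1, 2, 0, 0]) (.node 4 (.leaf [0, 1, 1, 0, 0, 0]) (.leaf [0, -1, 1, 0, 0, 0])))) (.node 7 (.node 6 (.leaf [0, 1, -1, 0, 0, 0]) (.leaf [0, -1, -1, 0, 0, 0])) (.node 8 (.leaf [0, -1, -1, -2, 0, 0]) (.node 9 (.leaf [0, -1, -1, -2, -2, 0]) (.leaf [0, -1, -1, -2, -2, -2]))))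
def e6Orb1Tab : WTree (List ℕ) := .node 5 (.node 2 (.node 1 (.leaf [0, 0, 0, 0, 0, 1]) (.leaf [1, 1, 1, 1, 2, 0])) (.node 3 (.leaf [2, 2, 2, 3, 1, 2]) (.node 4 (.leaf [3, 4, 5, 2, 3, 3]) (.leaf [4, 3, 6, 4, 4, 4])))) (.node 7 (.node 6 (.leaf [5, 6, 3, 5, 5, 5]) (.leaf [6, 5, 4, 7, 6, 6])) (.node 8 (.leaf [7, 7, 7, 6, 8, 7]) (.node 9 (.leaf [8, 8, 8, 8, 7, 9]) (.leaf [9, 9, 9, 9, 9, 8]))))
def e6Orb1Par : WTree (ℕ × ℕ) := .node 5 (.node 2 (.node 1 (.leaf (0, 0)) (.leaf (5, 0))) (.node 3 (.leaf (4, 1)) (.node 4 (.leaf (3, 2)) (.leaf (1, 3))))) (.node 7 (.node 6 (.leaf (2, 3)) (.leaf (1, 5))) (.node 8 (.leaf (3, 6)) (.node 9 (.leaf (4, 7)) (.leaf (5, 8)))))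

theorem e6Orb1_check : WeylData.OrbitCheck e6Weyl (fun i => [false, true, true, true, true, true].getD i.val false) (fun i => [false, true, true, true, true, false].getD i.val false) 10
    (fun r c => (e6Orb1V.get r.val).getD c.val 0)
    (fun j r => Fin.ofNat 10 ((e6Orb1Tab.get r.val).getD j.val 0))
    (fun r => (Fin.ofNat 6 (e6Orb1Par.get r.val).1, Fin.ofNat 10 (e6Orb1Par.get r.val).2))
    (0 : Fin 10) (fun r => WTree.encode 2 5 ((e6Orb1V.get r.val)))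
    (fun x => WTree.encode 2 5 (List.ofFn x)) := by
  constructor <;> decide +kernel

def e6Orb2V : WTree (List ℤ) := .node 4 (.node 2 (.node 1 (.leaf [0, 2, 1, 2, 1, 0]) (.leaf [0, 0, 1, 2, 1, 0])) (.node 3 (.leaf [0, 0, 1, 0, 1, 0]) (.leaf [0, 0, -1, 0, 1, 0]))) (.node 6 (.node 5 (.leaf [0, 0, 1, 0, -1, 0]) (.leaf [0, 0, -1, 0, -1, 0])) (.node 7 (.leaf [0, 0, -1, -2, -1, 0]) (.leaf [0, -2, -1, -2, -1, 0])))
def e6Orb2Tab : WTree (List ℕ) := .node 4 (.node 2 (.node 1 (.leaf [0, 1, 0, 0, 0, 0]) (.leaf [1, 0, 1, 2, 1, 1])) (.node 3 (.leaf [2, 2, 3, 1, 4, 2]) (.leaf [3, 3, 2, 3, 5, 3]))) (.node 6 (.node 5 (.leaf [4, 4, 5, 4, 2, 4]) (.leaf [5, 5, 4, 6, 3, 5])) (.node 7 (.leaf [6, 7, 6, 5, 6, 6]) (.leaf [7, 6, 7, 7, 7, 7])))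
def e6Orb2Par : WTree (ℕ × ℕ) := .node 4 (.node 2 (.node 1 (.leaf (0, 0)) (.leaf (1, 0))) (.node 3 (.leaf (3, 1)) (.leaf (2, 2)))) (.node 6 (.node 5 (.leaf (4, 2)) (.leaf (2, 4))) (.node 7 (.leaf (3, 5)) (.leaf (1, 6))))

theorem e6Orb2_check : WeylData.OrbitCheck e6Weyl (fun i => [false, true, true, true, true, false].getD i.val false) (fun i => [false, false, true, true, true, false].getD i.val false) 8
    (fun r c => (e6Orb2V.get r.val).getD c.val 0)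
    (fun j r => Fin.ofNat 8 ((e6Orb2Tab.get r.val).getD j.val 0))
    (fun r => (Fin.ofNat 6 (e6Orb2Par.get r.val).1, Fin.ofNat 8 (e6Orb2Par.get r.val).2))
    (0 : Fin 8) (fun r => WTree.encode 2 5 ((e6Orb2V.get r.val)))
    (fun x => WTree.encode 2 5 (List.ofFn x)) := by
  constructor <;> decide +kernel

def e6Orb3V : WTree (List ℤ) := .node 2 (.node 1 (.leaf [0, 0, 3, 2, 1, 0]) (.leaf [0, 0, -1, 2, 1, 0])) (.node 3 (.leaf [0, 0, -1, -2, 1, 0]) (.leaf [0, 0, -1, -2, -3, 0]))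
def e6Orb3Tab : WTree (List ℕ) := .node 2 (.node 1 (.leaf [0, 0, 1, 0, 0, 0]) (.leaf [1, 1, 0, 2, 1, 1])) (.node 3 (.leaf [2, 2, 2, 1, 3, 2]) (.leaf [3, 3, 3, 3, 2, 3]))
def e6Orb3Par : WTree (ℕ × ℕ) := .node 2 (.node 1 (.leaf (0, 0)) (.leaf (2, 0))) (.node 3 (.leaf (3, 1)) (.leaf (4, 2)))

theorem e6Orb3_check : WeylData.OrbitCheck e6Weyl (fun i => [false, false, true, true, true, false].getD i.val false) (fun i => [false, false, false, true, true, false].getD i.val false) 4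
    (fun r c => (e6Orb3V.get r.val).getD c.val 0)
    (fun j r => Fin.ofNat 4 ((e6Orb3Tab.get r.val).getD j.val 0))
    (fun r => (Fin.ofNat 6 (e6Orb3Par.get r.val).1, Fin.ofNat 4 (e6Orb3Par.get r.val).2))
    (0 : Fin 4) (fun r => WTree.encode 3 7 ((e6Orb3V.get r.val)))
    (fun x => WTree.encode 3 7 (List.ofFn x)) := by
  constructor <;> decide +kernel

def e6Orb4V : WTree (List ℤ) := .node 1 (.leaf [0, 0, 0, 2, 1, 0]) (.node 2 (.leaf [0, 0, 0, -1, 1, 0]) (.leaf [0, 0, 0, -1, -2, 0]))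
def e6Orb4Tab : WTree (List ℕ) := .node 1 (.leaf [0, 0, 0, 1, 0, 0]) (.node 2 (.leaf [1, 1, 1, 0, 2, 1]) (.leaf [2, 2, 2, 2, 1, 2]))
def e6Orb4Par : WTree (ℕ × ℕ) := .node 1 (.leaf (0, 0)) (.node 2 (.leaf (3, 0)) (.leaf (4, 1)))

theorem e6Orb4_check : WeylData.OrbitCheck e6Weyl (fun i => [false, false, false, true, true, false].getD i.val false) (fun i => [false, false, false, false, true, false].getD i.val false) 3
    (fun r c => (e6Orb4V.get r.val).getD c.val 0)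
    (fun j r => Fin.ofNat 3 ((e6Orb4Tab.get r.val).getD j.val 0))
    (fun r => (Fin.ofNat 6 (e6Orb4Par.get r.val).1, Fin.ofNat 3 (e6Orb4Par.get r.val).2))
    (0 : Fin 3) (fun r => WTree.encode 2 5 ((e6Orb4V.get r.val)))
    (fun x => WTree.encode 2 5 (List.ofFn x)) := by
  constructor <;> decide +kernel

def e6Orb5V : WTree (List ℤ) := .node 1 (.leaf [0, 0, 0, 0, 1, 0]) (.leaf [0, 0, 0, 0, -1, 0])
def e6Orb5Tab : WTree (List ℕ) := .node 1 (.leaf [0, 0, 0, 0, 1, 0]) (.leaf [1, 1, 1, 1, 0, 1])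
def e6Orb5Par : WTree (ℕ × ℕ) := .node 1 (.leaf (0, 0)) (.leaf (4, 0))

theorem e6Orb5_check : WeylData.OrbitCheck e6Weyl (fun i => [false, false, false, false, true, false].getD i.val false) (fun i => [false, false, false, false, false, false].getD i.val false) 2
    (fun r c => (e6Orb5V.get r.val).getD c.val 0)
    (fun j r => Fin.ofNat 2 ((e6Orb5Tab.get r.val).getD j.val 0))
    (fun r => (Fin.ofNat 6 (e6Orb5Par.get r.val).1, Fin.ofNat 2 (e6Orb5Par.get r.val).2))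
    (0 : Fin 2) (fun r => WTree.encode 1 3 ((e6Orb5V.get r.val)))
    (fun x => WTree.encode 1 3 (List.ofFn x)) := by
  constructor <;> decide +kernel

theorem e6Weyl_card : Nat.card e6Weyl.M.Group = 51840 := by
  have hD := e6Weyl_valid
  have h0 := WeylData.card_step hD e6Orb0_check
  have h1 := WeylData.card_step hD e6Orb1_check
  have h2 := WeylData.card_step hD e6Orb2_check
  have h3 := WeylData.card_step hD e6Orb3_check
  have h4 := WeylData.card_step hD e6Orb4_check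
  have h5 := WeylData.card_step hD e6Orb5_check
  have ht : (fun i : Fin 6 => [true, true, true, true, true, true].getD i.val false = true) = (fun _ : Fin 6 => (true : Bool) = true) :=
    funext fun i => by fin_cases i <;> rfl
  have hf : (fun i : Fin 6 => [false, false, false, false, false, false].getD i.val false = true) = (fun _ : Fin 6 => (false : Bool) = true) :=
    funext fun i => by fin_cases i <;> rfl
  rw [ht] at h0
  rw [hf] at h5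
  rw [WeylData.card_WJ_false] at h5
  rw [h1, h2, h3, h4, h5] at h0
  rw [WeylData.WJ_true hD, Subgroup.card_top] at h0
  exact h0

theorem e6Weyl_coxeterElement :
    orderOf ((List.finRange 6).map e6Weyl.M.simple).prod = 12 :=
  WeylData.orderOf_wp e6Weyl_valid (List.finRange 6) 12 (by norm_num) (by decide +kernel) (by decide +kernel)

end H53
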