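import Cfsg.Agent.H53.WeylTree
import Cfsg.Prelude.Def_ChevStructure

/-! Weyl group tables of type E7 (generated). -/

set_option autoImplicit false

namespace H53

def e7WeylRoots : WTree (List ℤ) := .node 63 (.node 31 (.node 15 (.node 7 (.node 3 (.node 1 (.leaf [-2, -2, -3, -4, -3, -2, -1]) (.node 2 (.leaf [-1, -2, -3, -4, -3, -2, -1]) (.leaf [-1, -2, -2, -4, -3, -2, -1]))) (.node 5 (.node 4 (.leaf [-1, -2, -2, -3, -3, -2, -1]) (.leaf [-1, -2, -2, -3, -2, -2, -1])) (.node 6 (.leaf [-1, -2, -2, -3, -2, -1, -1]) (.leaf [-1, -2, -2, -3, -2, -1, 0])))) (.node 11 (.node 9 (.node 8 (.leaf [-1, -1, -2, -3, -3, -2, -1]) (.leaf [-1, -1, -2, -3, -2, -2, -1])) (.node 10 (.leaf [-1, -1, -2, -3, -2, -1, -1]) (.leaf [-1, -1, -2, -3, -2, -1, 0]))) (.node 13 (.node 12 (.leaf [-1, -1, -2, -2, -2, -2, -1]) (.leaf [-1, -1, -2, -2, -2, -1, -1])) (.node 14 (.leaf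 [-1, -1, -2, -2, -2, -1, 0]) (.leaf [-1, -1, -2, -2, -1, -1, -1]))))) (.node 23 (.node 19 (.node 17 (.node 16 (.leaf [-1, -1, -2, -2, -1, -1, 0]) (.leaf [-1, -1, -2, -2, -1, 0, 0])) (.node 18 (.leaf [-1, -1, -1, -2, -2, -2, -1]) (.leaf [-1, -1, -1, -2, -2, -1, -1]))) (.node 21 (.node 20 (.leaf [-1, -1, -1, -2, -2, -1, 0]) (.leaf [-1, -1, -1, -2, -1, -1, -1])) (.node 22 (.leaf [-1, -1, -1, -2, -1, -1, 0]) (.leaf [-1, -1, -1, -2, -1, 0, 0])))) (.node 27 (.node 25 (.node 24 (.leaf [-1, -1, -1, -1, -1, -1, -1]) (.leaf [-1, -1, -1, -1, -1, -1, 0])) (.node 26 (.leaf [-1, -1, -1, -1, -1, 0, 0]) (.leaf [-1, -1, -1, -1, 0, 0, 0]))) (.node 29 (.node 28 (.leaf [-1, 0, -1, -1, -1, -1, -1]) (.leaf [-1, 0, -1, -1, -1, -1, 0])) (.node 30 (.leaf [-1, 0, -1, -1, -1, 0, 0]) (.leaf [-1, 0, -1, -1, 0, 0, 0])))))) (.node 47 (.node 39 (.node 35 (.node 33 (.node 32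 (.leaf [-1, 0, -1, 0, 0, 0, 0]) (.leaf [-1, 0, 0, 0, 0, 0, 0])) (.node 34 (.leaf [0, -1, -1, -2, -2, -2, -1]) (.leaf [0, -1, -1, -2, -2, -1, -1]))) (.node 37 (.node 36 (.leaf [0, -1, -1, -2, -2, -1, 0]) (.leaf [0, -1, -1, -2, -1, -1, -1])) (.node 38 (.leaf [0, -1, -1, -2, -1, -1, 0]) (.leaf [0, -1, -1, -2, -1, 0, 0])))) (.node 43 (.node 41 (.node 40 (.leaf [0, -1, -1, -1, -1, -1, -1]) (.leaf [0, -1, -1, -1, -1, -1, 0])) (.node 42 (.leaf [0, -1, -1, -1, -1, 0, 0]) (.leaf [0, -1, -1, -1, 0, 0, 0]))) (.node 45 (.node 44 (.leaf [0, -1, 0, -1, -1, -1, -1]) (.leaf [0, -1, 0, -1, -1, -1, 0])) (.node 46 (.leaf [0, -1, 0, -1, -1, 0, 0]) (.leaf [0, -1, 0, -1, 0, 0, 0]))))) (.node 55 (.node 51 (.node 49 (.node 48 (.leaf [0, -1, 0, 0, 0, 0, 0]) (.leaf [0, 0, -1, -1, -1, -1, -1])) (.node 50 (.leaf [0, 0, -1, -1, -1, -1, 0]) (.leaf [0, 0, -1, -1, -1, 0, 0])))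 (.node 53 (.node 52 (.leaf [0, 0, -1, -1, 0, 0, 0]) (.leaf [0, 0, -1, 0, 0, 0, 0])) (.node 54 (.leaf [0, 0, 0, -1, -1, -1, -1]) (.leaf [0, 0, 0, -1, -1, -1, 0])))) (.node 59 (.node 57 (.node 56 (.leaf [0, 0, 0, -1, -1, 0, 0]) (.leaf [0, 0, 0, -1, 0, 0, 0])) (.node 58 (.leaf [0, 0, 0, 0, -1, -1, -1]) (.leaf [0, 0, 0, 0, -1, -1, 0]))) (.node 61 (.node 60 (.leaf [0, 0, 0, 0, -1, 0, 0]) (.leaf [0, 0, 0, 0, 0, -1, -1])) (.node 62 (.leaf [0, 0, 0, 0, 0, -1, 0]) (.leaf [0, 0, 0, 0, 0, 0, -1]))))))) (.node 94 (.node 78 (.node 70 (.node 66 (.node 64 (.leaf [0, 0, 0, 0, 0, 0, 1]) (.node 65 (.leaf [0, 0, 0, 0, 0, 1, 0]) (.leaf [0, 0, 0, 0, 0, 1, 1]))) (.node 68 (.node 67 (.leaf [0, 0, 0, 0, 1, 0, 0]) (.leaf [0, 0, 0, 0, 1, 1, 0])) (.node 69 (.leaf [0, 0, 0, 0, 1, 1, 1]) (.leaf [0, 0, 0, 1, 0, 0, 0])))) (.node 74 (.node 72 (.node 71 (.leaf [0, 0, 0, 1, 1,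 0, 0]) (.leaf [0, 0, 0, 1, 1, 1, 0])) (.node 73 (.leaf [0, 0, 0, 1, 1, 1, 1]) (.leaf [0, 0, 1, 0, 0, 0, 0]))) (.node 76 (.node 75 (.leaf [0, 0, 1, 1, 0, 0, 0]) (.leaf [0, 0, 1, 1, 1, 0, 0])) (.node 77 (.leaf [0, 0, 1, 1, 1, 1, 0]) (.leaf [0, 0, 1, 1, 1, 1, 1]))))) (.node 86 (.node 82 (.node 80 (.node 79 (.leaf [0, 1, 0, 0, 0, 0, 0]) (.leaf [0, 1, 0, 1, 0, 0, 0])) (.node 81 (.leaf [0, 1, 0, 1, 1, 0, 0]) (.leaf [0, 1, 0, 1, 1, 1, 0]))) (.node 84 (.node 83 (.leaf [0, 1, 0, 1, 1, 1, 1]) (.leaf [0, 1, 1, 1, 0, 0, 0])) (.node 85 (.leaf [0, 1, 1, 1, 1, 0, 0]) (.leaf [0, 1, 1, 1, 1, 1, 0])))) (.node 90 (.node 88 (.node 87 (.leaf [0, 1, 1, 1, 1, 1, 1]) (.leaf [0, 1, 1, 2, 1, 0, 0])) (.node 89 (.leaf [0, 1, 1, 2, 1, 1, 0]) (.leaf [0, 1, 1, 2, 1, 1, 1]))) (.node 92 (.node 91 (.leaf [0, 1, 1, 2, 2, 1, 0]) (.leaf [0, 1, 1, 2, 2, 1, 1])) (.node 93 (.leaf [0,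 1, 1, 2, 2, 2, 1]) (.leaf [1, 0, 0, 0, 0, 0, 0])))))) (.node 110 (.node 102 (.node 98 (.node 96 (.node 95 (.leaf [1, 0, 1, 0, 0, 0, 0]) (.leaf [1, 0, 1, 1, 0, 0, 0])) (.node 97 (.leaf [1, 0, 1, 1, 1, 0, 0]) (.leaf [1, 0, 1, 1, 1, 1, 0]))) (.node 100 (.node 99 (.leaf [1, 0, 1, 1, 1, 1, 1]) (.leaf [1, 1, 1, 1, 0, 0, 0])) (.node 101 (.leaf [1, 1, 1, 1, 1, 0, 0]) (.leaf [1, 1, 1, 1, 1, 1, 0])))) (.node 106 (.node 104 (.node 103 (.leaf [1, 1, 1, 1, 1, 1, 1]) (.leaf [1, 1, 1, 2, 1, 0, 0])) (.node 105 (.leaf [1, 1, 1, 2, 1, 1, 0]) (.leaf [1, 1, 1, 2, 1, 1, 1]))) (.node 108 (.node 107 (.leaf [1, 1, 1, 2, 2, 1, 0]) (.leaf [1, 1, 1, 2, 2, 1, 1])) (.node 109 (.leaf [1, 1, 1, 2, 2, 2, 1]) (.leaf [1, 1, 2, 2, 1, 0, 0]))))) (.node 118 (.node 114 (.node 112 (.node 111 (.leaf [1, 1, 2, 2, 1, 1, 0]) (.leaf [1, 1, 2, 2, 1, 1, 1])) (.node 113 (.leaf [1, 1, 2, 2,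 2, 1, 0]) (.leaf [1, 1, 2, 2, 2, 1, 1]))) (.node 116 (.node 115 (.leaf [1, 1, 2, 2, 2, 2, 1]) (.leaf [1, 1, 2, 3, 2, 1, 0])) (.node 117 (.leaf [1, 1, 2, 3, 2, 1, 1]) (.leaf [1, 1, 2, 3, 2, 2, 1])))) (.node 122 (.node 120 (.node 119 (.leaf [1, 1, 2, 3, 3, 2, 1]) (.leaf [1, 2, 2, 3, 2, 1, 0])) (.node 121 (.leaf [1, 2, 2, 3, 2, 1, 1]) (.leaf [1, 2, 2, 3, 2, 2, 1]))) (.node 124 (.node 123 (.leaf [1, 2, 2, 3, 3, 2, 1]) (.leaf [1, 2, 2, 4, 3, 2, 1])) (.node 125 (.leaf [1, 2, 3, 4, 3, 2, 1]) (.leaf [2, 2, 3, 4, 3, 2, 1])))))))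
def e7WeylAct : WTree (List ℕ) := .node 63 (.node 31 (.node 15 (.node 7 (.node 3 (.node 1 (.leaf [1, 0, 0, 0, 0, 0, 0]) (.node 2 (.leaf [0, 1, 2, 1, 1, 1, 1]) (.leaf [2, 2, 1, 3, 2, 2, 2]))) (.node 5 (.node 4 (.leaf [3, 7, 3, 2, 4, 3, 3]) (.leaf [4, 8, 4, 4, 3, 5, 4])) (.node 6 (.leaf [5, 9, 5, 5, 5, 4, 6]) (.leaf [6, 10, 6, 6, 6, 6, 5])))) (.node 11 (.node 9 (.node 8 (.leaf [7, 3, 7, 7, 8, 7, 7]) (.leaf [8, 4, 8, 11, 7, 9, 8])) (.node 10 (.leaf [9, 5, 9, 12, 9, 8, 10]) (.leaf [10, 6, 10, 13, 10, 10, 9]))) (.node 13 (.node 12 (.leaf [11, 11, 17, 8, 11, 12, 11]) (.leaf [12, 12, 18, 9, 14, 11, 13])) (.node 14 (.leaf [13, 13, 19, 10, 15, 13, 12]) (.leaf [14, 14, 20, 14, 12, 14, 15]))))) (.node 23 (.node 19 (.node 17 (.node 16 (.leaf [15, 15, 21, 15, 13, 16, 14]) (.leaf [16, 16, 22, 16, 16, 15, 16])) (.node 18 (.leaf [33, 17, 11, 17, 17, 18, 17])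 (.leaf [34, 18, 12, 18, 20, 17, 19]))) (.node 21 (.node 20 (.leaf [35, 19, 13, 19, 21, 19, 18]) (.leaf [36, 20, 14, 23, 18, 20, 21])) (.node 22 (.leaf [37, 21, 15, 24, 19, 22, 20]) (.leaf [38, 22, 16, 25, 22, 21, 22])))) (.node 27 (.node 25 (.node 24 (.leaf [39, 27, 23, 20, 23, 23, 24]) (.leaf [40, 28, 24, 21, 24, 25, 23])) (.node 26 (.leaf [41, 29, 25, 22, 26, 24, 25]) (.leaf [42, 30, 26, 26, 25, 26, 26]))) (.node 29 (.node 28 (.leaf [48, 23, 27, 27, 27, 27, 28]) (.leaf [49, 24, 28, 28, 28, 29, 27])) (.node 30 (.leaf [50, 25, 29, 29, 30, 28, 29]) (.leaf [51, 26, 30, 31, 29, 30, 30])))))) (.node 47 (.node 39 (.node 35 (.node 33 (.node 32 (.leaf [52, 31, 32, 30, 31, 31, 31]) (.leaf [93, 32, 31, 32, 32, 32, 32])) (.node 34 (.leaf [17, 33, 33, 33, 33, 34, 33]) (.leaf [18, 34, 34, 34, 36, 33, 35]))) (.node 37 (.node 36 (.leaf [19, 35, 35, 35, 37,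 35, 34]) (.leaf [20, 36, 36, 39, 34, 36, 37])) (.node 38 (.leaf [21, 37, 37, 40, 35, 38, 36]) (.leaf [22, 38, 38, 41, 38, 37, 38])))) (.node 43 (.node 41 (.node 40 (.leaf [23, 48, 43, 36, 39, 39, 40]) (.leaf [24, 49, 44, 37, 40, 41, 39])) (.node 42 (.leaf [25, 50, 45, 38, 42, 40, 41]) (.leaf [26, 51, 46, 42, 41, 42, 42]))) (.node 45 (.node 44 (.leaf [43, 53, 39, 43, 43, 43, 44]) (.leaf [44, 54, 40, 44, 44, 45, 43])) (.node 46 (.leaf [45, 55, 41, 45, 46, 44, 45]) (.leaf [46, 56, 42, 47, 45, 46, 46]))))) (.node 55 (.node 51 (.node 49 (.node 48 (.leaf [47, 78, 47, 46, 47, 47, 47]) (.leaf [27, 39, 53, 48, 48, 48, 49])) (.node 50 (.leaf [28, 40, 54, 49, 49, 50, 48]) (.leaf [29, 41, 55, 50, 51, 49, 50]))) (.node 53 (.node 52 (.leaf [30, 42, 56, 52, 50, 51, 51]) (.leaf [31, 52, 73, 51, 52, 52, 52])) (.node 54 (.leaf [53, 43, 48, 57, 53, 53, 54]) (.leaf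 [54, 44, 49, 58, 54, 55, 53])))) (.node 59 (.node 57 (.node 56 (.leaf [55, 45, 50, 59, 56, 54, 55]) (.leaf [56, 46, 51, 69, 55, 56, 56])) (.node 58 (.leaf [57, 57, 57, 53, 60, 57, 58]) (.leaf [58, 58, 58, 54, 61, 59, 57]))) (.node 61 (.node 60 (.leaf [59, 59, 59, 55, 66, 58, 59]) (.leaf [60, 60, 60, 60, 57, 62, 61])) (.node 62 (.leaf [61, 61, 61, 61, 58, 64, 60]) (.leaf [62, 62, 62, 62, 62, 60, 63]))))))) (.node 94 (.node 78 (.node 70 (.node 66 (.node 64 (.leaf [63, 63, 63, 63, 63, 65, 62]) (.node 65 (.leaf [64, 64, 64, 64, 67, 61, 65]) (.leaf [65, 65, 65, 65, 68, 63, 64]))) (.node 68 (.node 67 (.leaf [66, 66, 66, 70, 59, 67, 66]) (.leaf [67, 67, 67, 71, 64, 66, 68])) (.node 69 (.leaf [68, 68, 68, 72, 65, 68, 67]) (.leaf [69, 79, 74, 56, 70, 69, 69])))) (.node 74 (.node 72 (.node 71 (.leaf [70, 80, 75, 66, 69, 71, 70]) (.leaf [71, 81, 76, 67,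 71, 70, 72])) (.node 73 (.leaf [72, 82, 77, 68, 72, 72, 71]) (.leaf [94, 73, 52, 74, 73, 73, 73]))) (.node 76 (.node 75 (.leaf [95, 83, 69, 73, 75, 74, 74]) (.leaf [96, 84, 70, 75, 74, 76, 75])) (.node 77 (.leaf [97, 85, 71, 76, 76, 75, 77]) (.leaf [98, 86, 72, 77, 77, 77, 76]))))) (.node 86 (.node 82 (.node 80 (.node 79 (.leaf [78, 47, 78, 79, 78, 78, 78]) (.leaf [79, 69, 83, 78, 80, 79, 79])) (.node 81 (.leaf [80, 70, 84, 80, 79, 81, 80]) (.leaf [81, 71, 85, 81, 81, 80, 82]))) (.node 84 (.node 83 (.leaf [82, 72, 86, 82, 82, 82, 81]) (.leaf [99, 74, 79, 83, 84, 83, 83])) (.node 85 (.leaf [100, 75, 80, 87, 83, 85, 84]) (.leaf [101, 76, 81, 88, 85, 84, 86])))) (.node 90 (.node 88 (.node 87 (.leaf [102, 77, 82, 89, 86, 86, 85]) (.leaf [103, 87, 87, 84, 87, 88, 87])) (.node 89 (.leaf [104, 88, 88, 85, 90, 87, 89]) (.leaf [105, 89, 89, 86, 91, 89,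 88]))) (.node 92 (.node 91 (.leaf [106, 90, 90, 90, 88, 90, 91]) (.leaf [107, 91, 91, 91, 89, 92, 90])) (.node 93 (.leaf [108, 92, 92, 92, 92, 91, 92]) (.leaf [32, 93, 94, 93, 93, 93, 93])))))) (.node 110 (.node 102 (.node 98 (.node 96 (.node 95 (.leaf [73, 94, 93, 95, 94, 94, 94]) (.leaf [74, 99, 95, 94, 96, 95, 95])) (.node 97 (.leaf [75, 100, 96, 96, 95, 97, 96]) (.leaf [76, 101, 97, 97, 97, 96, 98]))) (.node 100 (.node 99 (.leaf [77, 102, 98, 98, 98, 98, 97]) (.leaf [83, 95, 99, 99, 100, 99, 99])) (.node 101 (.leaf [84, 96, 100, 103, 99, 101, 100]) (.leaf [85, 97, 101, 104, 101, 100, 102])))) (.node 106 (.node 104 (.node 103 (.leaf [86, 98, 102, 105, 102, 102, 101]) (.leaf [87, 103, 109, 100, 103, 104, 103])) (.node 105 (.leaf [88, 104, 110, 101, 106, 103, 105]) (.leaf [89, 105, 111, 102, 107, 105, 104]))) (.node 108 (.node 107 (.leaf [90,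 106, 112, 106, 104, 106, 107]) (.leaf [91, 107, 113, 107, 105, 108, 106])) (.node 109 (.leaf [92, 108, 114, 108, 108, 107, 108]) (.leaf [109, 109, 103, 109, 109, 110, 109]))))) (.node 118 (.node 114 (.node 112 (.node 111 (.leaf [110, 110, 104, 110, 112, 109, 111]) (.leaf [111, 111, 105, 111, 113, 111, 110])) (.node 113 (.leaf [112, 112, 106, 115, 110, 112, 113]) (.leaf [113, 113, 107, 116, 111, 114, 112]))) (.node 116 (.node 115 (.leaf [114, 114, 108, 117, 114, 113, 114]) (.leaf [115, 119, 115, 112, 115, 115, 116])) (.node 117 (.leaf [116, 120, 116, 113, 116, 117, 115]) (.leaf [117, 121, 117, 114, 118, 116, 117])))) (.node 122 (.node 120 (.node 119 (.leaf [118, 122, 118, 118, 117, 118, 118]) (.leaf [119, 115, 119, 119, 119, 119, 120])) (.node 121 (.leaf [120, 116, 120, 120, 120, 121, 119]) (.leaf [121, 117, 121, 121, 122, 120, 121]))) (.node 124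 (.node 123 (.leaf [122, 118, 122, 123, 121, 122, 122]) (.leaf [123, 123, 124, 122, 123, 123, 123])) (.node 125 (.leaf [125, 124, 123, 124, 124, 124, 124]) (.leaf [124, 125, 125, 125, 125, 125, 125])))))))

/-- The root system of type E7. -/
def e7Weyl : WeylData 7 126 where
  A i j := (([[2, 0, -1, 0, 0, 0, 0], [0, 2, 0, -1, 0, 0, 0], [-1, 0, 2, -1, 0, 0, 0], [0, -1, -1, 2, -1, 0, 0], [0, 0, 0, -1, 2, -1, 0], [0, 0, 0, 0, -1, 2, -1], [0, 0, 0, 0, 0, -1, 2]] : List (List ℤ)).getD i.val []).getD j.val 0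
  d i := ([1, 1, 1, 1, 1, 1, 1] : List ℤ).getD i.val 0
  M := CoxeterMatrix.E₇
  v r k := (e7WeylRoots.get r.val).getD k.val 0
  simple i := Fin.ofNat 126 (([93, 78, 73, 69, 66, 64, 63] : List ℕ).getD i.val 0)
  act i r := Fin.ofNat 126 ((e7WeylAct.get r.val).getD i.val 0)

set_option backward.isDefEq.respectTransparency false in
theorem e7Weyl_valid : e7Weyl.Valid := by
  constructor <;> decide +kernel

def e7Orb0V : WTree (List ℤ) := .node 28 (.node 14 (.node 7 (.node 3 (.node 1 (.leaf [2, 3, 4, 6, 5, 4, 3]) (.node 2 (.leaf [2, 3, 4, 6, 5, 4, 1]) (.leaf [2, 3, 4, 6, 5, 2, 1]))) (.node 5 (.node 4 (.leaf [2, 3, 4, 6, 3, 2, 1]) (.leaf [2, 3, 4, 4, 3, 2, 1])) (.node 6 (.leaf [2, 1, 4, 4, 3, 2, 1]) (.leaf [2, 3, 2, 4, 3, 2, 1])))) (.node 10 (.node 8 (.leaf [0, 3, 2, 4, 3, 2, 1]) (.node 9 (.leaf [2, 1, 2, 4, 3, 2, 1]) (.leaf [0, 1, 2, 4, 3, 2, 1])))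 (.node 12 (.node 11 (.leaf [2, 1, 2, 2, 3, 2, 1]) (.leaf [0, 1, 2, 2, 3, 2, 1])) (.node 13 (.leaf [0, 1, 0, 2, 3, 2, 1]) (.leaf [2, 1, 2, 2, 1, 2, 1]))))) (.node 21 (.node 17 (.node 15 (.leaf [0, 1, 2, 2, 1, 2, 1]) (.node 16 (.leaf [0, 1, 0, 2, 1, 2, 1]) (.leaf [0, 1, 0, 0, 1, 2, 1]))) (.node 19 (.node 18 (.leaf [0, -1, 0, 0, 1, 2, 1]) (.leaf [2, 1, 2, 2, 1, 0, 1])) (.node 20 (.leaf [0, 1, 2, 2, 1, 0, 1]) (.leaf [0, 1, 0, 2, 1, 0, 1])))) (.node 24 (.node 22 (.leaf [0, 1, 0, 0, 1, 0, 1]) (.node 23 (.leaf [0, -1, 0, 0, 1, 0, 1]) (.leaf [0, 1, 0, 0, -1, 0, 1]))) (.node 26 (.node 25 (.leaf [0, -1, 0, 0, -1, 0, 1]) (.leaf [0, -1, 0, -2, -1, 0, 1])) (.node 27 (.leaf [0, -1, -2, -2, -1, 0, 1]) (.leaf [-2, -1, -2, -2, -1, 0, 1])))))) (.node 42 (.node 35 (.node 31 (.node 29 (.leaf [2, 1, 2, 2, 1, 0, -1]) (.node 30 (.leaf [0, 1, 2, 2, 1, 0, -1]) (.leaf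 [0, 1, 0, 2, 1, 0, -1]))) (.node 33 (.node 32 (.leaf [0, 1, 0, 0, 1, 0, -1]) (.leaf [0, -1, 0, 0, 1, 0, -1])) (.node 34 (.leaf [0, 1, 0, 0, -1, 0, -1]) (.leaf [0, -1, 0, 0, -1, 0, -1])))) (.node 38 (.node 36 (.leaf [0, -1, 0, -2, -1, 0, -1]) (.node 37 (.leaf [0, -1, -2, -2, -1, 0, -1]) (.leaf [-2, -1, -2, -2, -1, 0, -1]))) (.node 40 (.node 39 (.leaf [0, 1, 0, 0, -1, -2, -1]) (.leaf [0, -1, 0, 0, -1, -2, -1])) (.node 41 (.leaf [0, -1, 0, -2, -1, -2, -1]) (.leaf [0, -1, -2, -2, -1, -2, -1]))))) (.node 49 (.node 45 (.node 43 (.leaf [-2, -1, -2, -2, -1, -2, -1]) (.node 44 (.leaf [0, -1, 0, -2, -3, -2, -1]) (.leaf [0, -1, -2, -2, -3, -2, -1]))) (.node 47 (.node 46 (.leaf [-2, -1, -2, -2, -3, -2, -1]) (.leaf [0, -1, -2, -4, -3, -2, -1])) (.node 48 (.leaf [-2, -1, -2, -4, -3, -2, -1]) (.leaf [0, -3, -2, -4, -3, -2, -1])))) (.node 52 (.node 50 (.leaf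 [-2, -3, -2, -4, -3, -2, -1]) (.node 51 (.leaf [-2, -1, -4, -4, -3, -2, -1]) (.leaf [-2, -3, -4, -4, -3, -2, -1]))) (.node 54 (.node 53 (.leaf [-2, -3, -4, -6, -3, -2, -1]) (.leaf [-2, -3, -4, -6, -5, -2, -1])) (.node 55 (.leaf [-2, -3, -4, -6, -5, -4, -1]) (.leaf [-2, -3, -4, -6, -5, -4, -3]))))))
def e7Orb0Tab : WTree (List ℕ) := .node 28 (.node 14 (.node 7 (.node 3 (.node 1 (.leaf [0, 0, 0, 0, 0, 0, 1]) (.node 2 (.leaf [1, 1, 1, 1, 1, 2, 0]) (.leaf [2, 2, 2, 2, 3, 1, 2]))) (.node 5 (.node 4 (.leaf [3, 3, 3, 4, 2, 3, 3]) (.leaf [4, 5, 6, 3, 4, 4, 4])) (.node 6 (.leaf [5, 4, 8, 5, 5, 5, 5]) (.leaf [7, 8, 4, 6, 6, 6, 6])))) (.node 10 (.node 8 (.leaf [6, 9, 7, 7, 7, 7, 7]) (.node 9 (.leaf [9, 6, 5, 10, 8, 8, 8]) (.leaf [8, 7, 9, 11, 9, 9, 9]))) (.node 12 (.node 11 (.leaf [11, 10, 10, 8, 13, 10, 10]) (.leaf [10, 11, 12, 9, 14, 11, 11])) (.node 13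 (.leaf [12, 12, 11, 12, 15, 12, 12]) (.leaf [14, 13, 13, 13, 10, 18, 13]))))) (.node 21 (.node 17 (.node 15 (.leaf [13, 14, 15, 14, 11, 19, 14]) (.node 16 (.leaf [15, 15, 14, 16, 12, 20, 15]) (.leaf [16, 17, 16, 15, 16, 21, 16]))) (.node 19 (.node 18 (.leaf [17, 16, 17, 17, 17, 22, 17]) (.leaf [19, 18, 18, 18, 18, 13, 28])) (.node 20 (.leaf [18, 19, 20, 19, 19, 14, 29]) (.leaf [20, 20, 19, 21, 20, 15, 30])))) (.node 24 (.node 22 (.leaf [21, 22, 21, 20, 23, 16, 31]) (.node 23 (.leaf [22, 21, 22, 22, 24, 17, 32]) (.leaf [23, 24, 23, 23, 21, 23, 33]))) (.node 26 (.node 25 (.leaf [24, 23, 24, 25, 22, 24, 34]) (.leaf [25, 25, 26, 24, 25, 25, 35])) (.node 27 (.leaf [27, 26, 25, 26, 26, 26, 36]) (.leaf [26, 27, 27, 27, 27, 27, 37])))))) (.node 42 (.node 35 (.node 31 (.node 29 (.leaf [29, 28, 28, 28, 28, 28, 18]) (.node 30 (.leaf [28, 29, 30, 29, 29,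 29, 19]) (.leaf [30, 30, 29, 31, 30, 30, 20]))) (.node 33 (.node 32 (.leaf [31, 32, 31, 30, 33, 31, 21]) (.leaf [32, 31, 32, 32, 34, 32, 22])) (.node 34 (.leaf [33, 34, 33, 33, 31, 38, 23]) (.leaf [34, 33, 34, 35, 32, 39, 24])))) (.node 38 (.node 36 (.leaf [35, 35, 36, 34, 35, 40, 25]) (.node 37 (.leaf [37, 36, 35, 36, 36, 41, 26]) (.leaf [36, 37, 37, 37, 37, 42, 27]))) (.node 40 (.node 39 (.leaf [38, 39, 38, 38, 38, 33, 38]) (.leaf [39, 38, 39, 40, 39, 34, 39])) (.node 41 (.leaf [40, 40, 41, 39, 43, 35, 40]) (.leaf [42, 41, 40, 41, 44, 36, 41]))))) (.node 49 (.node 45 (.node 43 (.leaf [41, 42, 42, 42, 45, 37, 42]) (.node 44 (.leaf [43, 43, 44, 43, 40, 43, 43]) (.leaf [45, 44, 43, 46, 41, 44, 44]))) (.node 47 (.node 46 (.leaf [44, 45, 45, 47, 42, 45, 45]) (.leaf [47, 48, 46, 44, 46, 46, 46])) (.node 48 (.leaf [46, 49, 50, 45, 47, 47, 47]) (.leaf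 [49, 46, 48, 48, 48, 48, 48])))) (.node 52 (.node 50 (.leaf [48, 47, 51, 49, 49, 49, 49]) (.node 51 (.leaf [50, 51, 47, 50, 50, 50, 50]) (.leaf [51, 50, 49, 52, 51, 51, 51]))) (.node 54 (.node 53 (.leaf [52, 52, 52, 51, 53, 52, 52]) (.leaf [53, 53, 53, 53, 52, 54, 53])) (.node 55 (.leaf [54, 54, 54, 54, 54, 53, 55]) (.leaf [55, 55, 55, 55, 55, 55, 54]))))))
def e7Orb0Par : WTree (ℕ × ℕ) := .node 28 (.node 14 (.node 7 (.node 3 (.node 1 (.leaf (0, 0)) (.node 2 (.leaf (6, 0)) (.leaf (5, 1)))) (.node 5 (.node 4 (.leaf (4, 2)) (.leaf (3, 3))) (.node 6 (.leaf (1, 4)) (.leaf (2, 4))))) (.node 10 (.node 8 (.leaf (0, 6)) (.node 9 (.leaf (1, 6)) (.leaf (0, 8)))) (.node 12 (.node 11 (.leaf (3, 8)) (.leaf (0, 10))) (.node 13 (.leaf (2, 11)) (.leaf (4, 10)))))) (.node 21 (.node 17 (.node 15 (.leaf (0, 13)) (.node 16 (.leaf (2, 14)) (.leaf (3, 15)))) (.node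 19 (.node 18 (.leaf (1, 16)) (.leaf (5, 13))) (.node 20 (.leaf (0, 18)) (.leaf (2, 19))))) (.node 24 (.node 22 (.leaf (3, 20)) (.node 23 (.leaf (1, 21)) (.leaf (4, 21)))) (.node 26 (.node 25 (.leaf (1, 23)) (.leaf (3, 24))) (.node 27 (.leaf (2, 25)) (.leaf (0, 26))))))) (.node 42 (.node 35 (.node 31 (.node 29 (.leaf (6, 18)) (.node 30 (.leaf (0, 28)) (.leaf (2, 29)))) (.node 33 (.node 32 (.leaf (3, 30)) (.leaf (1, 31))) (.node 34 (.leaf (4, 31)) (.leaf (1, 33))))) (.node 38 (.node 36 (.leaf (3, 34)) (.node 37 (.leaf (2, 35)) (.leaf (0, 36)))) (.node 40 (.node 39 (.leaf (5, 33)) (.leaf (1, 38))) (.node 41 (.leaf (3, 39)) (.leaf (2, 40)))))) (.node 49 (.node 45 (.node 43 (.leaf (0, 41)) (.node 44 (.leaf (4, 40)) (.leaf (2, 43)))) (.node 47 (.node 46 (.leaf (0, 44)) (.leaf (3, 44))) (.node 48 (.leaf (0, 46)) (.leaf (1, 46))))) (.node 52 (.node 50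 (.leaf (0, 48)) (.node 51 (.leaf (2, 47)) (.leaf (1, 50)))) (.node 54 (.node 53 (.leaf (3, 51)) (.leaf (4, 52))) (.node 55 (.leaf (5, 53)) (.leaf (6, 54)))))))

theorem e7Orb0_check : WeylData.OrbitCheck e7Weyl (fun i => [true, true, true, true, true, true, true].getD i.val false) (fun i => [true, true, true, true, true, true, false].getD i.val false) 56
    (fun r c => (e7Orb0V.get r.val).getD c.val 0)
    (fun j r => Fin.ofNat 56 ((e7Orb0Tab.get r.val).getD j.val 0))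
    (fun r => (Fin.ofNat 7 (e7Orb0Par.get r.val).1, Fin.ofNat 56 (e7Orb0Par.get r.val).2))
    (0 : Fin 56) (fun r => WTree.encode 6 13 ((e7Orb0V.get r.val)))
    (fun x => WTree.encode 6 13 (List.ofFn x)) := by
  constructor <;> decide +kernel

def e7Orb1V : WTree (List ℤ) := .node 13 (.node 6 (.node 3 (.node 1 (.leaf [4, 3, 5, 6, 4, 2, 0]) (.node 2 (.leaf [1, 3, 5, 6, 4, 2, 0]) (.leaf [1, 3, 2, 6, 4, 2, 0]))) (.node 4 (.leaf [1, 3, 2, 3, 4, 2, 0]) (.node 5 (.leaf [1, 0, 2, 3, 4, 2, 0]) (.leaf [1, 3, 2, 3, 1, 2, 0])))) (.node 9 (.node 7 (.leaf [1, 0, 2, 3, 1, 2, 0]) (.node 8 (.leaf [1, 0, 2, 0, 1, 2, 0]) (.leaf [1, 0, -1, 0, 1, 2, 0]))) (.node 11 (.node 10 (.leaf [-2, 0, -1, 0, 1, 2, 0]) (.leaf [1, 3, 2, 3, 1, -1, 0])) (.node 12 (.leaf [1, 0, 2, 3, 1, -1, 0]) (.leaf [1, 0, 2, 0, 1, -1, 0]))))) (.node 20 (.node 16 (.node 14 (.leaf [1, 0, -1, 0,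 1, -1, 0]) (.node 15 (.leaf [-2, 0, -1, 0, 1, -1, 0]) (.leaf [1, 0, 2, 0, -2, -1, 0]))) (.node 18 (.node 17 (.leaf [1, 0, -1, 0, -2, -1, 0]) (.leaf [-2, 0, -1, 0, -2, -1, 0])) (.node 19 (.leaf [1, 0, -1, -3, -2, -1, 0]) (.leaf [-2, 0, -1, -3, -2, -1, 0])))) (.node 23 (.node 21 (.leaf [1, -3, -1, -3, -2, -1, 0]) (.node 22 (.leaf [-2, -3, -1, -3, -2, -1, 0]) (.leaf [-2, 0, -4, -3, -2, -1, 0]))) (.node 25 (.node 24 (.leaf [-2, -3, -4, -3, -2, -1, 0]) (.leaf [-2, -3, -4, -6, -2, -1, 0])) (.node 26 (.leaf [-2, -3, -4, -6, -5, -1, 0]) (.leaf [-2, -3, -4, -6, -5, -4, 0])))))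
def e7Orb1Tab : WTree (List ℕ) := .node 13 (.node 6 (.node 3 (.node 1 (.leaf [1, 0, 0, 0, 0, 0, 0]) (.node 2 (.leaf [0, 1, 2, 1, 1, 1, 1]) (.leaf [2, 2, 1, 3, 2, 2, 2]))) (.node 4 (.leaf [3, 4, 3, 2, 5, 3, 3]) (.node 5 (.leaf [4, 3, 4, 4, 6, 4, 4]) (.leaf [5, 6, 5, 5, 3, 10, 5])))) (.node 9 (.node 7 (.leaf [6, 5, 6, 7, 4, 11, 6]) (.node 8 (.leaf [7, 7, 8, 6, 7, 12, 7]) (.leaf [9, 8, 7, 8, 8, 13, 8]))) (.node 11 (.node 10 (.leaf [8, 9, 9, 9, 9, 14, 9]) (.leaf [10, 11, 10, 10, 10, 5, 10])) (.node 12 (.leaf [11, 10, 11, 12, 11, 6, 11]) (.leaf [12, 12, 13, 11, 15, 7, 12]))))) (.node 20 (.node 16 (.node 14 (.leaf [14, 13, 12, 13, 16, 8, 13]) (.node 15 (.leaf [13, 14, 14, 14, 17, 9, 14]) (.leaf [15, 15, 16, 15, 12, 15, 15]))) (.node 18 (.node 17 (.leaf [17, 16, 15, 18, 13, 16, 16]) (.leaf [16, 17, 17, 19, 14, 17, 17])) (.node 19 (.leaf [19, 20, 18,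 16, 18, 18, 18]) (.leaf [18, 21, 22, 17, 19, 19, 19])))) (.node 23 (.node 21 (.leaf [21, 18, 20, 20, 20, 20, 20]) (.node 22 (.leaf [20, 19, 23, 21, 21, 21, 21]) (.leaf [22, 23, 19, 22, 22, 22, 22]))) (.node 25 (.node 24 (.leaf [23, 22, 21, 24, 23, 23, 23]) (.leaf [24, 24, 24, 23, 25, 24, 24])) (.node 26 (.leaf [25, 25, 25, 25, 24, 26, 25]) (.leaf [26, 26, 26, 26, 26, 25, 26])))))
def e7Orb1Par : WTree (ℕ × ℕ) := .node 13 (.node 6 (.node 3 (.node 1 (.leaf (0, 0)) (.node 2 (.leaf (0, 0)) (.leaf (2, 1)))) (.node 4 (.leaf (3, 2)) (.node 5 (.leaf (1, 3)) (.leaf (4, 3))))) (.node 9 (.node 7 (.leaf (1, 5)) (.node 8 (.leaf (3, 6)) (.leaf (2, 7)))) (.node 11 (.node 10 (.leaf (0, 8)) (.leaf (5, 5))) (.node 12 (.leaf (1, 10)) (.leaf (3, 11)))))) (.node 20 (.node 16 (.node 14 (.leaf (2, 12)) (.node 15 (.leaf (0, 13)) (.leaf (4, 12)))) (.node 18 (.node 17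 (.leaf (2, 15)) (.leaf (0, 16))) (.node 19 (.leaf (3, 16)) (.leaf (0, 18))))) (.node 23 (.node 21 (.leaf (1, 18)) (.node 22 (.leaf (0, 20)) (.leaf (2, 19)))) (.node 25 (.node 24 (.leaf (1, 22)) (.leaf (3, 23))) (.node 26 (.leaf (4, 24)) (.leaf (5, 25))))))

theorem e7Orb1_check : WeylData.OrbitCheck e7Weyl (fun i => [true, true, true, true, true, true, false].getD i.val false) (fun i => [false, true, true, true, true, true, false].getD i.val false) 27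
    (fun r c => (e7Orb1V.get r.val).getD c.val 0)
    (fun j r => Fin.ofNat 27 ((e7Orb1Tab.get r.val).getD j.val 0))
    (fun r => (Fin.ofNat 7 (e7Orb1Par.get r.val).1, Fin.ofNat 27 (e7Orb1Par.get r.val).2))
    (0 : Fin 27) (fun r => WTree.encode 6 13 ((e7Orb1V.get r.val)))
    (fun x => WTree.encode 6 13 (List.ofFn x)) := by
  constructor <;> decide +kernel

def e7Orb2V : WTree (List ℤ) := .node 5 (.node 2 (.node 1 (.leaf [0, 1, 1, 2, 2, 2, 0]) (.leaf [0, 1, 1, 2, 2, 0, 0])) (.node 3 (.leaf [0, 1, 1, 2, 0, 0, 0]) (.node 4 (.leaf [0, 1, 1, 0, 0, 0, 0]) (.leaf [0, -1, 1, 0, 0, 0, 0])))) (.node 7 (.node 6 (.leaf [0, 1, -1, 0, 0, 0, 0]) (.leaf [0, -1, -1, 0, 0, 0, 0])) (.node 8 (.leaf [0, -1, -1, -2, 0, 0, 0]) (.node 9 (.leaf [0, -1, -1, -2, -2, 0, 0]) (.leaf [0, -1, -1, -2, -2, -2, 0]))))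
def e7Orb2Tab : WTree (List ℕ) := .node 5 (.node 2 (.node 1 (.leaf [0, 0, 0, 0, 0, 1, 0]) (.leaf [1, 1, 1, 1, 2, 0, 1])) (.node 3 (.leaf [2, 2, 2, 3, 1, 2, 2]) (.node 4 (.leaf [3, 4, 5, 2, 3, 3, 3]) (.leaf [4, 3, 6, 4, 4, 4, 4])))) (.node 7 (.node 6 (.leaf [5, 6, 3, 5, 5, 5, 5]) (.leaf [6, 5, 4, 7, 6, 6, 6])) (.node 8 (.leaf [7, 7, 7, 6, 8, 7, 7]) (.node 9 (.leaf [8, 8, 8, 8, 7, 9, 8]) (.leaf [9, 9, 9, 9, 9, 8, 9]))))
def e7Orb2Par : WTree (ℕ × ℕ) := .node 5 (.node 2 (.node 1 (.leaf (0, 0)) (.leaf (5, 0))) (.node 3 (.leaf (4, 1)) (.node 4 (.leaf (3, 2)) (.leaf (1, 3))))) (.node 7 (.node 6 (.leaf (2, 3)) (.leaf (1, 5))) (.node 8 (.leaf (3, 6)) (.node 9 (.leaf (4, 7)) (.leaf (5, 8)))))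

theorem e7Orb2_check : WeylData.OrbitCheck e7Weyl (fun i => [false, true, true, true, true, true, false].getD i.val false) (fun i => [false, true, true, true, true, false, false].getD i.val false) 10
    (fun r c => (e7Orb2V.get r.val).getD c.val 0)
    (fun j r => Fin.ofNat 10 ((e7Orb2Tab.get r.val).getD j.val 0))
    (fun r => (Fin.ofNat 7 (e7Orb2Par.get r.val).1, Fin.ofNat 10 (e7Orb2Par.get r.val).2))
    (0 : Fin 10) (fun r => WTree.encode 2 5 ((e7Orb2V.get r.val)))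
    (fun x => WTree.encode 2 5 (List.ofFn x)) := by
  constructor <;> decide +kernel

def e7Orb3V : WTree (List ℤ) := .node 4 (.node 2 (.node 1 (.leaf [0, 2, 1, 2, 1, 0, 0]) (.leaf [0, 0, 1, 2, 1, 0, 0])) (.node 3 (.leaf [0, 0, 1, 0, 1, 0, 0]) (.leaf [0, 0, -1, 0, 1, 0, 0]))) (.node 6 (.node 5 (.leaf [0, 0, 1, 0, -1, 0, 0]) (.leaf [0, 0, -1, 0, -1, 0, 0])) (.node 7 (.leaf [0, 0, -1, -2, -1, 0, 0]) (.leaf [0, -2, -1, -2, -1, 0, 0])))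
def e7Orb3Tab : WTree (List ℕ) := .node 4 (.node 2 (.node 1 (.leaf [0, 1, 0, 0, 0, 0, 0]) (.leaf [1, 0, 1, 2, 1, 1, 1])) (.node 3 (.leaf [2, 2, 3, 1, 4, 2, 2]) (.leaf [3, 3, 2, 3, 5, 3, 3]))) (.node 6 (.node 5 (.leaf [4, 4, 5, 4, 2, 4, 4]) (.leaf [5, 5, 4, 6, 3, 5, 5])) (.node 7 (.leaf [6, 7, 6, 5, 6, 6, 6]) (.leaf [7, 6, 7, 7, 7, 7, 7])))
def e7Orb3Par : WTree (ℕ × ℕ) := .node 4 (.node 2 (.node 1 (.leaf (0, 0)) (.leaf (1, 0))) (.node 3 (.leaf (3, 1)) (.leaf (2, 2)))) (.node 6 (.node 5 (.leaf (4, 2)) (.leaf (2, 4))) (.node 7 (.leaf (3, 5)) (.leaf (1, 6))))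

theorem e7Orb3_check : WeylData.OrbitCheck e7Weyl (fun i => [false, true, true, true, true, false, false].getD i.val false) (fun i => [false, false, true, true, true, false, false].getD i.val false) 8
    (fun r c => (e7Orb3V.get r.val).getD c.val 0)
    (fun j r => Fin.ofNat 8 ((e7Orb3Tab.get r.val).getD j.val 0))
    (fun r => (Fin.ofNat 7 (e7Orb3Par.get r.val).1, Fin.ofNat 8 (e7Orb3Par.get r.val).2))
    (0 : Fin 8) (fun r => WTree.encode 2 5 ((e7Orb3V.get r.val)))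
    (fun x => WTree.encode 2 5 (List.ofFn x)) := by
  constructor <;> decide +kernel

def e7Orb4V : WTree (List ℤ) := .node 2 (.node 1 (.leaf [0, 0, 3, 2, 1, 0, 0]) (.leaf [0, 0, -1, 2, 1, 0, 0])) (.node 3 (.leaf [0, 0, -1, -2, 1, 0, 0]) (.leaf [0, 0, -1, -2, -3, 0, 0]))
def e7Orb4Tab : WTree (List ℕ) := .node 2 (.node 1 (.leaf [0, 0, 1, 0, 0, 0, 0]) (.leaf [1, 1, 0, 2, 1, 1, 1])) (.node 3 (.leaf [2, 2, 2, 1, 3, 2, 2]) (.leaf [3, 3, 3, 3, 2, 3, 3]))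
def e7Orb4Par : WTree (ℕ × ℕ) := .node 2 (.node 1 (.leaf (0, 0)) (.leaf (2, 0))) (.node 3 (.leaf (3, 1)) (.leaf (4, 2)))

theorem e7Orb4_check : WeylData.OrbitCheck e7Weyl (fun i => [false, false, true, true, true, false, false].getD i.val false) (fun i => [false, false, false, true, true, false, false].getD i.val false) 4
    (fun r c => (e7Orb4V.get r.val).getD c.val 0)
    (fun j r => Fin.ofNat 4 ((e7Orb4Tab.get r.val).getD j.val 0))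
    (fun r => (Fin.ofNat 7 (e7Orb4Par.get r.val).1, Fin.ofNat 4 (e7Orb4Par.get r.val).2))
    (0 : Fin 4) (fun r => WTree.encode 3 7 ((e7Orb4V.get r.val)))
    (fun x => WTree.encode 3 7 (List.ofFn x)) := by
  constructor <;> decide +kernel

def e7Orb5V : WTree (List ℤ) := .node 1 (.leaf [0, 0, 0, 2, 1, 0, 0]) (.node 2 (.leaf [0, 0, 0, -1, 1, 0, 0]) (.leaf [0, 0, 0, -1, -2, 0, 0]))
def e7Orb5Tab : WTree (List ℕ) := .node 1 (.leaf [0, 0, 0, 1, 0, 0, 0]) (.node 2 (.leaf [1, 1, 1, 0, 2, 1, 1]) (.leaf [2, 2, 2, 2, 1, 2, 2]))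
def e7Orb5Par : WTree (ℕ × ℕ) := .node 1 (.leaf (0, 0)) (.node 2 (.leaf (3, 0)) (.leaf (4, 1)))

theorem e7Orb5_check : WeylData.OrbitCheck e7Weyl (fun i => [false, false, false, true, true, false, false].getD i.val false) (fun i => [false, false, false, false, true, false, false].getD i.val false) 3
    (fun r c => (e7Orb5V.get r.val).getD c.val 0)
    (fun j r => Fin.ofNat 3 ((e7Orb5Tab.get r.val).getD j.val 0))
    (fun r => (Fin.ofNat 7 (e7Orb5Par.get r.val).1, Fin.ofNat 3 (e7Orb5Par.get r.val).2))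
    (0 : Fin 3) (fun r => WTree.encode 2 5 ((e7Orb5V.get r.val)))
    (fun x => WTree.encode 2 5 (List.ofFn x)) := by
  constructor <;> decide +kernel

def e7Orb6V : WTree (List ℤ) := .node 1 (.leaf [0, 0, 0, 0, 1, 0, 0]) (.leaf [0, 0, 0, 0, -1, 0, 0])
def e7Orb6Tab : WTree (List ℕ) := .node 1 (.leaf [0, 0, 0, 0, 1, 0, 0]) (.leaf [1, 1, 1, 1, 0, 1, 1])
def e7Orb6Par : WTree (ℕ × ℕ) := .node 1 (.leaf (0, 0)) (.leaf (4, 0))

theorem e7Orb6_check : WeylData.OrbitCheck e7Weyl (fun i => [false, false, false, false, true, false, false].getD i.val false) (fun i => [false, false, false, false, false, false, false].getD i.val false) 2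
    (fun r c => (e7Orb6V.get r.val).getD c.val 0)
    (fun j r => Fin.ofNat 2 ((e7Orb6Tab.get r.val).getD j.val 0))
    (fun r => (Fin.ofNat 7 (e7Orb6Par.get r.val).1, Fin.ofNat 2 (e7Orb6Par.get r.val).2))
    (0 : Fin 2) (fun r => WTree.encode 1 3 ((e7Orb6V.get r.val)))
    (fun x => WTree.encode 1 3 (List.ofFn x)) := by
  constructor <;> decide +kernel

theorem e7Weyl_card : Nat.card e7Weyl.M.Group = 2903040 := by
  have hD := e7Weyl_valid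
  have h0 := WeylData.card_step hD e7Orb0_check
  have h1 := WeylData.card_step hD e7Orb1_check
  have h2 := WeylData.card_step hD e7Orb2_check
  have h3 := WeylData.card_step hD e7Orb3_check
  have h4 := WeylData.card_step hD e7Orb4_check
  have h5 := WeylData.card_step hD e7Orb5_check
  have h6 := WeylData.card_step hD e7Orb6_check
  have ht : (fun i : Fin 7 => [true, true, true, true, true, true, true].getD i.val false = true) = (fun _ : Fin 7 => (true : Bool) = true) :=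
    funext fun i => by fin_cases i <;> rfl
  have hf : (fun i : Fin 7 => [false, false, false, false, false, false, false].getD i.val false = true) = (fun _ : Fin 7 => (false : Bool) = true) :=
    funext fun i => by fin_cases i <;> rfl
  rw [ht] at h0
  rw [hf] at h6
  rw [WeylData.card_WJ_false] at h6
  rw [h1, h2, h3, h4, h5, h6] at h0
  rw [WeylData.WJ_true hD, Subgroup.card_top] at h0
  exact h0

theorem e7Weyl_coxeterElement :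
    orderOf ((List.finRange 7).map e7Weyl.M.simple).prod = 18 :=
  WeylData.orderOf_wp e7Weyl_valid (List.finRange 7) 18 (by norm_num) (by decide +kernel) (by decide +kernel)

end H53
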