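import Cfsg.Agent.H53.ExcAut
import Cfsg.Agent.H52.Seven

/-! The short root ideals of G₂, B₂ and F₄ in their exceptional characteristics (generated). -/

set_option autoImplicit false

namespace H53

open Cfsg.Lie

/-- G2. -/
def g2Ideal : IdealSpec chevG2 7 where
  c := 3
  ρ := fun r : Fin 12 => Fin.ofNat 12 (([2, 3, 0, 1, 5, 4, 7, 6, 10, 11, 8, 9] : List ℕ).getD r.val 0)
  lam := fun r : Fin 12 => ([1, 1, 3, 3, 3, 1, 1, 3, 3, 3, 1, 1] : List ℕ).getD r.val 1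
  I := fun a => finSumFinEquiv.symm (Fin.ofNat 14 (([0, 4, 5, 6, 9, 10, 11] : List ℕ).getD a.val 0))
  J := fun a => finSumFinEquiv.symm (Fin.ofNat 14 (([1, 2, 3, 7, 8, 12, 13] : List ℕ).getD a.val 0))

set_option maxRecDepth 4000 in
set_option backward.isDefEq.respectTransparency false in
theorem g2Ideal_ok : g2Ideal.Ok := by
  refine ⟨?_, ?_, ?_, ?_, ?_, ?_, Nat.prime_three⟩ <;> decide +kernel

set_option backward.isDefEq.respectTransparency false in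
theorem g2Ideal_simple : ∀ i : Fin 2, ∀ h : chevG2.simple i.val < chevG2.nroots, ∀ h' : chevG2.neg (chevG2.simple i.val) < chevG2.nroots,
    (g2Ideal.ρ ⟨_, h⟩).val = chevG2.simple (([1, 0] : List ℕ).getD i.val 0) ∧
    (g2Ideal.ρ ⟨_, h'⟩).val = chevG2.neg (chevG2.simple (([1, 0] : List ℕ).getD i.val 0)) ∧
    g2Ideal.lam ⟨_, h⟩ = g2Ideal.lam ⟨_, h'⟩ ∧
    g2Ideal.lam ⟨_, h⟩ = ([3, 1] : List ℕ).getD i.val 1 := by
  decide +kernel

/-- B2. -/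
def b2Ideal : IdealSpec chevB2 5 where
  c := 2
  ρ := fun r : Fin 8 => Fin.ofNat 8 (([1, 0, 3, 2, 5, 4, 7, 6] : List ℕ).getD r.val 0)
  lam := fun r : Fin 8 => ([1, 2, 2, 1, 1, 2, 2, 1] : List ℕ).getD r.val 1
  I := fun a => finSumFinEquiv.symm (Fin.ofNat 10 (([0, 3, 4, 7, 8] : List ℕ).getD a.val 0))
  J := fun a => finSumFinEquiv.symm (Fin.ofNat 10 (([1, 2, 5, 6, 9] : List ℕ).getD a.val 0))

set_option maxRecDepth 4000 in
set_option backward.isDefEq.respectTransparency false in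
theorem b2Ideal_ok : b2Ideal.Ok := by
  refine ⟨?_, ?_, ?_, ?_, ?_, ?_, Nat.prime_two⟩ <;> decide +kernel

set_option backward.isDefEq.respectTransparency false in
theorem b2Ideal_simple : ∀ i : Fin 2, ∀ h : chevB2.simple i.val < chevB2.nroots, ∀ h' : chevB2.neg (chevB2.simple i.val) < chevB2.nroots,
    (b2Ideal.ρ ⟨_, h⟩).val = chevB2.simple (([1, 0] : List ℕ).getD i.val 0) ∧
    (b2Ideal.ρ ⟨_, h'⟩).val = chevB2.neg (chevB2.simple (([1, 0] : List ℕ).getD i.val 0)) ∧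
    b2Ideal.lam ⟨_, h⟩ = b2Ideal.lam ⟨_, h'⟩ ∧
    b2Ideal.lam ⟨_, h⟩ = ([2, 1] : List ℕ).getD i.val 1 := by
  decide +kernel

/-- F4. -/
def f4Ideal : IdealSpec chevF4 26 where
  c := 2
  ρ := fun r : Fin 48 => Fin.ofNat 48 (([3, 7, 8, 0, 9, 11, 18, 1, 2, 4, 15, 5, 16, 21, 23, 10, 12, 19, 6, 17, 22, 13, 20, 14, 33, 27, 34, 25, 30, 41, 28, 35, 37, 24, 26, 31, 42, 32, 43, 45, 46, 29, 36, 38, 47, 39, 40, 44] : List ℕ).getD r.val 0)
  lam := fun r : Fin 48 => ([1, 1, 1, 2, 1, 1, 1, 2, 2, 2, 2, 2, 2, 2, 2, 1, 1, 1, 2, 2, 2, 1, 1, 1, 1, 1, 1, 2, 2, 2, 1, 1, 1, 2, 2, 2, 2, 2, 2, 2, 2, 1, 1, 1, 2, 1, 1, 1] : List ℕ).getD r.val 1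
  I := fun a => finSumFinEquiv.symm (Fin.ofNat 52 (([0, 1, 7, 11, 12, 13, 14, 15, 16, 17, 18, 22, 23, 24, 31, 32, 33, 37, 38, 39, 40, 41, 42, 43, 44, 48] : List ℕ).getD a.val 0))
  J := fun a => finSumFinEquiv.symm (Fin.ofNat 52 (([3, 2, 4, 5, 6, 8, 19, 9, 20, 25, 27, 10, 21, 26, 29, 34, 45, 28, 30, 35, 46, 36, 47, 49, 50, 51] : List ℕ).getD a.val 0))

set_option maxRecDepth 4000 in
set_option backward.isDefEq.respectTransparency false in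
theorem f4Ideal_ok : f4Ideal.Ok := by
  refine ⟨?_, ?_, ?_, ?_, ?_, ?_, Nat.prime_two⟩ <;> decide +kernel

set_option backward.isDefEq.respectTransparency false in
theorem f4Ideal_simple : ∀ i : Fin 4, ∀ h : chevF4.simple i.val < chevF4.nroots, ∀ h' : chevF4.neg (chevF4.simple i.val) < chevF4.nroots,
    (f4Ideal.ρ ⟨_, h⟩).val = chevF4.simple (([3, 2, 1, 0] : List ℕ).getD i.val 0) ∧
    (f4Ideal.ρ ⟨_, h'⟩).val = chevF4.neg (chevF4.simple (([3, 2, 1, 0] : List ℕ).getD i.val 0)) ∧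
    f4Ideal.lam ⟨_, h⟩ = f4Ideal.lam ⟨_, h'⟩ ∧
    f4Ideal.lam ⟨_, h⟩ = ([2, 2, 1, 1] : List ℕ).getD i.val 1 := by
  decide +kernel

end H53
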