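import Cfsg.Agent.H53.GraphAut
import Cfsg.Prelude.Def_ChevE6
import Cfsg.Prelude.Def_ChevD4

/-! The diagram symmetries of E₆ and D₄ on the Chevalley bases (generated). -/

set_option autoImplicit false

namespace H53

open Cfsg.Lie

/-- Symmetry [5, 1, 4, 3, 2, 0] of E6. -/
def e6Sym : BasisSym chevE6 where
  p :=
    ({ toFun := fun i : Fin 6 => Fin.ofNat 6 (([5, 1, 4, 3, 2, 0] : List ℕ).getD i.val 0)
       invFun := fun i : Fin 6 => Fin.ofNat 6 (([5, 1, 4, 3, 2, 0] : List ℕ).getD i.val 0)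
       left_inv := by unfold Function.LeftInverse; decide +kernel
       right_inv := by unfold Function.RightInverse Function.LeftInverse; decide +kernel } : Equiv.Perm (Fin 6))
  q :=
    ({ toFun := fun i : Fin 72 => Fin.ofNat 72 (([0, 1, 2, 5, 16, 3, 6, 17, 8, 19, 22, 11, 26, 30, 33, 35, 4, 7, 18, 9, 20, 23, 10, 21, 24, 25, 12, 27, 31, 34, 13, 28, 32, 14, 29, 15, 56, 42, 57, 39, 43, 58, 37, 40, 44, 59, 46, 47, 50, 61, 48, 51, 62, 53, 64, 67, 36, 38, 41, 45, 60, 49, 52, 63, 54, 65, 68, 55, 66, 69, 70, 71] : List ℕ).getD i.val 0)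
       invFun := fun i : Fin 72 => Fin.ofNat 72 (([0, 1, 2, 5, 16, 3, 6, 17, 8, 19, 22, 11, 26, 30, 33, 35, 4, 7, 18, 9, 20, 23, 10, 21, 24, 25, 12, 27, 31, 34, 13, 28, 32, 14, 29, 15, 56, 42, 57, 39, 43, 58, 37, 40, 44, 59, 46, 47, 50, 61, 48, 51, 62, 53, 64, 67, 36, 38, 41, 45, 60, 49, 52, 63, 54, 65, 68, 55, 66, 69, 70, 71] : List ℕ).getD i.val 0)
       left_inv := by unfold Function.LeftInverse; decide +kernel
       right_inv := by unfold Function.RightInverse Function.LeftInverse; decide +kernel } : Equiv.Perm (Fin 72))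
  sgn r := ([1, 1, 1, 1, -1, 1, 1, -1, 1, -1, -1, 1, -1, 1, -1, 1, -1, -1, 1, -1, 1, 1, -1, 1, 1, 1, -1, 1, -1, 1, 1, -1, 1, -1, 1, 1, 1, 1, -1, 1, -1, 1, 1, -1, 1, -1, 1, 1, 1, -1, 1, 1, -1, 1, -1, -1, 1, -1, 1, -1, 1, -1, -1, 1, -1, 1, 1, -1, 1, 1, 1, 1] : List ℤ).getD r.val 1

set_option backward.isDefEq.respectTransparency false in
theorem e6Sym_valid : e6Sym.Valid := by
  constructor <;> decide +kernel

theorem e6Sym_simple : ∀ i : Fin 6,
    e6Sym.qn (chevE6.simple i) = chevE6.simple (([5, 1, 4, 3, 2, 0] : List ℕ).getD i.val 0) ∧ e6Sym.sn (chevE6.simple i) = 1 ∧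
    e6Sym.qn (chevE6.neg (chevE6.simple i)) = chevE6.neg (chevE6.simple (([5, 1, 4, 3, 2, 0] : List ℕ).getD i.val 0)) ∧
      e6Sym.sn (chevE6.neg (chevE6.simple i)) = 1 ∧ chevE6.simple i < 72 ∧ chevE6.neg (chevE6.simple i) < 72 := by
  decide +kernel

/-- Symmetry [2, 1, 3, 0] of D4. -/
def d4Sym : BasisSym chevD4 where
  p :=
    ({ toFun := fun i : Fin 4 => Fin.ofNat 4 (([2, 1, 3, 0] : List ℕ).getD i.val 0)
       invFun := fun i : Fin 4 => Fin.ofNat 4 (([3, 1, 0, 2] : List ℕ).getD i.val 0)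
       left_inv := by unfold Function.LeftInverse; decide +kernel
       right_inv := by unfold Function.RightInverse Function.LeftInverse; decide +kernel } : Equiv.Perm (Fin 4))
  q :=
    ({ toFun := fun i : Fin 24 => Fin.ofNat 24 (([0, 1, 6, 2, 7, 10, 3, 8, 4, 9, 11, 5, 18, 12, 14, 19, 15, 20, 13, 16, 21, 17, 22, 23] : List ℕ).getD i.val 0)
       invFun := fun i : Fin 24 => Fin.ofNat 24 (([0, 1, 3, 6, 8, 11, 2, 4, 7, 9, 5, 10, 13, 18, 14, 16, 19, 21, 12, 15, 17, 20, 22, 23] : List ℕ).getD i.val 0)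
       left_inv := by unfold Function.LeftInverse; decide +kernel
       right_inv := by unfold Function.RightInverse Function.LeftInverse; decide +kernel } : Equiv.Perm (Fin 24))
  sgn r := ([1, 1, -1, 1, -1, 1, -1, 1, -1, 1, 1, 1, 1, 1, 1, -1, 1, -1, 1, -1, 1, -1, 1, 1] : List ℤ).getD r.val 1

set_option backward.isDefEq.respectTransparency false in
theorem d4Sym_valid : d4Sym.Valid := by
  constructor <;> decide +kernel

theorem d4Sym_simple : ∀ i : Fin 4,
    d4Sym.qn (chevD4.simple i) = chevD4.simple (([2, 1, 3, 0] : List ℕ).getD i.val 0) ∧ d4Sym.sn (chevD4.simple i) = 1 ∧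
    d4Sym.qn (chevD4.neg (chevD4.simple i)) = chevD4.neg (chevD4.simple (([2, 1, 3, 0] : List ℕ).getD i.val 0)) ∧
      d4Sym.sn (chevD4.neg (chevD4.simple i)) = 1 ∧ chevD4.simple i < 24 ∧ chevD4.neg (chevD4.simple i) < 24 := by
  decide +kernel

/-- Symmetry [3, 1, 0, 2] of D4. -/
def d4Sym2 : BasisSym chevD4 where
  p :=
    ({ toFun := fun i : Fin 4 => Fin.ofNat 4 (([3, 1, 0, 2] : List ℕ).getD i.val 0)
       invFun := fun i : Fin 4 => Fin.ofNat 4 (([2, 1, 3, 0] : List ℕ).getD i.val 0)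
       left_inv := by unfold Function.LeftInverse; decide +kernel
       right_inv := by unfold Function.RightInverse Function.LeftInverse; decide +kernel } : Equiv.Perm (Fin 4))
  q :=
    ({ toFun := fun i : Fin 24 => Fin.ofNat 24 (([0, 1, 3, 6, 8, 11, 2, 4, 7, 9, 5, 10, 13, 18, 14, 16, 19, 21, 12, 15, 17, 20, 22, 23] : List ℕ).getD i.val 0)
       invFun := fun i : Fin 24 => Fin.ofNat 24 (([0, 1, 6, 2, 7, 10, 3, 8, 4, 9, 11, 5, 18, 12, 14, 19, 15, 20, 13, 16, 21, 17, 22, 23] : List ℕ).getD i.val 0)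
       left_inv := by unfold Function.LeftInverse; decide +kernel
       right_inv := by unfold Function.RightInverse Function.LeftInverse; decide +kernel } : Equiv.Perm (Fin 24))
  sgn r := ([1, 1, 1, -1, -1, 1, -1, -1, 1, 1, 1, 1, 1, 1, 1, 1, -1, -1, 1, -1, -1, 1, 1, 1] : List ℤ).getD r.val 1

set_option backward.isDefEq.respectTransparency false in
theorem d4Sym2_valid : d4Sym2.Valid := by
  constructor <;> decide +kernel

theorem d4Sym2_simple : ∀ i : Fin 4,
    d4Sym2.qn (chevD4.simple i) = chevD4.simple (([3, 1, 0, 2] : List ℕ).getD i.val 0) ∧ d4Sym2.sn (chevD4.simple i) = 1 ∧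
    d4Sym2.qn (chevD4.neg (chevD4.simple i)) = chevD4.neg (chevD4.simple (([3, 1, 0, 2] : List ℕ).getD i.val 0)) ∧
      d4Sym2.sn (chevD4.neg (chevD4.simple i)) = 1 ∧ chevD4.simple i < 24 ∧ chevD4.neg (chevD4.simple i) < 24 := by
  decide +kernel

end H53
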