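import Cfsg.Agent.H53.StTorus
import Cfsg.Agent.H52.Seven

/-!
Root embeddings `E₆, E₇ ⊂ E₈`: the presented group maps into the adjoint group of `E₈`, so its torus is faithful.
-/

set_option autoImplicit false
set_option linter.unusedSectionVars false

namespace H53

open Cfsg.Lie H52

/-- The index of the image of a root. -/
def embIdx (L : List ℕ) (r : ℕ) : ℕ := L.getD r 0

/-- The roots of `D` as some of the roots of `E`, with the same structure constants. -/
structure EmbOK (D E : ChevalleyDatum) (L : List ℕ) : Prop where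
  len : L.length = D.nroots
  sorted : L.Pairwise (· < ·)
  lt : ∀ a ∈ L, a < E.nroots
  rank_le : D.rank ≤ E.rank
  keys : ∀ r : Fin D.nroots, ∀ e ∈ rowList D r.val, e.1 < D.nroots
  row : ∀ r : Fin D.nroots, (rowList E (embIdx L r.val)).filter (fun e => decide (e.1 ∈ L)) =
    (rowList D r.val).map fun e => (embIdx L e.1, e.2.map fun z => (embIdx L z.1, z.2))
  neg : ∀ r : Fin D.nroots, E.neg (embIdx L r.val) = embIdx L (D.neg r.val)
  coroot : ∀ r : Fin D.nroots, ∀ j : Fin E.rank,
    crt E (embIdx L r.val) j.val = if j.val < D.rank then crt D r.val j.val else 0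

variable {D E : ChevalleyDatum} {L : List ℕ} {T TE : H52.Tables} (hC : H52.Checked D T) (hE : H52.Checked E TE)
  (hL : EmbOK D E L)
include hC hE hL

theorem embIdx_mem {r : ℕ} (hr : r < D.nroots) : embIdx L r ∈ L := by
  rw [embIdx, List.getD_eq_getElem L 0 (by rw [hL.len]; exact hr)]
  exact List.getElem_mem _

theorem embIdx_lt {r : ℕ} (hr : r < D.nroots) : embIdx L r < E.nroots := hL.lt _ (embIdx_mem hC hE hL hr)

theorem embIdx_inj {r s : ℕ} (hr : r < D.nroots) (hs : s < D.nroots) (h : embIdx L r = embIdx L s) : r = s := by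
  rw [embIdx, embIdx, List.getD_eq_getElem L 0 (by rw [hL.len]; exact hr),
    List.getD_eq_getElem L 0 (by rw [hL.len]; exact hs)] at h
  exact (List.Nodup.getElem_inj_iff (hL.sorted.imp fun h => Nat.ne_of_lt h)).1 h

theorem chainEntry_emb {r s : ℕ} (hr : r < D.nroots) (hs : s < D.nroots) :
    E.chainEntry (embIdx L r) (embIdx L s) = (D.chainEntry r s).map fun z => (embIdx L z.1, z.2) := by
  rw [chainEntry_eq_rowGet, chainEntry_eq_rowGet]
  have h1 : rowGet ((rowList E (embIdx L r)).filter fun e => decide (e.1 ∈ L)) (embIdx L s) =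
      rowGet (rowList E (embIdx L r)) (embIdx L s) := by
    have hfun : (fun e : ℕ × List (ℕ × ℤ) => decide (decide (e.1 ∈ L) = true ∧ decide (e.1 = embIdx L s) = true)) =
        fun e => decide (e.1 = embIdx L s) := by
      funext e
      by_cases h : e.1 = embIdx L s
      · simp [h, embIdx_mem hC hE hL hs]
      · simp [h]
    unfold rowGet
    rw [List.find?_filter, hfun]
  have hrow := hL.row ⟨r, hr⟩
  simp only at hrow
  rw [← h1, hrow]
  have hkeys := hL.keys ⟨r, hr⟩
  simp only at hkeys
  generalize hR : rowList D r = R at hkeys ⊢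
  clear hrow hR h1
  induction R with
  | nil => simp [rowGet]
  | cons e R ih =>
    have ih' := ih fun x hx => hkeys x (List.mem_cons_of_mem _ hx)
    have he := hkeys e List.mem_cons_self
    by_cases h : e.1 = s
    · simp [rowGet, List.find?_cons, h]
    · have h' : embIdx L e.1 ≠ embIdx L s := fun e' => h (embIdx_inj hC hE hL he hs e')
      simp only [rowGet, List.map_cons, List.find?_cons, h, h', decide_false] at ih' ⊢
      exact ih'

theorem chainRoot_emb {r s : ℕ} (hr : r < D.nroots) (hs : s < D.nroots) (m : ℕ) :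
    E.chainRoot (embIdx L r) (embIdx L s) m = (D.chainRoot r s m).map (embIdx L) := by
  simp [ChevalleyDatum.chainRoot, chainEntry_emb hC hE hL hr hs, Function.comp_def]

theorem chainM_emb {r s : ℕ} (hr : r < D.nroots) (hs : s < D.nroots) (m : ℕ) :
    E.chainM (embIdx L r) (embIdx L s) m = D.chainM r s m := by
  simp [ChevalleyDatum.chainM, chainEntry_emb hC hE hL hr hs, Function.comp_def]

theorem commTerms_emb {r s : ℕ} (hr : r < D.nroots) (hs : s < D.nroots) :
    E.commTerms (embIdx L r) (embIdx L s) = (D.commTerms r s).map fun c => (embIdx L c.1, c.2) := by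
  have h0 : ∀ (a b m n k : ℕ), a < D.nroots → b < D.nroots → k < D.nroots →
      ((E.chainRoot (embIdx L a) (embIdx L b) m).bind fun x => E.chainRoot x (embIdx L k) n) =
        ((D.chainRoot a b m).bind fun x => D.chainRoot x k n).map (embIdx L) := by
    intro a b m n k ha hb hk
    rw [chainRoot_emb hC hE hL ha hb]
    cases hx : D.chainRoot a b m with
    | none => rfl
    | some x => simp [chainRoot_emb hC hE hL (hC.chainRoot_lt hx) hk]
  have hM : ∀ (k : ℕ) (g : ℤ → ℤ), k < D.nroots →
      ((E.chainRoot (embIdx L r) (embIdx L s) 1).map fun x => g (E.chainM x (embIdx L k) 2)).getD 0 =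
        ((D.chainRoot r s 1).map fun x => g (D.chainM x k 2)).getD 0 := by
    intro k g hk
    rw [chainRoot_emb hC hE hL hr hs]
    cases hx : D.chainRoot r s 1 with
    | none => rfl
    | some x => simp [chainM_emb hC hE hL (hC.chainRoot_lt hx) hk]
  unfold ChevalleyDatum.commTerms
  simp only [List.map_filterMap]
  rw [h0 r s 3 1 s hr hs hs, h0 s r 3 1 r hs hr hr, hM r (fun z => z / 3) hr, hM s (fun z => -2 * z / 3) hs]
  simp only [chainRoot_emb hC hE hL hr hs, chainRoot_emb hC hE hL hs hr, chainM_emb hC hE hL hr hs,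
    chainM_emb hC hE hL hs hr, List.filterMap_cons, List.filterMap_nil, Option.map_map, Function.comp_def]

variable {F : Type*} [Field F]

/-- The presented group maps into the matrix group of the larger type. -/
theorem exists_embHom : ∃ Φ : D.SteinbergGroup F →* GL E.Idx F,
    ∀ r < D.nroots, ∀ t, Φ (D.stGen F r t) = rt E (embIdx L r) t := by
  let g : Fin D.nroots × F → GL E.Idx F := fun p => rt E (embIdx L p.1.val) p.2
  have hx : ∀ r < D.nroots, ∀ t : F, FreeGroup.lift g (D.stX r t) = rt E (embIdx L r) t := by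
    intro r hr t
    rw [ChevalleyDatum.stX, dif_pos hr, FreeGroup.lift_apply_of]
  have hw : ∀ w : List (ℕ × F), (∀ p ∈ w, p.1 < D.nroots) →
      FreeGroup.lift g (D.stWord w) = wordRt E (w.map fun p => (embIdx L p.1, p.2)) := by
    intro w
    induction w with
    | nil => intro _; simp [ChevalleyDatum.stWord, wordRt]
    | cons p w ih =>
      intro h
      have := ih fun q hq => h q (List.mem_cons_of_mem _ hq)
      simp only [ChevalleyDatum.stWord, wordRt, List.map_cons, List.prod_cons, map_mul] at this ⊢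
      rw [this, hx _ (h p List.mem_cons_self)]
  have hH : ∀ r < D.nroots, ∀ t : F, FreeGroup.lift g (D.stH r t) = hElt E (embIdx L r) t := by
    intro r hr t
    have hn : E.neg (embIdx L r) = embIdx L (D.neg r) := hL.neg ⟨r, hr⟩
    rw [ChevalleyDatum.stH, hw]
    · simp only [hElt, ChevalleyDatum.hWord, ChevalleyDatum.nWord, List.map_cons, List.map_nil, List.map_append, hn]
    · intro p hp
      simp only [ChevalleyDatum.hWord, ChevalleyDatum.nWord, List.mem_append, List.mem_cons, List.not_mem_nil,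
        or_false] at hp
      rcases hp with (rfl | rfl | rfl) | rfl | rfl | rfl <;> first | exact hr | exact hC.neg_lt hr
  have hrel : ∀ x ∈ D.steinbergRels F, FreeGroup.lift g x = 1 := by
    rintro x ((⟨r, t, u, hr, rfl⟩ | ⟨r, s, t, u, hr, hs, hne, hne', rfl⟩) | ⟨r, t, u, hr, ht, hu, rfl⟩)
    · simp only [map_mul, map_inv, hx r hr, hE.rt_mul, mul_inv_cancel]
    · have hlt : ∀ p ∈ D.commWord F r s t u, p.1 < D.nroots := by
        intro p hp
        obtain ⟨c, hc, rfl⟩ := List.mem_map.1 hp
        exact hC.commTerms_lt c hc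
      have hword : (D.commWord F r s t u).map (fun p => (embIdx L p.1, p.2)) =
          E.commWord F (embIdx L r) (embIdx L s) t u := by
        simp only [ChevalleyDatum.commWord, commTerms_emb hC hE hL hr hs, List.map_map, Function.comp_def]
      simp only [map_mul, map_inv, hx r hr, hx s hs, hw _ hlt, hword]
      rw [mul_assoc _ (rt E (embIdx L s) u) (rt E (embIdx L r) t),
        hE.comm_rt (embIdx_lt hC hE hL hr) (embIdx_lt hC hE hL hs)
          (fun h => hne (embIdx_inj hC hE hL hs hr h))
          (fun h => hne' (embIdx_inj hC hE hL hs (hC.neg_lt hr) (h.trans (hL.neg ⟨r, hr⟩))))]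
      group
    · simp only [map_mul, map_inv, hH r hr]
      obtain ⟨t', rfl⟩ : ∃ t' : Fˣ, (t' : F) = t := ⟨Units.mk0 t ht, rfl⟩
      obtain ⟨u', rfl⟩ : ∃ u' : Fˣ, (u' : F) = u := ⟨Units.mk0 u hu, rfl⟩
      have hlt := embIdx_lt hC hE hL hr
      rw [← Units.val_mul, hE.hElt_eq_torus hlt, hE.hElt_eq_torus hlt, hE.hElt_eq_torus hlt, ← map_mul,
        mul_inv_eq_one]
      congr 1
      funext i
      exact (mul_zpow _ _ _).symm
  exact ⟨PresentedGroup.toGroup hrel, hx⟩

theorem stTorus_injective_of_emb (W : WeylFor D) (hP : HasPairs D)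
    (hinj : Function.Injective (torus E (F := F))) : Function.Injective (stTorus (F := F) hC W hP) := by
  obtain ⟨Φ, hΦ⟩ := exists_embHom hC hE hL (F := F)
  let ext : (Fin D.rank → Fˣ) →* (Fin E.rank → Fˣ) :=
    MonoidHom.mk' (fun c j => if h : j.val < D.rank then c ⟨j.val, h⟩ else 1) fun a b => by
      funext j
      simp only [Pi.mul_apply]
      by_cases h : j.val < D.rank <;> simp [h]
  have key : Φ.comp (stTorus hC W hP) = (torus E).comp ext := by
    refine MonoidHom.pi_ext fun i t => ?_
    have hp := hC.simple_lt i.isLt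
    have hn : E.neg (embIdx L (D.simple i.val)) = embIdx L (D.neg (D.simple i.val)) := hL.neg ⟨_, hp⟩
    rw [MonoidHom.comp_apply, MonoidHom.comp_apply, stTorus_single, stH1_apply, hom_stHEl hC W Φ,
      hΦ _ hp, hΦ _ hp, hΦ _ (hC.neg_lt hp), hΦ _ (hC.neg_lt hp), ← hn, ← H52.Checked.nElt_eq,
      ← H52.Checked.nElt_eq, ← H52.Checked.hElt_eq, hE.hElt_eq_torus (embIdx_lt hC hE hL hp)]
    congr 1
    funext j
    rw [hL.coroot ⟨_, hp⟩ j]
    show _ = if h : j.val < D.rank then Pi.mulSingle (M := fun _ : Fin D.rank => Fˣ) i t ⟨j.val, h⟩ else 1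
    by_cases h : j.val < D.rank
    · rw [dif_pos h, if_pos h, hC.crt_simple i.isLt h]
      by_cases hji : j.val = i.val
      · rw [if_pos hji, show (⟨j.val, h⟩ : Fin D.rank) = i from Fin.ext hji, Pi.mulSingle_eq_same, zpow_one]
      · rw [if_neg hji, Pi.mulSingle_eq_of_ne (fun e => hji (congrArg Fin.val e)), zpow_zero]
    · rw [dif_neg h, if_neg h, zpow_zero]
  intro c c' h
  have h1 : ext c = ext c' := hinj (by
    have e1 := DFunLike.congr_fun key c
    have e2 := DFunLike.congr_fun key c'
    simp only [MonoidHom.comp_apply] at e1 e2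
    rw [← e1, ← e2, h])
  funext i
  have h2 := congrFun h1 ⟨i.val, lt_of_lt_of_le i.isLt hL.rank_le⟩
  simpa [ext, i.isLt] using h2

omit hC hE hL

/-- The roots of `E₆` in `E₈`. -/
def e6InE8 : List ℕ := [35, 45, 51, 54, 55, 61, 64, 65, 68, 69, 70, 73, 74, 75, 76, 77, 83, 86, 87, 90, 91, 92, 95, 96, 97, 98, 101, 102, 103, 104, 107, 108, 109, 112, 113, 116, 123, 126, 127, 130, 131, 132, 135, 136, 137, 138, 141, 142, 143, 144, 147, 148, 149, 152, 153, 156, 162, 163, 164, 165, 166, 169, 170, 171, 174, 175, 178, 184, 185, 188, 194, 204]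

/-- The roots of `E₇` in `E₈`. -/
def e7InE8 : List ℕ := [13, 20, 25, 29, 32, 34, 35, 39, 42, 44, 45, 48, 50, 51, 53, 54, 55, 58, 60, 61, 63, 64, 65, 67, 68, 69, 70, 72, 73, 74, 75, 76, 77, 80, 82, 83, 85, 86, 87, 89, 90, 91, 92, 94, 95, 96, 97, 98, 100, 101, 102, 103, 104, 106, 107, 108, 109, 111, 112, 113, 115, 116, 118, 121, 123, 124, 126, 127, 128, 130, 131, 132, 133, 135, 136, 137, 138, 139, 141, 142, 143, 144, 145, 147, 148, 149, 150, 152, 153, 154, 156, 157, 159, 162, 163, 164, 165, 166, 167, 169, 170, 171, 172, 174, 175, 176, 178, 179, 181, 184, 185, 186, 188, 189, 191, 194, 195, 197, 200, 204, 205, 207, 210, 214, 219, 226]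

set_option maxRecDepth 20000 in
theorem e6InE8_ok : EmbOK chevE6 chevE8 e6InE8 := by constructor <;> decide +kernel

set_option maxRecDepth 20000 in
theorem e7InE8_ok : EmbOK chevE7 chevE8 e7InE8 := by constructor <;> decide +kernel

theorem divE8_one : ∀ i : Fin 8, (![1, 1, 1, 1, 1, 1, 1, 1] : Fin 8 → ℕ) i = 1 := by decide

theorem card_center_E6 [Fintype F] :
    Nat.card (Subgroup.center (chevE6.SteinbergGroup F)) = Nat.gcd 3 (Fintype.card F - 1) := by
  obtain ⟨T, hC⟩ := H52.checked_of_mem (D := chevE6) (by simp)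
  obtain ⟨TE, hE⟩ := H52.checked_of_mem (D := chevE8) (by simp)
  obtain ⟨W⟩ := nonempty_weylFor (D := chevE6) (by simp)
  rw [card_center hC W pairsE6 (H54.chainOK_of_mem _ (by simp))
    (stTorus_injective_of_emb hC hE e6InE8_ok W pairsE6
      (torus_injective_of_divisors hE divisorsE8 divE8_one))]
  have h := hC.card_diagonal (F := F) divisorsE6
  have hsplit := (torus chevE6 (F := F)).ker.card_mul_index
  rw [Subgroup.index_ker, ← hC.diagonalSubgroup_eq, Nat.card_pi] at hsplit
  simp only [Nat.card_units, Nat.card_eq_fintype_card, Finset.prod_const, Finset.card_univ,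
    Fintype.card_fin] at hsplit
  rw [← h] at hsplit
  have hpos : 0 < Nat.card ↥(chevE6.diagonalSubgroup F) := Nat.card_pos
  rw [Nat.eq_of_mul_eq_mul_right hpos hsplit]
  show ∏ i : Fin 6, (Fintype.card F - 1).gcd (![1, 1, 1, 1, 1, 3] i) = _
  simp [Fin.prod_univ_succ, Nat.gcd_comm]

theorem card_center_E7 [Fintype F] :
    Nat.card (Subgroup.center (chevE7.SteinbergGroup F)) = Nat.gcd 2 (Fintype.card F - 1) := by
  obtain ⟨T, hC⟩ := H52.checked_of_mem (D := chevE7) (by simp)
  obtain ⟨TE, hE⟩ := H52.checked_of_mem (D := chevE8) (by simp)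
  obtain ⟨W⟩ := nonempty_weylFor (D := chevE7) (by simp)
  rw [card_center hC W pairsE7 (H54.chainOK_of_mem _ (by simp))
    (stTorus_injective_of_emb hC hE e7InE8_ok W pairsE7
      (torus_injective_of_divisors hE divisorsE8 divE8_one))]
  have h := hC.card_diagonal (F := F) divisorsE7
  have hsplit := (torus chevE7 (F := F)).ker.card_mul_index
  rw [Subgroup.index_ker, ← hC.diagonalSubgroup_eq, Nat.card_pi] at hsplit
  simp only [Nat.card_units, Nat.card_eq_fintype_card, Finset.prod_const, Finset.card_univ,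
    Fintype.card_fin] at hsplit
  rw [← h] at hsplit
  have hpos : 0 < Nat.card ↥(chevE7.diagonalSubgroup F) := Nat.card_pos
  rw [Nat.eq_of_mul_eq_mul_right hpos hsplit]
  show ∏ i : Fin 7, (Fintype.card F - 1).gcd (![1, 1, 1, 1, 1, 1, 2] i) = _
  simp [Fin.prod_univ_succ, Nat.gcd_comm]

end H53
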