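import Cfsg.Agent.H53.OrthRep
import Cfsg.Agent.H53.OrthMono

/-!
The Chevalley group of type B2 is the projective commutator group of the standard form in five variables.
-/

set_option autoImplicit false
set_option linter.unusedSectionVars false
set_option synthInstance.maxSize 512

namespace H53.B2Orth

open Cfsg.Lie H53.MatRep H53.OrthFrame H53.OrthRep

/-- The hyperbolic coordinates. -/
abbrev H4 : Type := Fin 2 ⊕ Fin 2

/-- The coordinates. -/
abbrev I5 : Type := Unit ⊕ H4

instance decEqEnt : DecidableEq (Ent I5) := inferInstance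

/-- The root elements. -/
def tabB : List (List (Ent I5)) :=
  [[(.inr (.inr 0), .inr (.inl 1), 1, 1), (.inr (.inr 1), .inr (.inl 0), 1, -1)],
    [(.inr (.inr 0), .inl (), 1, 2), (.inl (), .inr (.inl 0), 1, -1), (.inr (.inr 0), .inr (.inl 0), 2, -1)],
    [(.inr (.inr 1), .inl (), 1, -2), (.inl (), .inr (.inl 1), 1, 1), (.inr (.inr 1), .inr (.inl 1), 2, -1)],
    [(.inr (.inr 0), .inr (.inr 1), 1, 1), (.inr (.inl 1), .inr (.inl 0), 1, -1)],
    [(.inr (.inl 0), .inr (.inl 1), 1, -1), (.inr (.inr 1), .inr (.inr 0), 1, 1)],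
    [(.inr (.inl 1), .inl (), 1, 2), (.inl (), .inr (.inr 1), 1, -1), (.inr (.inl 1), .inr (.inr 1), 2, -1)],
    [(.inr (.inl 0), .inl (), 1, -2), (.inl (), .inr (.inr 0), 1, 1), (.inr (.inl 0), .inr (.inr 0), 2, -1)],
    [(.inr (.inl 0), .inr (.inr 1), 1, -1), (.inr (.inl 1), .inr (.inr 0), 1, 1)]]

/-- The representation data. -/
def dataB : Data I5 :=
  ⟨Sum.elim (fun _ => 0) (Sum.elim (fun i => 1 + i.val) (fun i => 3 + i.val)), fun r => tabB.getD r []⟩

theorem okB : Ok chevB2 dataB where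
  inj := by unfold Function.Injective; decide +kernel
  c1 := by decide +kernel
  c2 := by decide +kernel
  c3 := by decide +kernel
  neg_lt := by decide +kernel
  comm_lt := by decide +kernel

/-- A row of a long root. -/
def longRow (a b : H4) (z : ℤ) : List (Ent I5) :=
  [(.inr a, .inr b, 1, z), (.inr b.swap, .inr a.swap, 1, -z)]

/-- A row of a short root. -/
def shortRow (a : H4) (z : ℤ) : List (Ent I5) :=
  [(.inr a, .inl (), 1, -2 * z), (.inl (), .inr a.swap, 1, z), (.inr a, .inr a.swap, 2, -1)]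

theorem longB : ∀ a b : H4, b ≠ a → b ≠ a.swap → ∃ r : Fin 8, ∃ z ∈ ([1, -1] : List ℤ),
    (dataB.T r.val).Perm (longRow a b z) := by decide +kernel

theorem shortB : ∀ a : H4, ∃ r : Fin 8, ∃ z ∈ ([1, -1] : List ℤ), (dataB.T r.val).Perm (shortRow a z) := by
  decide +kernel

theorem rowsB : ∀ r : Fin 8,
    (∃ a b : H4, ∃ z ∈ ([1, -1] : List ℤ), b ≠ a ∧ b ≠ a.swap ∧ (dataB.T r.val).Perm (longRow a b z)) ∨
      ∃ a : H4, ∃ z ∈ ([1, -1] : List ℤ), (dataB.T r.val).Perm (shortRow a z) := by decide +kernel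

/-- The exponents of the scaling of the last pair. -/
def kap : I5 → ℤ := Sum.elim (fun _ => 0) (Sum.elim (fun i => if i = 1 then 1 else 0) (fun i => if i = 1 then -1 else 0))

/-- The exponents of the scaling of the anisotropic coordinate. -/
def kapZ : I5 → ℤ := Sum.elim (fun _ => 1) (fun _ => 0)

/-- The swap of the last pair. -/
def sw : I5 ≃ I5 := Equiv.swap (.inr (.inl 1)) (.inr (.inr 1))

theorem diagOkB : DiagOk 8 dataB.T kap 0 := by unfold DiagOk; decide +kernel

theorem diagOkZ : DiagOk 8 dataB.T kapZ 2 := by unfold DiagOk; decide +kernel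

theorem permOkB : PermOk 8 dataB.T sw := by unfold PermOk; decide +kernel

theorem expB : ∀ y : I5, ((hExp chevB2 dataB 5 y).1 : ℤ) - (hExp chevB2 dataB 5 y).2 = 2 * kap y := by
  decide +kernel

variable {F : Type*} [Field F]

theorem sq_of_mem {z : ℤ} (hz : z ∈ ([1, -1] : List ℤ)) : (z : F) * z = 1 := by
  simp only [List.mem_cons, List.not_mem_nil, or_false] at hz
  rcases hz with rfl | rfl <;> simp

theorem mat_long {r : Fin 8} {a b : H4} {z : ℤ} (h : (dataB.T r.val).Perm (longRow a b z)) (s : F) (v : I5 → F) :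
    (mat (dataB.T r.val) s).mulVec v = v + Pi.single (Sum.inr a) ((z : F) * s * v (.inr b)) +
      Pi.single (Sum.inr b.swap) (-((z : F) * s * v (.inr a.swap))) := by
  rw [mat_mulVec, (h.map _).sum_eq]
  simp [longRow, add_assoc]

theorem mat_short {r : Fin 8} {a : H4} {z : ℤ} (h : (dataB.T r.val).Perm (shortRow a z)) (s : F) (v : I5 → F) :
    (mat (dataB.T r.val) s).mulVec v =
      v + (Pi.single (Sum.inr a) (-2 * (z : F) * s * v (.inl ()) - s ^ 2 * v (.inr a.swap)) : I5 → F) +
        (Pi.single (Sum.inl ()) ((z : F) * s * v (.inr a.swap)) : I5 → F) := by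
  rw [mat_mulVec, (h.map _).sum_eq]
  simp [shortRow, sub_eq_add_neg, Pi.single_add, Pi.single_neg]
  abel

theorem quad_add (v : I5 → F) (c : H4) (p : F) :
    Cfsg.quadFormOdd 2 F (v + Pi.single (Sum.inr c) p) = Cfsg.quadFormOdd 2 F v + p * v (.inr c.swap) := by
  simp only [Cfsg.quadFormOdd, Pi.add_apply]
  rcases c with i | i <;>
    simp [Pi.single_apply, add_mul, mul_add, Finset.sum_add_distrib, mul_comm, add_assoc]

theorem quad_add_z (v : I5 → F) (q : F) :
    Cfsg.quadFormOdd 2 F (v + Pi.single (Sum.inl ()) q) = Cfsg.quadFormOdd 2 F v + 2 * q * v (.inl ()) + q * q := by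
  simp only [Cfsg.quadFormOdd, Pi.add_apply]
  simp
  ring

theorem presB (r : ℕ) (hr : r < chevB2.nroots) (t : F) (v : I5 → F) :
    Cfsg.quadFormOdd 2 F ((mat (dataB.T r) t).mulVec v) = Cfsg.quadFormOdd 2 F v := by
  rcases rowsB ⟨r, hr⟩ with ⟨a, b, z, -, hba, hba', h⟩ | ⟨a, z, hz, h⟩
  · rw [mat_long (r := ⟨r, hr⟩) h, quad_add, quad_add, Sum.swap_swap, Pi.add_apply,
      Pi.single_eq_of_ne (fun e => hba (Sum.inr_injective e)), add_zero]
    ring
  · rw [mat_short (r := ⟨r, hr⟩) h, quad_add_z, quad_add, Pi.add_apply, Pi.single_eq_of_ne Sum.inl_ne_inr,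
      add_zero]
    linear_combination (t ^ 2 * v (.inr a.swap) * v (.inr a.swap)) * sq_of_mem (F := F) hz

/-- The representation. -/
noncomputable def psi : chevB2.SteinbergGroup F →* Cfsg.isometryGroup F (Cfsg.quadFormOdd 2 F) :=
  stOrth _ okB (presB (F := F))

theorem scaleB {x : F} (hx : x ≠ 0) (v : I5 → F) :
    Cfsg.quadFormOdd 2 F (fun y => x ^ kap y * v y) = Cfsg.quadFormOdd 2 F v := by
  simp [Cfsg.quadFormOdd, kap, Fin.sum_univ_two]
  field_simp

theorem scaleZ {x : F} (hx : x * x = 1) (v : I5 → F) :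
    Cfsg.quadFormOdd 2 F (fun y => x ^ kapZ y * v y) = Cfsg.quadFormOdd 2 F v := by
  simp [Cfsg.quadFormOdd, kapZ, Fin.sum_univ_two]
  linear_combination (v (.inl ()) ^ 2) * hx

theorem sw_sw (y : I5) : sw (sw y) = y := Equiv.swap_apply_self _ _ y

theorem flipB (v : I5 → F) : Cfsg.quadFormOdd 2 F (v ∘ sw.symm) = Cfsg.quadFormOdd 2 F v := by
  simp [Cfsg.quadFormOdd, sw, Fin.sum_univ_two, Equiv.swap_apply_def, mul_comm]

/-- The scaling of the last pair. -/
def dB (x : F) (hx : x ≠ 0) : Cfsg.isometryGroup F (Cfsg.quadFormOdd 2 F) :=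
  diagIso _ kap x hx (scaleB hx)

/-- The swap of the last pair. -/
def sB : Cfsg.isometryGroup F (Cfsg.quadFormOdd 2 F) := permIso _ sw sw_sw flipB

/-- The isometries fixing the frame. -/
def cB (x : F) (hx : x * x = 1) : Cfsg.isometryGroup F (Cfsg.quadFormOdd 2 F) :=
  diagIso _ kapZ x (fun h => by simp [h] at hx) (scaleZ hx)

/-- The isometries outside the image. -/
def tB : Set (Cfsg.isometryGroup F (Cfsg.quadFormOdd 2 F)) :=
  {g | ∃ x hx, g = dB x hx} ∪ {sB} ∪ {g | ∃ x hx, g = cB x hx}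

theorem frameB : Frame (n := 1) (Cfsg.quadFormOdd 2 F) Sum.inr psi.range tB where
  inj := Sum.inr_injective
  pol v c := by
    rw [quad_add v c 1]
    have : Cfsg.quadFormOdd 2 F (Pi.single (Sum.inr c) (1 : F)) = 0 := by
      simp only [Cfsg.quadFormOdd]
      rcases c with i | i <;> simp [Pi.single_apply]
    rw [this]
    simp
  eval v h := by
    show v (.inl ()) ^ 2 + _ = _
    rw [h (.inl ()) (by rintro ⟨c, hc⟩; exact Sum.inr_ne_inl hc)]
    simp
  anis v hQ h := by
    funext y
    rcases y with u | c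
    · have h2 : v (.inl ()) ^ 2 = 0 := by
        rw [← hQ]; simp [Cfsg.quadFormOdd, h]
      exact pow_eq_zero_iff two_ne_zero |>.1 h2
    · exact h c
  root a b hba hba' t := by
    obtain ⟨r, z, hz, h⟩ := longB a b hba hba'
    refine ⟨psi (chevB2.stGen F r.val ((z : F) * t)), ⟨_, rfl⟩, fun v => ?_⟩
    show act _ (stOrth _ okB (presB (F := F)) _) v = _
    rw [act_stOrth _ okB (presB (F := F)) r.val r.isLt, mat_long h]
    simp only [← mul_assoc, sq_of_mem (F := F) hz, one_mul]
  extra a v hva := by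
    obtain ⟨r, z, hz, h⟩ := shortB a.swap
    refine ⟨psi (chevB2.stGen F r.val (-(z : F) * v (.inl ()))), ⟨_, rfl⟩, fun c hc => ?_, fun c hc => ?_,
      fun i hi => ?_⟩
    · show act _ (stOrth _ okB (presB (F := F)) _) _ = _
      rw [act_stOrth _ okB (presB (F := F)) r.val r.isLt, mat_short h, Sum.swap_swap,
        Pi.single_eq_of_ne Sum.inl_ne_inr, Pi.single_eq_of_ne (fun e => hc (Sum.inr_injective e).symm)]
      simp
    · show act _ (stOrth _ okB (presB (F := F)) _) _ _ = _
      rw [act_stOrth _ okB (presB (F := F)) r.val r.isLt, mat_short h]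
      simp [hc]
    · show act _ (stOrth _ okB (presB (F := F)) _) _ _ = _
      rw [act_stOrth _ okB (presB (F := F)) r.val r.isLt, mat_short h]
      rcases i with u | c
      · simp [hva]
        linear_combination (-v (.inl ())) * sq_of_mem (F := F) hz
      · exact absurd ⟨c, rfl⟩ hi
  scale t ht := ⟨dB t ht, Or.inl (Or.inl ⟨t, ht, rfl⟩), fun v => by
      rw [dB, act_diagIso]; simp [kap, show (Fin.last 1 : Fin 2) = 1 from rfl], fun c hc => by
      rw [dB, act_diagIso]
      funext y
      by_cases hy : y = Sum.inr c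
      · subst hy
        rcases c with i | i <;> simp_all [idx, kap, show (Fin.last 1 : Fin 2) = 1 from rfl]
      · simp [Pi.single_eq_of_ne hy]⟩
  flip := ⟨sB, Or.inl (Or.inr rfl), fun v => by
      rw [sB, act_permIso]; simp [sw, show (Fin.last 1 : Fin 2) = 1 from rfl], fun c hc => by
      rw [sB, act_permIso]
      funext y
      have hc' : sw.symm (.inr c) = .inr c := by
        rcases c with i | i <;> simp_all [idx, sw, Equiv.swap_apply_def, show (Fin.last 1 : Fin 2) = 1 from rfl]
      simp only [Function.comp_apply, Pi.single_apply]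
      have : sw.symm y = .inr c ↔ y = .inr c :=
        ⟨fun e => sw.symm.injective (e.trans hc'.symm), fun e => by rw [e, hc']⟩
      simp only [this]⟩
  base g hg := by
    set w := act (Cfsg.quadFormOdd 2 F) g (Pi.single (Sum.inl ()) 1) with hw
    have h0 : ∀ c, w (.inr c) = 0 := by
      intro c
      have h1 := act_inv_act g (Pi.single (Sum.inr c.swap) (1 : F))
      rw [hg] at h1
      have h2 : Cfsg.quadFormOdd 2 F (w + Pi.single (Sum.inr c.swap) 1) - Cfsg.quadFormOdd 2 F w =
          Cfsg.quadFormOdd 2 F (Pi.single (Sum.inl ()) 1 + Pi.single (Sum.inr c.swap) 1) -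
            Cfsg.quadFormOdd 2 F (Pi.single (Sum.inl ()) 1) := by
        conv_lhs => rw [hw, ← hg c.swap, ← act_add, act_Q (Q := Cfsg.quadFormOdd 2 F),
          act_Q (Q := Cfsg.quadFormOdd 2 F)]
      rw [quad_add, quad_add, Sum.swap_swap] at h2
      simpa using h2
    have hsq : w (.inl ()) * w (.inl ()) = 1 := by
      have h3 : Cfsg.quadFormOdd 2 F w = Cfsg.quadFormOdd 2 F (Pi.single (Sum.inl ()) 1) := by
        rw [hw, act_Q (Q := Cfsg.quadFormOdd 2 F)]
      simp only [Cfsg.quadFormOdd, h0] at h3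
      simp at h3
      rcases h3 with h3 | h3 <;> simp [h3]
    have : g = cB (w (.inl ())) hsq := act_ext_basis fun y => by
      rw [cB, act_diagIso]
      rcases y with u | c
      · rw [← hw]
        funext y
        rcases y with u' | c
        · simp [kapZ]
        · simp [h0]
      · rw [hg c]
        funext y
        by_cases hy : y = Sum.inr c
        · subst hy; simp [kapZ]
        · simp [Pi.single_eq_of_ne hy]
    rw [this]
    exact Subgroup.mem_sup_right (Subgroup.subset_closure (Or.inr ⟨_, hsq, rfl⟩))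

theorem dB_sq_mem {x : F} (hx : x ≠ 0) : dB x hx * dB x hx ∈ (psi (F := F)).range := by
  refine ⟨PresentedGroup.mk _ (chevB2.stWord (chevB2.hWord 5 x)), act_ext fun v => ?_⟩
  have hw : ∀ p ∈ chevB2.hWord 5 x, p.1 < chevB2.nroots := fun p hp => hWord_lt okB (by decide) x p hp
  show ((stMat okB _ : Matrix.GeneralLinearGroup I5 F) : Matrix I5 I5 F).mulVec v = _
  rw [coe_stMat_word okB _ hw, wmat_hWord okB (by decide) hx, act_mul, dB, act_diagIso, act_diagIso]
  funext y
  rw [Matrix.mulVec_diagonal]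
  simp only [hDiag, ← zpow_natCast, inv_zpow', ← zpow_add₀ hx, ← mul_assoc]
  congr 2
  have := expB y
  omega

theorem dB_inv {x : F} (hx : x ≠ 0) : (dB x hx)⁻¹ = dB x⁻¹ (inv_ne_zero hx) :=
  diagIso_mul_inv hx _ _

theorem commute_sB {x : F} (hx : x ≠ 0) : sB * dB x hx = (dB x hx)⁻¹ * sB := by
  rw [dB_inv hx]
  refine act_ext fun v => ?_
  simp only [act_mul, dB, sB, act_permIso, act_diagIso]
  funext y
  simp only [Function.comp_apply]
  congr 1
  rcases y with u | i | i
  · simp [kap, sw, Equiv.swap_apply_def]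
  all_goals by_cases h : i = 1 <;> simp [h, kap, sw, Equiv.swap_apply_def]

theorem commute_cB_dB {x y : F} (hx : x * x = 1) (hy : y ≠ 0) : cB x hx * dB y hy = dB y hy * cB x hx := by
  refine act_ext fun v => ?_
  simp only [act_mul, cB, dB, act_diagIso]
  funext i; ring

theorem commute_cB_cB {x y : F} (hx : x * x = 1) (hy : y * y = 1) : cB x hx * cB y hy = cB y hy * cB x hx := by
  refine act_ext fun v => ?_
  simp only [act_mul, cB, act_diagIso]
  funext i; ring

theorem commute_cB_sB {x : F} (hx : x * x = 1) : cB x hx * sB = sB * cB x hx := by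
  refine act_ext fun v => ?_
  simp only [act_mul, cB, sB, act_permIso, act_diagIso]
  funext y
  simp only [Function.comp_apply]
  congr 2
  rcases y with u | i | i
  · simp [kapZ, sw, Equiv.swap_apply_def]
  all_goals by_cases h : i = 1 <;> simp [h, kapZ, sw, Equiv.swap_apply_def]

theorem perf (hF : ∃ a : F, a ≠ 0 ∧ a ≠ 1) : commutator (chevB2.SteinbergGroup F) = ⊤ :=
  st_perfect H54.perfectOK_B2 (Or.inr hF)

theorem comm_one {G : Type*} [Group G] {a b : G} (h : a * b = b * a) : a * b * a⁻¹ * b⁻¹ = 1 := by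
  rw [h]; group

theorem omega_eq (hF : ∃ a : F, a ≠ 0 ∧ a ≠ 1) :
    Cfsg.Omega F (Cfsg.quadFormOdd 2 F) = (psi (F := F)).range := by
  refine commutator_eq_of_sup _ tB (sup_eq_top frameB)
    (range_le_commutator _ okB (presB (F := F)) (perf hF)) ?_ ?_ ?_
  · rintro g ((⟨x, hx, rfl⟩ | rfl) | ⟨x, hx, rfl⟩)
    · exact conj_mem_diag _ okB (presB (F := F)) _ kap hx 0 (zpow_zero x) (act_diagIso _ _ _ _ _) diagOkB
    · exact conj_mem_perm _ okB (presB (F := F)) _ sw (act_permIso _ _ _ _) permOkB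
    · exact conj_mem_diag _ okB (presB (F := F)) _ kapZ (fun h => by simp [h] at hx) 2
        (by rw [zpow_two, hx]) (act_diagIso _ _ _ _ _) diagOkZ
  · rintro g ((⟨x, hx, rfl⟩ | rfl) | ⟨x, hx, rfl⟩)
    · exact Or.inl (Or.inl ⟨_, _, dB_inv hx⟩)
    · exact Or.inl (Or.inr (permIso_inv _ _))
    · refine Or.inr ⟨x, hx, inv_eq_of_mul_eq_one_right (act_ext fun v => ?_)⟩
      rw [act_mul, act_one, cB, act_diagIso, act_diagIso]
      funext i
      rcases i with u | c <;> simp [kapZ, ← mul_assoc, hx]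
  · rintro a ((⟨x, hx, rfl⟩ | rfl) | ⟨x, hx, rfl⟩) b ((⟨y, hy, rfl⟩ | rfl) | ⟨y, hy, rfl⟩)
    · have : dB x hx * dB y hy = dB y hy * dB x hx := act_ext fun v => by
        simp only [act_mul, dB, act_diagIso]; funext i; ring
      rw [comm_one this]; exact one_mem _
    · have h : dB x hx * sB * (dB x hx)⁻¹ * sB⁻¹ = dB x hx * dB x hx := by
        have := commute_sB (F := F) (inv_ne_zero hx)
        rw [← dB_inv hx, inv_inv] at this
        rw [mul_assoc (dB x hx) sB, this]; group
      rw [h]; exact dB_sq_mem hx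
    · rw [comm_one (commute_cB_dB hy hx).symm]; exact one_mem _
    · have h : sB * dB y hy * sB⁻¹ * (dB y hy)⁻¹ = (dB y hy * dB y hy)⁻¹ := by
        rw [commute_sB hy]; group
      rw [h]; exact inv_mem (dB_sq_mem hy)
    · rw [comm_one rfl]; exact one_mem _
    · rw [comm_one (commute_cB_sB hy).symm]; exact one_mem _
    · rw [comm_one (commute_cB_dB hx hy)]; exact one_mem _
    · rw [comm_one (commute_cB_sB hx)]; exact one_mem _
    · rw [comm_one (commute_cB_cB hx hy)]; exact one_mem _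

theorem psi_ne_bot : (psi (F := F)).range ≠ ⊥ := by
  intro h
  have hm : psi (chevB2.stGen F 4 1) ∈ (psi (F := F)).range := ⟨_, rfl⟩
  rw [h, Subgroup.mem_bot] at hm
  have := congrArg (fun g => act _ g (Pi.single (.inr (.inl 1)) (1 : F)) (.inr (.inl 0))) hm
  simp only [act_one] at this
  rw [psi, act_stOrth _ okB (presB (F := F)) 4 (by decide)] at this
  rw [mat_mulVec] at this
  simp [dataB, tabB] at this

theorem b2_iso (hF : ∃ a : F, a ≠ 0 ∧ a ≠ 1) :
    Nonempty (↥(chevB2.group F) ≃* Cfsg.POmega F (Cfsg.quadFormOdd 2 F)) :=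
  nonempty_equiv _ okB (presB (F := F)) (by simp) (fun _ => hF) (perf hF) (omega_eq hF) psi_ne_bot

end H53.B2Orth
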