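import Cfsg.Agent.H53.CharTwoForm
import Cfsg.Agent.H50.Form
import Cfsg.Agent.H17.PolarOrth
import Cfsg.Agent.H43.Eichler
import Mathlib.LinearAlgebra.SymplecticGroup

/-!
The classical groups of characteristic two: every involution has its `2`-subgroup.
-/

set_option autoImplicit false
set_option linter.unusedSectionVars false
set_option linter.style.haveILetI false

namespace H53.CharTwo

open Matrix
open scoped MatrixGroups

variable {F : Type*} [Field F]

theorem eq_one_of_pow_four (h2 : (2 : F) = 0) {d : F} (h : d ^ 4 = 1) : d = 1 := by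
  have h1 : (d - 1) ^ 4 = 0 := by linear_combination h - (2 * d ^ 3 - 3 * d ^ 2 + 2 * d - 1) * h2
  exact sub_eq_zero.1 (pow_eq_zero_iff (by norm_num) |>.1 h1)

theorem rad_sl [Finite F] (h2 : (2 : F) = 0) (n : ℕ) : Rad (Matrix.SpecialLinearGroup (Fin n) F) := by
  classical
  let ρ : Matrix.SpecialLinearGroup (Fin n) F →* Module.End F (Fin n → F) :=
    (Matrix.toLinAlgEquiv' (R := F) (n := Fin n)).toMonoidHom.comp (Cfsg.slToMat n F)
  refine rad_linear h2 ρ (fun a b h => Subtype.ext (Matrix.toLinAlgEquiv'.injective h)) fun g hg => ?_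
  set A := Matrix.toLinAlgEquiv'.symm g with hA
  have h4 : A ^ 4 = 1 := by rw [hA, ← map_pow, hg, map_one]
  have hdet : A.det = 1 := eq_one_of_pow_four h2 (by rw [← Matrix.det_pow, h4, Matrix.det_one])
  exact ⟨⟨A, hdet⟩, Matrix.toLinAlgEquiv'.apply_symm_apply g⟩

theorem rad_sp [Finite F] (h2 : (2 : F) = 0) (m : ℕ) : Rad ↥(Matrix.symplecticGroup (Fin m) F) := by
  classical
  let ρ : ↥(Matrix.symplecticGroup (Fin m) F) →* Module.End F (Fin m ⊕ Fin m → F) :=
    (Matrix.toLinAlgEquiv' (R := F) (n := Fin m ⊕ Fin m)).toMonoidHom.comp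
      (Matrix.symplecticGroup (Fin m) F).subtype
  have hJ : (Matrix.J (Fin m) F)ᵀ = Matrix.J (Fin m) F := by
    rw [Matrix.J_transpose]
    ext i j
    rw [Matrix.neg_apply]
    linear_combination (-(Matrix.J (Fin m) F i j)) * h2
  set B : (Fin m ⊕ Fin m → F) → (Fin m ⊕ Fin m → F) → F := fun u v => u ⬝ᵥ (Matrix.J (Fin m) F *ᵥ v) with hBdef
  have hB : FormOK (RingHom.id F) B := by
    refine ⟨fun a b c => add_dotProduct a b _, fun t a b => by simp [hBdef, smul_dotProduct], fun a b => ?_,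
      fun t => rfl, fun a ha => ?_, fun a => ⟨0, ?_⟩⟩
    · simp only [RingHom.id_apply, hBdef]
      rw [Matrix.dotProduct_mulVec, ← Matrix.mulVec_transpose, hJ, dotProduct_comm]
    · refine funext fun i => ?_
      have h := ha ((-Matrix.J (Fin m) F) *ᵥ Pi.single i 1)
      simp only [hBdef, Matrix.mulVec_mulVec, mul_neg, Matrix.J_squared, neg_neg, Matrix.one_mulVec] at h
      simpa using h
    · simp only [hBdef, RingHom.id_apply, add_zero, Matrix.J]
      have e : ∀ i, a (Sum.inl i) * -a (Sum.inr i) + a (Sum.inr i) * a (Sum.inl i) = 0 := fun i => by ring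
      rw [Matrix.fromBlocks_mulVec]
      simp only [dotProduct, Fintype.sum_sum_type, ← Finset.sum_add_distrib, Sum.elim_inl, Sum.elim_inr]
      simp [Matrix.neg_mulVec, e, mul_comm]
  refine rad_form h2 ρ hB (fun a b h => Subtype.ext (Matrix.toLinAlgEquiv'.injective h)) ?_ fun g _ hpres => ?_
  · intro g u v
    have hg := SymplecticGroup.mem_iff'.1 g.2
    show (g.1 *ᵥ u) ⬝ᵥ (Matrix.J (Fin m) F *ᵥ (g.1 *ᵥ v)) = u ⬝ᵥ (Matrix.J (Fin m) F *ᵥ v)
    rw [Matrix.mulVec_mulVec, Matrix.dotProduct_mulVec, ← Matrix.vecMul_transpose, Matrix.vecMul_vecMul,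
      ← Matrix.mul_assoc, hg, ← Matrix.dotProduct_mulVec]
  · set A := Matrix.toLinAlgEquiv'.symm g with hA
    have e : ∀ u, g u = A *ᵥ u := fun u => by
      rw [hA, ← Matrix.toLinAlgEquiv'_apply, AlgEquiv.apply_symm_apply]
    have hm : A ∈ Matrix.symplecticGroup (Fin m) F := by
      rw [SymplecticGroup.mem_iff']
      refine Matrix.ext_iff_mulVec.2 fun v => dotProduct_eq _ _ fun u => ?_
      have := hpres u v
      simp only [hBdef, e] at this
      rw [dotProduct_comm _ u, dotProduct_comm _ u, ← this, ← Matrix.mulVec_mulVec, ← Matrix.mulVec_mulVec,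
        Matrix.dotProduct_mulVec u Aᵀ, Matrix.vecMul_transpose]
    exact ⟨⟨A, hm⟩, Matrix.toLinAlgEquiv'.apply_symm_apply g⟩

theorem rad_su [Fintype F] (h2 : (2 : F) = 0) {q : ℕ} (hF : Fintype.card F = q ^ 2) (n : ℕ) :
    Rad ↥(Cfsg.SU n F q) := by
  classical
  let σ : F →+* F :=
    { toFun := fun x => x ^ q
      map_one' := one_pow q
      map_mul' := fun a b => mul_pow a b q
      map_zero' := zero_pow (H50.q_ne_zero hF)
      map_add' := fun a b => H50.add_pow_q hF a b }
  let ρ : ↥(Cfsg.SU n F q) →* Module.End F (Fin n → F) :=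
    ((Matrix.toLinAlgEquiv' (R := F) (n := Fin n)).toMonoidHom.comp (Cfsg.slToMat n F)).comp
      (Cfsg.SU n F q).subtype
  have hB : FormOK σ (Cfsg.hermForm n F q) := by
    refine ⟨fun a b c => H50.h_add_left a b c, fun t a b => H50.h_smul_left t a b, fun a b => H50.h_symm hF a b,
      fun t => H50.pow_q_pow_q hF t, fun a ha => funext fun i => ?_, fun a => ?_⟩
    · have h := ha (Pi.single i 1)
      simpa [Cfsg.hermForm, Pi.single_apply, ite_pow, zero_pow (H50.q_ne_zero hF)] using h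
    · exact H50.exists_trace_eq hF (H50.h_self_fixed hF a)
  refine rad_form h2 ρ hB
    (fun a b h => Subtype.ext (Subtype.ext (Matrix.toLinAlgEquiv'.injective h))) (fun g u v => g.2 u v)
    fun g hg hpres => ?_
  set A := Matrix.toLinAlgEquiv'.symm g with hA
  have h4 : A ^ 4 = 1 := by rw [hA, ← map_pow, hg, map_one]
  have hdet : A.det = 1 := eq_one_of_pow_four h2 (by rw [← Matrix.det_pow, h4, Matrix.det_one])
  have e : ∀ u, g u = A *ᵥ u := fun u => by
    rw [hA, ← Matrix.toLinAlgEquiv'_apply, AlgEquiv.apply_symm_apply]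
  refine ⟨⟨⟨A, hdet⟩, fun u v => ?_⟩, Matrix.toLinAlgEquiv'.apply_symm_apply g⟩
  have := hpres u v
  rw [e, e] at this
  exact this

/-! ### Orthogonal groups -/

variable {ι : Type} [Fintype ι] [DecidableEq ι]

open H43 in
theorem rad_omega [Fintype F] (h2 : (2 : F) = 0) (Q : QuadraticForm F (ι → F))
    (hQ : (polB Q).Nondegenerate) (h5 : 5 ≤ Fintype.card ι) : Rad ↥(Cfsg.Omega F ⇑Q) := by
  classical
  have h5' : 5 ≤ Module.finrank F (ι → F) := by simpa using h5
  have htwo : ∀ t : F, t + t = 0 := fun t => by rw [← two_mul, h2, zero_mul]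
  have hneg : ∀ t : F, -t = t := fun t => by linear_combination (-t) * h2
  have hnegv : ∀ v : ι → F, -v = v := fun v => funext fun i => hneg _
  let ρ : ↥(Cfsg.Omega F ⇑Q) →* Module.End F (ι → F) :=
    (LinearEquiv.automorphismGroup.toLinearMapMonoidHom).comp (H17.Polar.omRep Q)
  have hρ : Function.Injective ρ := fun a b h => H17.Polar.omRep_injective Q (LinearEquiv.toLinearMap_injective h)
  have hpres : ∀ m a b, polB Q (ρ m a) (ρ m b) = polB Q a b := fun m a b => orth_polB_map (toOrth Q m.1) a b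
  have hqpres : ∀ m a, Q (ρ m a) = Q a := fun m a => orth_qmap (toOrth Q m.1) a
  intro x hxx hx1
  have hxinv : ∀ v, ρ x (ρ x v) = v := fun v => by rw [← rho_mul, hxx, rho_one]
  have hNeq : ∀ v, resMap (toOrth Q x.1) v = v + ρ x v := fun v => by
    rw [resMap_apply, sub_eq_add' h2]; rfl
  set W₁ := resid (toOrth Q x.1) with hW₁
  have hiso : ∀ a ∈ W₁, ∀ b ∈ W₁, polB Q a b = 0 := by
    rintro _ ⟨a, rfl⟩ _ ⟨b, rfl⟩
    rw [hNeq, hNeq]
    simp only [map_add, LinearMap.add_apply, hpres]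
    have e : polB Q (ρ x a) b = polB Q a (ρ x b) := by rw [← hpres x, hxinv]
    rw [e, show polB Q a b + polB Q a (ρ x b) + (polB Q a (ρ x b) + polB Q a b) =
      (polB Q a b + polB Q a b) + (polB Q a (ρ x b) + polB Q a (ρ x b)) by abel, htwo, htwo, add_zero]
  -- the singular vectors of the residual space
  let W : Submodule F (ι → F) :=
    { carrier := {v | v ∈ W₁ ∧ Q v = 0}
      zero_mem' := ⟨W₁.zero_mem, map_zero Q⟩
      add_mem' := fun {a b} ha hb => ⟨W₁.add_mem ha.1 hb.1, by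
        rw [qmap_add, ha.2, hb.2, hiso a ha.1 b hb.1, add_zero, add_zero]⟩
      smul_mem' := fun t a ha => ⟨W₁.smul_mem t ha.1, by rw [qmap_smul, ha.2, mul_zero]⟩ }
  have hWiso : ∀ a ∈ W, ∀ b ∈ W, polB Q a b = 0 := fun a ha b hb => hiso a ha.1 b hb.1
  set Wp : Set (ι → F) := {u | ∀ w ∈ W, polB Q u w = 0} with hWp
  have hWle : ∀ w ∈ W, w ∈ Wp := fun w hw => hWiso w hw
  have hWpadd : ∀ a ∈ Wp, ∀ b ∈ Wp, a + b ∈ Wp := fun a ha b hb w hw => by
    rw [map_add, LinearMap.add_apply, ha w hw, hb w hw, add_zero]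
  set P : ↥(Cfsg.Omega F ⇑Q) → Prop := fun m =>
    (∀ v, ρ m v - v ∈ Wp) ∧ (∀ u ∈ Wp, ρ m u - u ∈ W) ∧ ∀ w ∈ W, ρ m w = w with hP
  obtain ⟨R, hR, hmem⟩ := exists_subgroup_of_pow_four h2 P
    ⟨fun v w _ => by rw [rho_one, sub_self, map_zero, LinearMap.zero_apply],
      fun u _ => by rw [rho_one, sub_self]; exact W.zero_mem, fun w _ => rho_one ρ w⟩
    (fun a b ha hb => ⟨fun v => by
        rw [rho_mul, show ρ a (ρ b v) - v = (ρ a (ρ b v) - ρ b v) + (ρ b v - v) by abel]
        exact hWpadd _ (ha.1 _) _ (hb.1 v),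
      fun u hu => by
        rw [rho_mul, show ρ a (ρ b u) - u = (ρ a (ρ b u) - ρ b u) + (ρ b u - u) by abel]
        refine W.add_mem (ha.2.1 _ ?_) (hb.2.1 u hu)
        have := hWpadd _ hu _ (hWle _ (hb.2.1 u hu))
        rwa [add_sub_cancel] at this,
      fun w hw => by rw [rho_mul, hb.2.2 w hw, ha.2.2 w hw]⟩)
    (fun a ha => hρ (by rw [map_pow, map_one]; exact shape_pow_four h2 ha.1 ha.2.1 ha.2.2))
  have hWinv : ∀ g : ↥(Cfsg.Omega F ⇑Q), g * x = x * g → ∀ w ∈ W, ρ g w ∈ W := by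
    intro g hg w hw
    refine ⟨?_, by rw [hqpres]; exact hw.2⟩
    obtain ⟨v, rfl⟩ := hw.1
    refine ⟨ρ g v, ?_⟩
    rw [hNeq, hNeq, map_add, ← rho_mul, ← rho_mul, hg]
  refine ⟨R, hR, fun g hg => ?_, fun y hy hodd => ?_⟩
  · have hWpinv : ∀ g : ↥(Cfsg.Omega F ⇑Q), g * x = x * g → ∀ u ∈ Wp, ρ g u ∈ Wp := by
      intro g hg u hu w hw
      have e := hpres g u (ρ g⁻¹ w)
      rw [rho_apply_inv] at e
      rw [e]
      exact hu _ (hWinv _ ((show Commute g x from hg).inv_left).eq w hw)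
    have hconj : ∀ g : ↥(Cfsg.Omega F ⇑Q), g * x = x * g → ∀ r ∈ R, g * r * g⁻¹ ∈ R := by
      intro g hg r hr
      rw [hmem] at hr ⊢
      have hg' : g⁻¹ * x = x * g⁻¹ := ((show Commute g x from hg).inv_left).eq
      refine ⟨fun v => ?_, fun u hu => ?_, fun w hw => ?_⟩
      · have := hWpinv g hg _ (hr.1 (ρ g⁻¹ v))
        rwa [map_sub, rho_apply_inv, ← rho_mul, ← rho_mul] at this
      · have := hWinv g hg _ (hr.2.1 _ (hWpinv _ hg' u hu))
        rwa [map_sub, rho_apply_inv, ← rho_mul, ← rho_mul] at this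
      · rw [rho_mul, rho_mul, hr.2.2 _ (hWinv _ hg' w hw), rho_apply_inv]
    refine Subgroup.mem_normalizer_iff.2 fun r => ⟨hconj g hg r, fun h => ?_⟩
    have := hconj g⁻¹ ((show Commute g x from hg).inv_left).eq _ h
    simpa [mul_assoc] using this
  -- the residual space is at least a plane, so it has a singular vector
  obtain ⟨w₀, hw₀, hw₀0⟩ : ∃ w ∈ W, w ≠ 0 := by
    have hd := H17.Polar.dickson_commutator Q hQ h2 ((mem_Omega_iff x.1).1 x.2)
    rw [H44.dickson_eq_one_iff_even] at hd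
    have hne : Module.finrank F W₁ ≠ 0 := fun h0 => hx1 (hρ (LinearMap.ext fun v => by
      have e := eq_one_of_resid_eq_bot (Submodule.finrank_eq_zero.1 h0)
      rw [map_one, Module.End.one_apply]
      show (toOrth Q x.1).1 v = v
      rw [e]; rfl))
    obtain ⟨k, hk⟩ := hd
    change Module.finrank F W₁ = k + k at hk
    have hk2 : 2 ≤ Module.finrank F W₁ := by omega
    have hcard : Fintype.card F < Nat.card W₁ := by
      rw [Module.natCard_eq_pow_finrank (K := F), Nat.card_eq_fintype_card]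
      calc Fintype.card F = Fintype.card F ^ 1 := (pow_one _).symm
        _ < Fintype.card F ^ Module.finrank F W₁ := Nat.pow_lt_pow_right Fintype.one_lt_card (by omega)
    obtain ⟨a, b, hab, e⟩ : ∃ a b : W₁, a ≠ b ∧ Q (a : ι → F) = Q (b : ι → F) := by
      have := Fintype.ofFinite W₁
      obtain ⟨a, b, hab, e⟩ := Fintype.exists_ne_map_eq_of_card_lt (fun a : W₁ => Q (a : ι → F))
        (by rwa [← Nat.card_eq_fintype_card (α := W₁)])
      exact ⟨a, b, hab, e⟩
    refine ⟨(a : ι → F) - b, ⟨W₁.sub_mem a.2 b.2, ?_⟩, sub_ne_zero.2 fun e' => hab (Subtype.ext e')⟩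
    rw [qmap_sub, e, hiso a a.2 b b.2, sub_zero, htwo]
  -- the commutation relations with the Eichler transformations
  have comm : ∀ w ∈ W, ∀ u ∈ Wp, ∀ v,
      polB Q v w • ρ y u + (polB Q v u + Q u * polB Q v w) • ρ y w =
        polB Q (ρ y v) w • u + (polB Q (ρ y v) u + Q u * polB Q (ρ y v) w) • w := by
    intro w hw u hu v
    have hwu : polB Q w u = 0 := by rw [polB_comm]; exact hu w hw
    have hmem' : eichler Q w u ∈ commutator (orthGroup Q) := by
      rw [commutator_eq_eichlerSub hQ h5']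
      exact eichler_mem hw.2 hwu
    set m : ↥(Cfsg.Omega F ⇑Q) := ⟨(toOrth Q).symm (eichler Q w u), by
      rw [mem_Omega_iff, MulEquiv.apply_symm_apply]; exact hmem'⟩ with hmdef
    have hm : ∀ v, ρ m v = v + polB Q v w • u + (polB Q v u + Q u * polB Q v w) • w := by
      intro v
      show (toOrth Q ((toOrth Q).symm (eichler Q w u))).1 v = _
      rw [MulEquiv.apply_symm_apply, eichler_apply hw.2 hwu, sub_eq_add' h2, sub_eq_add' h2, add_smul, add_assoc]
    have hmR : m ∈ R := by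
      refine (hmem m).2 ⟨fun v => ?_, fun a ha => ?_, fun a ha => ?_⟩
      · rw [hm, show v + polB Q v w • u + (polB Q v u + Q u * polB Q v w) • w - v =
          polB Q v w • u + (polB Q v u + Q u * polB Q v w) • w by abel]
        exact hWpadd _ (fun t ht => by rw [map_smul, LinearMap.smul_apply, hu t ht, smul_zero]) _
          (hWle _ (W.smul_mem _ hw))
      · rw [hm, ha w hw, zero_smul, add_zero, add_sub_cancel_left]
        exact W.smul_mem _ hw
      · rw [hm, hWiso a ha w hw, polB_comm a u, hu a ha]; simp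
    have e := congrArg (fun z => ρ z v) (Subgroup.mem_centralizer_iff.1 hy m hmR)
    simp only [rho_mul, hm, map_add, map_smul] at e
    rw [add_assoc, add_assoc, add_right_inj] at e
    exact e.symm
  -- every vector of `W` is an eigenvector
  have eig : ∀ w ∈ W, w ≠ 0 → ∃ l : F, ρ y w = l • w := by
    intro w hw hw0
    set p := (polB Q).orthogonal (F ∙ w) with hp
    have hpdim : Module.finrank F p + 1 = Module.finrank F (ι → F) := by
      have h := finrank_orth_add hQ (F ∙ w)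
      rw [finrank_span_singleton hw0] at h
      omega
    have hpmem : ∀ u, u ∈ p ↔ polB Q w u = 0 := fun u =>
      ⟨fun h => h w (Submodule.mem_span_singleton_self w), fun h a ha => by
        obtain ⟨t, rfl⟩ := Submodule.mem_span_singleton.1 ha
        rw [map_smul, LinearMap.smul_apply, h, smul_zero]⟩
    -- `y w` lies in the span of `u` and `w` for `u ⊥ w` outside the line
    have key : ∀ u ∈ Wp, u ∉ F ∙ w → ρ y w ∈ Submodule.span F {u, w} := by
      intro u hu hnot
      obtain ⟨v, hv, hvu⟩ : ∃ v ∈ p, polB Q v u ≠ 0 := by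
        by_contra hcon
        push Not at hcon
        refine hnot ?_
        have h1 : u ∈ (polB Q).orthogonal p := fun v hv => hcon v hv
        rwa [hp, LinearMap.BilinForm.orthogonal_orthogonal hQ (polB_isRefl Q)] at h1
      have e := comm w hw u hu v
      rw [polB_comm v w, (hpmem v).1 hv, zero_smul, zero_add, mul_zero, add_zero] at e
      rw [← inv_smul_smul₀ hvu (ρ y w), e]
      exact Submodule.smul_mem _ _ (Submodule.add_mem _
        (Submodule.smul_mem _ _ (Submodule.subset_span (Or.inl rfl)))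
        (Submodule.smul_mem _ _ (Submodule.subset_span (Or.inr rfl))))
    -- two such `u` in general position
    set q := (polB Q).orthogonal W with hq
    have hqWp : ∀ u, u ∈ q → u ∈ Wp := fun u hu a ha => by rw [polB_comm]; exact hu a ha
    have hqdim : 3 ≤ Module.finrank F q := by
      have hWq : W ≤ q := fun a ha b hb => hWiso b hb a ha
      have h := finrank_orth_add hQ W
      have := Submodule.finrank_mono hWq
      rw [← hq] at h
      omega
    obtain ⟨u₁, hu₁, hu₁'⟩ : ∃ u ∈ q, u ∉ F ∙ w := by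
      by_contra hcon
      push Not at hcon
      have := Submodule.finrank_mono (show q ≤ F ∙ w from hcon)
      rw [finrank_span_singleton hw0] at this
      omega
    obtain ⟨u₂, hu₂, hu₂'⟩ : ∃ u ∈ q, u ∉ Submodule.span F {u₁, w} := by
      by_contra hcon
      push Not at hcon
      have h1 := Submodule.finrank_mono (show q ≤ Submodule.span F {u₁, w} from hcon)
      have h2' : Module.finrank F (Submodule.span F ({u₁, w} : Set (ι → F))) ≤ 2 := by
        refine (finrank_span_le_card _).trans ?_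
        rw [Set.toFinset_insert, Set.toFinset_singleton]
        exact Finset.card_le_two
      omega
    have hu₂'' : u₂ ∉ F ∙ w := fun h => hu₂' (Submodule.span_mono (by simp) h)
    obtain ⟨a, b, hab⟩ := Submodule.mem_span_pair.1 (key u₁ (hqWp _ hu₁) hu₁')
    obtain ⟨c, d, hcd⟩ := Submodule.mem_span_pair.1 (key u₂ (hqWp _ hu₂) hu₂'')
    by_cases hc : c = 0
    · exact ⟨d, by rw [← hcd, hc, zero_smul, zero_add]⟩
    · exfalso
      refine hu₂' (Submodule.mem_span_pair.2 ⟨c⁻¹ * a, c⁻¹ * (b - d), ?_⟩)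
      have e : c • u₂ = a • u₁ + (b - d) • w := by
        rw [sub_smul, ← add_sub_assoc, hab, ← hcd]; abel
      rw [← inv_smul_smul₀ hc u₂, e, smul_add, smul_smul, smul_smul]
  obtain ⟨l, hl⟩ := eig w₀ hw₀ hw₀0
  have hl0 : l ≠ 0 := fun h0 => hw₀0 (by
    rw [← rho_inv_apply ρ y w₀, hl, h0, zero_smul, map_zero])
  have hyv : ∀ v, polB Q (ρ y v) w₀ = l⁻¹ * polB Q v w₀ := fun v => by
    have e := hpres y v w₀
    rw [hl, map_smul, smul_eq_mul] at e
    rw [← e, inv_mul_cancel_left₀ hl0]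
  obtain ⟨v₀, hv₀⟩ : ∃ v, polB Q v w₀ = 1 := by
    obtain ⟨v, hv⟩ := exists_polB_eq hQ hw₀0 1
    exact ⟨v, by rw [polB_comm, hv]⟩
  have rel : ∀ w ∈ W, w ≠ 0 → ∀ l : F, ρ y w = l • w →
      ∀ u ∈ Wp, ∃ t : F, ρ y u = l⁻¹ • u + t • w := by
    intro w hw hw0 l hl u hu
    have hl0 : l ≠ 0 := fun h0 => hw0 (by rw [← rho_inv_apply ρ y w, hl, h0, zero_smul, map_zero])
    have hyv : ∀ v, polB Q (ρ y v) w = l⁻¹ * polB Q v w := fun v => by
      have e := hpres y v w
      rw [hl, map_smul, smul_eq_mul] at e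
      rw [← e, inv_mul_cancel_left₀ hl0]
    obtain ⟨v₀, hv₀⟩ := exists_polB_eq hQ hw0 1
    rw [polB_comm] at hv₀
    have := comm w hw u hu v₀
    rw [hv₀, one_smul, hyv, hv₀, mul_one, mul_one, hl, smul_smul] at this
    exact ⟨polB Q (ρ y v₀) u + Q u * l⁻¹ - (polB Q v₀ u + Q u) * l, by
      rw [sub_smul, ← add_sub_assoc, ← this, add_sub_cancel_right]⟩
  have hyW' : ∀ u ∈ Wp, ∃ t : F, ρ y u = l⁻¹ • u + t • w₀ := rel w₀ hw₀ hw₀0 l hl
  -- the eigenvalue squares to one
  have hl1 : l = 1 := by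
    suffices h4 : l⁻¹ * l⁻¹ = 1 by
      have : l⁻¹ = 1 := eq_one_of_pow_four h2
        (by rw [show (4 : ℕ) = 2 * 2 from rfl, pow_mul, pow_two l⁻¹, h4, one_pow])
      exact inv_eq_one.1 this
    set q := (polB Q).orthogonal W with hq
    by_cases hiq : ∃ u₁ ∈ q, ∃ u₂ ∈ q, polB Q u₁ u₂ ≠ 0
    · obtain ⟨u₁, hu₁, u₂, hu₂, h12⟩ := hiq
      have h1 := hpres y u₁ u₂
      obtain ⟨t₁, ht₁⟩ := hyW' u₁ (fun a ha => by rw [polB_comm]; exact hu₁ a ha)
      obtain ⟨t₂, ht₂⟩ := hyW' u₂ (fun a ha => by rw [polB_comm]; exact hu₂ a ha)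
      have hw0u₁ : polB Q w₀ u₁ = 0 := hu₁ w₀ hw₀
      have hw0u₂ : polB Q u₁ w₀ = 0 := by rw [polB_comm]; exact hw0u₁
      have hw0u₃ : polB Q w₀ u₂ = 0 := hu₂ w₀ hw₀
      rw [ht₁, ht₂] at h1
      simp only [map_add, map_smul, LinearMap.add_apply, LinearMap.smul_apply, smul_eq_mul, hw0u₁, hw0u₂, hw0u₃,
        hWiso w₀ hw₀ w₀ hw₀, mul_zero, add_zero] at h1
      rw [← mul_assoc] at h1
      exact mul_eq_right₀ h12 |>.1 h1
    · -- `W` is a maximal totally singular subspace, of dimension at least three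
      push Not at hiq
      have hqq : q ≤ (polB Q).orthogonal q := fun b hb a ha => hiq a ha b hb
      rw [hq, LinearMap.BilinForm.orthogonal_orthogonal hQ (polB_isRefl Q)] at hqq
      have h3 : 3 ≤ Module.finrank F W := by
        have h := finrank_orth_add hQ W
        have := Submodule.finrank_mono hqq
        omega
      obtain ⟨w₁, hw₁, hw₁'⟩ : ∃ w ∈ W, w ∉ F ∙ w₀ := by
        by_contra hcon
        push Not at hcon
        have := Submodule.finrank_mono (show W ≤ F ∙ w₀ from hcon)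
        rw [finrank_span_singleton hw₀0] at this
        omega
      obtain ⟨w₂, hw₂, hw₂'⟩ : ∃ w ∈ W, w ∉ Submodule.span F {w₁, w₀} := by
        by_contra hcon
        push Not at hcon
        have h1 := Submodule.finrank_mono (show W ≤ Submodule.span F {w₁, w₀} from hcon)
        have h2' : Module.finrank F (Submodule.span F ({w₁, w₀} : Set (ι → F))) ≤ 2 := by
          refine (finrank_span_le_card _).trans ?_
          rw [Set.toFinset_insert, Set.toFinset_singleton]
          exact Finset.card_le_two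
        omega
      -- independent eigenvectors have inverse eigenvalues
      have pair : ∀ a ∈ W, ∀ b ∈ W, a ≠ 0 → b ∉ F ∙ a → ∀ la lb : F, ρ y a = la • a → ρ y b = lb • b →
          lb = la⁻¹ := by
        intro a ha b hb ha0 hba la lb hla hlb
        obtain ⟨t, ht⟩ := rel a ha ha0 la hla b (hWle b hb)
        by_contra hne
        refine hba (Submodule.mem_span_singleton.2 ⟨(lb - la⁻¹)⁻¹ * t, ?_⟩)
        have e : (lb - la⁻¹) • b = t • a := by rw [sub_smul, ← hlb, ht, add_sub_cancel_left]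
        rw [← smul_smul, ← e, inv_smul_smul₀ (sub_ne_zero.2 hne)]
      have hw₁0 : w₁ ≠ 0 := fun h => hw₁' (h ▸ Submodule.zero_mem _)
      have hw₂0 : w₂ ≠ 0 := fun h => hw₂' (h ▸ Submodule.zero_mem _)
      obtain ⟨l₁, hl₁⟩ := eig w₁ hw₁ hw₁0
      obtain ⟨l₂, hl₂⟩ := eig w₂ hw₂ hw₂0
      have e1 := pair w₀ hw₀ w₁ hw₁ hw₀0 hw₁' l l₁ hl hl₁
      have e2 := pair w₀ hw₀ w₂ hw₂ hw₀0 (fun h => hw₂' (Submodule.span_mono (by simp) h)) l l₂ hl hl₂
      have e3 := pair w₁ hw₁ w₂ hw₂ hw₁0 (fun h => hw₂' (Submodule.span_mono (by simp) h)) l₁ l₂ hl₁ hl₂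
      rw [e2, e1, inv_inv] at e3
      conv_lhs => arg 1; rw [e3]
      exact mul_inv_cancel₀ hl0
  subst hl1
  have hyW : ∀ w ∈ W, ρ y w = w := by
    intro w hw
    by_cases hw0 : w = 0
    · rw [hw0, map_zero]
    obtain ⟨l', hl'⟩ := eig w hw hw0
    obtain ⟨t, ht⟩ := hyW' w (hWle w hw)
    rw [inv_one, one_smul, hl'] at ht
    by_cases h : l' = 1
    · rw [hl', h, one_smul]
    · have e : (l' - 1) • w = t • w₀ := by rw [sub_smul, one_smul, ht, add_sub_cancel_left]
      have e' : w = ((l' - 1)⁻¹ * t) • w₀ := by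
        rw [← smul_smul, ← e, inv_smul_smul₀ (sub_ne_zero.2 h)]
      rw [e', map_smul, hl, one_smul]
  refine mem_center_of_scalar ρ hρ hodd (k := 2) (c := 1) fun v => ?_
  rw [map_pow, one_smul, show 2 ^ 2 = 4 from rfl, shape_pow_four h2 (W := (W : Set (ι → F))) (W' := Wp)
    (fun v w hw => by
      rw [map_sub, LinearMap.sub_apply]
      have e := hpres y v w
      rw [hyW w hw] at e
      rw [e, sub_self])
    (fun u hu => by
      obtain ⟨t, ht⟩ := hyW' u hu
      rw [ht, inv_one, one_smul, add_sub_cancel_left]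
      exact W.smul_mem _ hw₀)
    hyW]
  rfl

end H53.CharTwo
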