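import Cfsg.Agent.H53.CharTwoBase
import Mathlib.LinearAlgebra.Dual.Lemmas

/-!
Linear groups and groups of isometries of a form in characteristic two: the `2`-subgroup attached to an involution.
-/

set_option autoImplicit false
set_option linter.unusedSectionVars false
set_option linter.style.haveILetI false

namespace H53.CharTwo

variable {F : Type*} [Field F] {V : Type*} [AddCommGroup V] [Module F V] {M : Type*} [Group M] [Finite M]
  (h2 : (2 : F) = 0) (ρ : M →* Module.End F V)

include h2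

theorem add_self' (v : V) : v + v = 0 := by
  rw [← two_smul F v, h2, zero_smul]

theorem sub_eq_add' (v w : V) : v - w = v + w := by
  rw [sub_eq_iff_eq_add, add_assoc, add_self' h2 w, add_zero]

omit h2 in
theorem rho_mul (a b : M) (v : V) : ρ (a * b) v = ρ a (ρ b v) := by rw [map_mul]; rfl

omit h2 in
theorem rho_one (v : V) : ρ 1 v = v := by rw [map_one]; rfl

omit h2 in
theorem rho_inv_apply (m : M) (v : V) : ρ m⁻¹ (ρ m v) = v := by rw [← rho_mul, inv_mul_cancel, rho_one]

omit h2 in
theorem rho_apply_inv (m : M) (v : V) : ρ m (ρ m⁻¹ v) = v := by rw [← rho_mul, mul_inv_cancel, rho_one]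

omit h2 in
/-- An element of odd order with a power of two power scalar is central. -/
theorem mem_center_of_scalar (hρ : Function.Injective ρ) {y : M} (hy : Odd (orderOf y)) {k : ℕ} {c : F}
    (h : ∀ v, ρ (y ^ 2 ^ k) v = c • v) : y ∈ Subgroup.center M := by
  have hc : y ^ 2 ^ k ∈ Subgroup.center M := Subgroup.mem_center_iff.2 fun g => hρ (LinearMap.ext fun v => by
    rw [rho_mul, rho_mul, h, h, map_smul])
  have hco : (2 ^ k).Coprime (orderOf y) := (Nat.coprime_two_left.2 hy).pow_left k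
  obtain ⟨j, hj⟩ := exists_pow_eq_self_of_coprime hco
  rw [← hj]
  exact pow_mem hc j

/-- A subgroup from a submonoid of elements of exponent dividing four. -/
theorem exists_subgroup_of_pow_four (P : M → Prop) (h1 : P 1) (hmul : ∀ a b, P a → P b → P (a * b))
    (h4 : ∀ a, P a → a ^ 4 = 1) : ∃ R : Subgroup M, IsPGroup 2 R ∧ ∀ a, a ∈ R ↔ P a := by
  refine ⟨{ carrier := {a | P a}, mul_mem' := fun {a b} => hmul a b, one_mem' := h1, inv_mem' := ?_ },
    fun a => ⟨2, Subtype.ext ?_⟩, fun a => Iff.rfl⟩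
  · intro a ha
    have e : a⁻¹ = a * a * a := inv_eq_of_mul_eq_one_right (by
      have := h4 a ha; simp only [pow_succ, pow_zero, one_mul] at this; simpa [mul_assoc] using this)
    show P a⁻¹
    rw [e]
    exact hmul _ _ (hmul _ _ ha ha) ha
  · simpa using h4 a.1 a.2

/-- An endomorphism trivial on the sections of `W ≤ W' ≤ V` has fourth power one. -/
theorem shape_pow_four {g : Module.End F V} {W W' : Set V} (h1 : ∀ v, g v - v ∈ W')
    (h3 : ∀ u ∈ W', g u - u ∈ W) (h0 : ∀ w ∈ W, g w = w) : g ^ 4 = 1 := by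
  refine LinearMap.ext fun v => ?_
  have ha := h1 v
  have hb := h3 _ ha
  have hgb := h0 _ hb
  obtain ⟨a, hav⟩ : ∃ a, g v - v = a := ⟨_, rfl⟩
  rw [hav] at hb hgb
  obtain ⟨b, hbv⟩ : ∃ b, g a - a = b := ⟨_, rfl⟩
  rw [hbv] at hgb
  rw [sub_eq_iff_eq_add'] at hav hbv
  simp only [pow_succ, pow_zero, one_mul, Module.End.mul_apply, Module.End.one_apply]
  rw [hav, map_add, hav, hbv, show v + a + (a + b) = v + (a + a) + b by abel, add_self' h2, add_zero, map_add,
    hav, hgb, map_add, map_add, hav, hbv, hgb, show v + a + (a + b) + b = v + (a + a) + (b + b) by abel,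
    add_self' h2, add_self' h2, add_zero, add_zero]

/-- The linear group: `himg` says the unipotent elements lie in the group. -/
theorem rad_linear (hρ : Function.Injective ρ)
    (himg : ∀ g : Module.End F V, g ^ 4 = 1 → ∃ m, ρ m = g) : Rad M := by
  classical
  intro x hxx hx1
  set N : Module.End F V := ρ x + 1 with hN
  set W := LinearMap.range N with hW
  have hxinv : ∀ v, ρ x (ρ x v) = v := fun v => by rw [← rho_mul, hxx, rho_one]
  have hNN : ∀ v, N (N v) = 0 := fun v => by
    simp only [hN, LinearMap.add_apply, Module.End.one_apply, map_add, hxinv]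
    rw [show v + ρ x v + (ρ x v + v) = (v + v) + (ρ x v + ρ x v) by abel, add_self' h2, add_self' h2, add_zero]
  obtain ⟨v₁, hv₁⟩ : ∃ v, N v ≠ 0 := by
    by_contra hcon
    push Not at hcon
    refine hx1 (hρ (LinearMap.ext fun v => ?_))
    have := hcon v
    simp only [hN, LinearMap.add_apply, Module.End.one_apply] at this
    rw [rho_one, ← sub_eq_zero, sub_eq_add' h2, this]
  set P : M → Prop := fun m => (∀ v, ρ m v - v ∈ W) ∧ ∀ w ∈ W, ρ m w = w with hP
  obtain ⟨R, hR, hmem⟩ := exists_subgroup_of_pow_four h2 P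
    ⟨fun v => by simp [rho_one], fun w _ => rho_one ρ w⟩
    (fun a b ha hb => ⟨fun v => by
      rw [rho_mul, show ρ a (ρ b v) - v = (ρ a (ρ b v) - ρ b v) + (ρ b v - v) by abel]
      exact W.add_mem (ha.1 _) (hb.1 v),
      fun w hw => by rw [rho_mul, hb.2 w hw, ha.2 w hw]⟩)
    (fun a ha => hρ (by
      rw [map_pow, map_one]
      exact shape_pow_four h2 (W := (W : Set V)) (W' := (W : Set V)) ha.1
        (fun u hu => by rw [ha.2 u hu, sub_self]; exact W.zero_mem) ha.2))
  have hWinv : ∀ g : M, g * x = x * g → ∀ w ∈ W, ρ g w ∈ W := by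
    rintro g hg _ ⟨v, rfl⟩
    refine ⟨ρ g v, ?_⟩
    simp only [hN, LinearMap.add_apply, Module.End.one_apply, map_add]
    rw [← rho_mul, ← rho_mul, hg]
  refine ⟨R, hR, fun g hg => ?_, fun y hy hodd => ?_⟩
  · have hconj : ∀ g : M, g * x = x * g → ∀ r ∈ R, g * r * g⁻¹ ∈ R := by
      intro g hg r hr
      rw [hmem] at hr ⊢
      have hg' : g⁻¹ * x = x * g⁻¹ := ((show Commute g x from hg).inv_left).eq
      refine ⟨fun v => ?_, fun w hw => ?_⟩
      · have := hWinv g hg _ (hr.1 (ρ g⁻¹ v))
        rwa [map_sub, rho_apply_inv, ← rho_mul, ← rho_mul] at this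
      · rw [rho_mul, rho_mul, hr.2 _ (hWinv _ hg' w hw), rho_apply_inv]
    refine Subgroup.mem_normalizer_iff.2 fun r => ⟨hconj g hg r, fun h => ?_⟩
    have := hconj g⁻¹ ((show Commute g x from hg).inv_left).eq _ h
    simpa [mul_assoc] using this
  · -- transvections
    have comm : ∀ f : V →ₗ[F] F, (∀ w ∈ W, f w = 0) → ∀ w ∈ W, ∀ v, f v • ρ y w = f (ρ y v) • w := by
      intro f hf w hw v
      set T : Module.End F V := 1 + f.smulRight w with hT
      have hT1 : ∀ v, T v - v ∈ W := fun v => by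
        simp only [hT, LinearMap.add_apply, Module.End.one_apply, LinearMap.smulRight_apply, add_sub_cancel_left]
        exact W.smul_mem _ hw
      have hT2 : ∀ u ∈ W, T u = u := fun u hu => by simp [hT, hf u hu]
      obtain ⟨m, hm⟩ := himg T (shape_pow_four h2 (W := (W : Set V)) (W' := (W : Set V)) hT1
        (fun u hu => by rw [hT2 u hu, sub_self]; exact W.zero_mem) hT2)
      have hmR : m ∈ R := (hmem m).2 ⟨fun v => hm ▸ hT1 v, fun w hw => hm ▸ hT2 w hw⟩
      have e := congrArg (fun z => ρ z v) (Subgroup.mem_centralizer_iff.1 hy m hmR)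
      simp only [rho_mul, hm, hT, LinearMap.add_apply, Module.End.one_apply, LinearMap.smulRight_apply,
        map_add, map_smul, add_right_inj] at e
      exact e.symm
    have hNv : N v₁ ∈ W := ⟨v₁, rfl⟩
    obtain ⟨f₀, hf₀, hf₀'⟩ := Submodule.exists_dual_map_eq_bot_of_notMem (p := W) (x := v₁)
      (fun h => by obtain ⟨a, ha⟩ := h; exact hv₁ (by rw [← ha, hNN])) inferInstance
    have hf₀W : ∀ w ∈ W, f₀ w = 0 := fun w hw => (Submodule.eq_bot_iff _).1 hf₀' _ ⟨w, hw, rfl⟩
    set v₀ := (f₀ v₁)⁻¹ • v₁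
    have hv₀ : f₀ v₀ = 1 := by simp [v₀, hf₀]
    set l := f₀ (ρ y v₀) with hl
    have hyW : ∀ w ∈ W, ρ y w = l • w := fun w hw => by
      have := comm f₀ hf₀W w hw v₀
      rwa [hv₀, one_smul] at this
    have hl0 : l ≠ 0 := fun h0 => hv₁ (by
      have := hyW _ hNv
      rw [h0, zero_smul] at this
      rw [← rho_inv_apply ρ y (N v₁), this, map_zero])
    have hyV : ∀ v, ρ y v - l • v ∈ W := by
      intro v
      by_contra hnot
      obtain ⟨f, hf, hf'⟩ := Submodule.exists_dual_map_eq_bot_of_notMem hnot inferInstance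
      have hfW : ∀ w ∈ W, f w = 0 := fun w hw => (Submodule.eq_bot_iff _).1 hf' _ ⟨w, hw, rfl⟩
      refine hf ?_
      have e := comm f hfW _ hNv v
      rw [hyW _ hNv, smul_smul] at e
      have e' := smul_left_injective F hv₁ e
      rw [map_sub, map_smul, smul_eq_mul, ← e', mul_comm, sub_self]
    set z : Module.End F V := l⁻¹ • ρ y with hz
    have hz4 : z ^ 4 = 1 := shape_pow_four h2 (W := (W : Set V)) (W' := (W : Set V))
      (fun v => by
        have := W.smul_mem l⁻¹ (hyV v)
        rwa [smul_sub, smul_smul, inv_mul_cancel₀ hl0, one_smul] at this)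
      (fun u hu => by rw [hz, LinearMap.smul_apply, hyW u hu, smul_smul, inv_mul_cancel₀ hl0, one_smul, sub_self]
                      exact W.zero_mem)
      (fun u hu => by rw [hz, LinearMap.smul_apply, hyW u hu, smul_smul, inv_mul_cancel₀ hl0, one_smul])
    refine mem_center_of_scalar ρ hρ hodd (k := 2) (c := l ^ 4) fun v => ?_
    have e : ρ y = l • z := by rw [hz, smul_smul, mul_inv_cancel₀ hl0, one_smul]
    rw [map_pow, e, smul_pow, show 2 ^ 2 = 4 from rfl, hz4]
    rfl

variable {σ : F →+* F} {B : V → V → F}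

/-- A sesquilinear form symmetric up to `σ`, non-degenerate, with diagonal values traces. -/
structure FormOK (σ : F →+* F) (B : V → V → F) : Prop where
  add_left : ∀ a b c, B (a + b) c = B a c + B b c
  smul_left : ∀ (t : F) a b, B (t • a) b = t * B a b
  swap : ∀ a b, B b a = σ (B a b)
  invol : ∀ t, σ (σ t) = t
  nondeg : ∀ a, (∀ b, B a b = 0) → a = 0
  trace : ∀ a, ∃ c : F, c + σ c = B a a

omit h2 in
theorem FormOK.add_right (hB : FormOK σ B) (a b c : V) : B a (b + c) = B a b + B a c := by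
  rw [hB.swap (b + c) a, hB.add_left, map_add, ← hB.swap, ← hB.swap]

omit h2 in
theorem FormOK.smul_right (hB : FormOK σ B) (t : F) (a b : V) : B a (t • b) = σ t * B a b := by
  rw [hB.swap (t • b) a, hB.smul_left, map_mul, ← hB.swap]

omit h2 in
theorem FormOK.zero_left (hB : FormOK σ B) (b : V) : B 0 b = 0 := by
  have h := hB.smul_left 0 0 b
  rwa [zero_smul, zero_mul] at h

omit h2 in
theorem FormOK.sub_left (hB : FormOK σ B) (a b c : V) : B (a - b) c = B a c - B b c := by
  rw [eq_sub_iff_add_eq, ← hB.add_left, sub_add_cancel]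

theorem rad_form (hB : FormOK σ B) (hρ : Function.Injective ρ)
    (hpres : ∀ m a b, B (ρ m a) (ρ m b) = B a b)
    (himg : ∀ g : Module.End F V, g ^ 4 = 1 → (∀ a b, B (g a) (g b) = B a b) → ∃ m, ρ m = g) : Rad M := by
  classical
  have htwo : ∀ t : F, t + t = 0 := fun t => by rw [← two_mul, h2, zero_mul]
  intro x hxx hx1
  set N : Module.End F V := ρ x + 1 with hN
  set W := LinearMap.range N with hW
  have hxinv : ∀ v, ρ x (ρ x v) = v := fun v => by rw [← rho_mul, hxx, rho_one]
  -- the range is totally isotropic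
  have hiso : ∀ a ∈ W, ∀ b ∈ W, B a b = 0 := by
    rintro _ ⟨a, rfl⟩ _ ⟨b, rfl⟩
    simp only [hN, LinearMap.add_apply, Module.End.one_apply, hB.add_left, hB.add_right, hpres]
    have e : B (ρ x a) b = B a (ρ x b) := by rw [← hpres x, hxinv]
    rw [e, show B a b + B a (ρ x b) + (B a (ρ x b) + B a b) =
      (B a b + B a b) + (B a (ρ x b) + B a (ρ x b)) by abel, htwo, htwo, add_zero]
  set Wp : Set V := {u | ∀ w ∈ W, B u w = 0} with hWp
  have hWle : ∀ w ∈ W, w ∈ Wp := fun w hw => hiso w hw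
  have hWpadd : ∀ a ∈ Wp, ∀ b ∈ Wp, a + b ∈ Wp := fun a ha b hb w hw => by
    rw [hB.add_left, ha w hw, hb w hw, add_zero]
  set P : M → Prop := fun m =>
    (∀ v, ρ m v - v ∈ Wp) ∧ (∀ u ∈ Wp, ρ m u - u ∈ W) ∧ ∀ w ∈ W, ρ m w = w with hP
  obtain ⟨R, hR, hmem⟩ := exists_subgroup_of_pow_four h2 P
    ⟨fun v w _ => by rw [rho_one, sub_self, hB.zero_left], fun u _ => by rw [rho_one, sub_self]; exact W.zero_mem,
      fun w _ => rho_one ρ w⟩
    (fun a b ha hb => ⟨fun v => by
        rw [rho_mul, show ρ a (ρ b v) - v = (ρ a (ρ b v) - ρ b v) + (ρ b v - v) by abel]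
        exact hWpadd _ (ha.1 _) _ (hb.1 v),
      fun u hu => by
        rw [rho_mul, show ρ a (ρ b u) - u = (ρ a (ρ b u) - ρ b u) + (ρ b u - u) by abel]
        refine W.add_mem (ha.2.1 _ ?_) (hb.2.1 u hu)
        have := hWpadd _ hu _ (hWle _ (hb.2.1 u hu))
        rwa [add_sub_cancel] at this,
      fun w hw => by rw [rho_mul, hb.2.2 w hw, ha.2.2 w hw]⟩)
    (fun a ha => hρ (by rw [map_pow, map_one]; exact shape_pow_four h2 ha.1 ha.2.1 ha.2.2))
  have hWinv : ∀ g : M, g * x = x * g → ∀ w ∈ W, ρ g w ∈ W := by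
    rintro g hg _ ⟨v, rfl⟩
    refine ⟨ρ g v, ?_⟩
    simp only [hN, LinearMap.add_apply, Module.End.one_apply, map_add]
    rw [← rho_mul, ← rho_mul, hg]
  refine ⟨R, hR, fun g hg => ?_, fun y hy hodd => ?_⟩
  · have hWpinv : ∀ g : M, g * x = x * g → ∀ u ∈ Wp, ρ g u ∈ Wp := by
      intro g hg u hu w hw
      have e := hpres g u (ρ g⁻¹ w)
      rw [rho_apply_inv] at e
      rw [e]
      exact hu _ (hWinv _ ((show Commute g x from hg).inv_left).eq w hw)
    have hconj : ∀ g : M, g * x = x * g → ∀ r ∈ R, g * r * g⁻¹ ∈ R := by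
      intro g hg r hr
      rw [hmem] at hr ⊢
      have hg' : g⁻¹ * x = x * g⁻¹ := ((show Commute g x from hg).inv_left).eq
      refine ⟨fun v => ?_, fun u hu => ?_, fun w hw => ?_⟩
      · have := hWpinv g hg _ (hr.1 (ρ g⁻¹ v))
        rwa [map_sub, rho_apply_inv, ← rho_mul, ← rho_mul] at this
      · have := hWinv g hg _ (hr.2.1 _ (hWpinv _ hg' u hu))
        rwa [map_sub, rho_apply_inv, ← rho_mul, ← rho_mul] at this
      · rw [rho_mul, rho_mul, hr.2.2 _ (hWinv _ hg' w hw), rho_apply_inv]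
    refine Subgroup.mem_normalizer_iff.2 fun r => ⟨hconj g hg r, fun h => ?_⟩
    have := hconj g⁻¹ ((show Commute g x from hg).inv_left).eq _ h
    simpa [mul_assoc] using this
  obtain ⟨w₀, hw₀, hw₀0⟩ : ∃ w ∈ W, w ≠ 0 := by
    by_contra hcon
    push Not at hcon
    refine hx1 (hρ (LinearMap.ext fun v => ?_))
    have := hcon _ ⟨v, rfl⟩
    simp only [hN, LinearMap.add_apply, Module.End.one_apply] at this
    rw [rho_one, ← sub_eq_zero, sub_eq_add' h2, this]
  -- the elements `v ↦ v + B(v,w)u + (B(v,u) + c B(v,w)) w`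
  have comm : ∀ w ∈ W, ∀ u ∈ Wp, ∀ c : F, c + σ c = B u u → ∀ v,
      B v w • ρ y u + (B v u + c * B v w) • ρ y w =
        B (ρ y v) w • u + (B (ρ y v) u + c * B (ρ y v) w) • w := by
    intro w hw u hu c hc v
    let E : Module.End F V :=
      { toFun := fun v => v + B v w • u + (B v u + c * B v w) • w
        map_add' := fun a b => by simp only [hB.add_left]; module
        map_smul' := fun t a => by simp only [hB.smul_left, RingHom.id_apply]; module }
    have hE : ∀ v, E v = v + B v w • u + (B v u + c * B v w) • w := fun v => rfl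
    have huw : B u w = 0 := hu w hw
    have hwu : B w u = 0 := by rw [hB.swap u w, huw, map_zero]
    have hEp : ∀ a b, B (E a) (E b) = B a b := by
      intro a b
      simp only [hE, hB.add_left, hB.add_right, hB.smul_left, hB.smul_right, huw, hwu, hiso w hw w hw, ← hc,
        map_add, map_mul, ← hB.swap]
      linear_combination (B a u * B w b + B a w * B u b + B a w * B w b * (c + σ c)) * h2
    have hE1 : ∀ v, E v - v ∈ Wp := fun v => by
      rw [hE, show v + B v w • u + (B v u + c * B v w) • w - v = B v w • u + (B v u + c * B v w) • w by abel]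
      exact hWpadd _ (fun t ht => by rw [hB.smul_left, hu t ht, mul_zero]) _ (hWle _ (W.smul_mem _ hw))
    have hE2 : ∀ a ∈ Wp, E a - a ∈ W := fun a ha => by
      rw [hE, ha w hw, zero_smul, add_zero, add_sub_cancel_left]
      exact W.smul_mem _ hw
    have hE3 : ∀ a ∈ W, E a = a := fun a ha => by
      rw [hE, hiso a ha w hw, hB.swap u a, hu a ha, map_zero]; simp
    obtain ⟨m, hm⟩ := himg E (shape_pow_four h2 hE1 hE2 hE3) hEp
    have hmR : m ∈ R := (hmem m).2 ⟨fun v => hm ▸ hE1 v, fun u hu => hm ▸ hE2 u hu, fun w hw => hm ▸ hE3 w hw⟩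
    have e := congrArg (fun z => ρ z v) (Subgroup.mem_centralizer_iff.1 hy m hmR)
    simp only [rho_mul, hm, hE, map_add, map_smul] at e
    rw [add_assoc, add_assoc, add_right_inj] at e
    exact e.symm
  obtain ⟨v₀, hv₀⟩ : ∃ v, B v w₀ = 1 := by
    by_contra hcon
    push Not at hcon
    refine hw₀0 (hB.nondeg _ fun b => ?_)
    by_contra hb
    have hb' : B b w₀ ≠ 0 := by
      rw [hB.swap w₀ b]; exact (map_ne_zero σ).2 hb
    exact hcon ((B b w₀)⁻¹ • b) (by rw [hB.smul_left, inv_mul_cancel₀ hb'])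
  set l := B (ρ y v₀) w₀ with hl
  have hB0 : ∀ v, B v 0 = 0 := fun v => by rw [hB.swap 0 v, hB.zero_left, map_zero]
  have hT := comm w₀ hw₀ 0 (fun w _ => hB.zero_left w) 1 (by rw [map_one, hB.zero_left, htwo])
  simp only [hB0, map_zero, smul_zero, zero_add, one_mul] at hT
  have hyw₀ : ρ y w₀ = l • w₀ := by simpa [hv₀] using hT v₀
  have hyv : ∀ v, B (ρ y v) w₀ = l * B v w₀ := fun v => by
    have := hT v
    rw [hyw₀, smul_smul] at this
    rw [← smul_left_injective F hw₀0 this, mul_comm]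
  have hl0 : l ≠ 0 := fun h0 => hw₀0 (by
    rw [← rho_inv_apply ρ y w₀, hyw₀, h0, zero_smul, map_zero])
  have hyW' : ∀ u ∈ Wp, ∃ t : F, ρ y u = l • u + t • w₀ := by
    intro u hu
    obtain ⟨c, hc⟩ := hB.trace u
    have := comm w₀ hw₀ u hu c hc v₀
    rw [hv₀, one_smul, hyv, hv₀, mul_one, mul_one, hyw₀, smul_smul] at this
    exact ⟨B (ρ y v₀) u + c * l - (B v₀ u + c) * l, by rw [sub_smul, ← add_sub_assoc, ← this, add_sub_cancel_right]⟩
  have hyW : ∀ w ∈ W, ρ y w = l • w := by
    intro w hw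
    by_cases h : ∃ t : F, w = t • w₀
    · obtain ⟨t, rfl⟩ := h
      rw [map_smul, hyw₀, smul_comm]
    push Not at h
    obtain ⟨t, ht⟩ := hyW' w (hWle w hw)
    -- `w` is an eigenvector as well
    have hTw := comm w hw 0 (fun a _ => hB.zero_left a) 1 (by rw [map_one, hB.zero_left, htwo])
    simp only [hB0, map_zero, smul_zero, zero_add, one_mul] at hTw
    obtain ⟨v, hv⟩ : ∃ v, B v w = 1 := by
      by_contra hcon
      push Not at hcon
      refine h 0 ?_
      rw [zero_smul]
      refine hB.nondeg _ fun b => ?_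
      by_contra hb
      have hb' : B b w ≠ 0 := by
        rw [hB.swap w b]; exact (map_ne_zero σ).2 hb
      exact hcon ((B b w)⁻¹ • b) (by rw [hB.smul_left, inv_mul_cancel₀ hb'])
    have e := hTw v
    rw [hv, one_smul, ht] at e
    by_cases ht0 : t = 0
    · rw [ht, ht0, zero_smul, add_zero]
    · exfalso
      refine h ((B (ρ y v) w - l)⁻¹ * t) ?_
      have e' : (B (ρ y v) w - l) • w = t • w₀ := by rw [sub_smul, ← e]; abel
      have hne : B (ρ y v) w - l ≠ 0 := fun h0 => by
        rw [h0, zero_smul] at e'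
        exact hw₀0 ((smul_eq_zero.1 e'.symm).resolve_left ht0)
      rw [← smul_smul, ← e', smul_smul, inv_mul_cancel₀ hne, one_smul]
  have hnorm : σ l * l = 1 := by
    have e := hpres y v₀ w₀
    rwa [hyw₀, hB.smul_right, hv₀] at e
  set z : Module.End F V := l⁻¹ • ρ y with hz
  have hz4 : z ^ 4 = 1 := shape_pow_four h2 (W := (W : Set V)) (W' := Wp)
    (fun v w hw => by
      rw [hB.sub_left, hz, LinearMap.smul_apply, hB.smul_left]
      have e := hpres y v w
      rw [hyW w hw, hB.smul_right] at e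
      have hinv : σ l = l⁻¹ := eq_inv_of_mul_eq_one_left hnorm
      rw [hinv] at e
      rw [e, sub_self])
    (fun u hu => by
      obtain ⟨t, ht⟩ := hyW' u hu
      rw [hz, LinearMap.smul_apply, ht, smul_add, smul_smul, inv_mul_cancel₀ hl0, one_smul, add_sub_cancel_left,
        smul_smul]
      exact W.smul_mem _ hw₀)
    (fun u hu => by rw [hz, LinearMap.smul_apply, hyW u hu, smul_smul, inv_mul_cancel₀ hl0, one_smul])
  refine mem_center_of_scalar ρ hρ hodd (k := 2) (c := l ^ 4) fun v => ?_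
  have e : ρ y = l • z := by rw [hz, smul_smul, mul_inv_cancel₀ hl0, one_smul]
  rw [map_pow, e, smul_pow, show 2 ^ 2 = 4 from rfl, hz4]
  rfl

end H53.CharTwo
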