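import Cfsg.Agent.H53.E6Data
import Cfsg.Agent.H53.MatRep
import Cfsg.Prelude.Def_ChevE6

/-!
The kernel checks on the 27-dimensional representation of E6.
-/

set_option autoImplicit false
set_option synthInstance.maxSize 512
set_option linter.unusedSectionVars false

namespace H53.E6Data

open Cfsg.Lie H53.MatRep
open H53.E6Frame (Mon cub)

/-- The representation data. -/
def dataE : Data I27 := ⟨fun x => 9 * x.1.val + 3 * x.2.1.val + x.2.2.val, fun r => tabE.getD r []⟩

/-- Insert a coefficient. -/
def cins (k : ℕ) (c : ℤ) : List (ℕ × ℤ) → List (ℕ × ℤ)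
  | [] => [(k, c)]
  | (k', c') :: L => if k = k' then (if c' + c = 0 then L else (k', c' + c) :: L) else (k', c') :: cins k c L

/-- Combine coefficients. -/
def ccomb : List (ℕ × ℤ) → List (ℕ × ℤ)
  | [] => []
  | (k, c) :: L => cins k c (ccomb L)

/-- The coordinates entering the image of a coordinate: degree in the parameter, coordinate, coefficient. -/
def img (r : ℕ) (x : I27) : List (ℕ × I27 × ℤ) :=
  (0, x, 1) :: ((dataE.T r).filter fun e => decide (e.1 = x)).map fun e => (e.2.2.1, e.2.1, e.2.2.2)

/-- Sort three numbers and pack them with a degree. -/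
def pack (k a b c : ℕ) : ℕ :=
  let P := fun p q r => ((k * 27 + p) * 27 + q) * 27 + r
  if a ≤ b then (if b ≤ c then P a b c else if a ≤ c then P a c b else P c a b)
  else (if a ≤ c then P b a c else if b ≤ c then P b c a else P c b a)

/-- The change of one monomial, in the packed form. -/
def delta1 (r : ℕ) (m : Mon I27) : List (ℕ × ℤ) :=
  (img r m.1).flatMap fun a => (img r m.2.1).flatMap fun b => (img r m.2.2.1).flatMap fun c =>
    if a.1 + b.1 + c.1 = 0 then [] else
      [(pack (a.1 + b.1 + c.1) (dataE.code a.2.1) (dataE.code b.2.1) (dataE.code c.2.1),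
        m.2.2.2 * a.2.2 * b.2.2 * c.2.2)]

/-- The root element fixes the cubic form. -/
def cubicOK (r : ℕ) : Bool := decide (ccomb (mons.flatMap (delta1 r)) = [])

theorem injE : Function.Injective dataE.code := by unfold Function.Injective; decide +kernel

theorem c1E : ∀ r < chevE6.nroots, check1 dataE r = true := by decide +kernel

theorem c3E : ∀ r < chevE6.nroots, check3 chevE6 dataE r = true := by decide +kernel

theorem c2E : ∀ r < chevE6.nroots, ∀ s < chevE6.nroots, s ≠ r → s ≠ chevE6.neg r →
    check2 chevE6 dataE r s = true := by decide +kernel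

theorem neg_ltE : ∀ r < chevE6.nroots, chevE6.neg r < chevE6.nroots := by decide +kernel

theorem comm_ltE : ∀ r < chevE6.nroots, ∀ s < chevE6.nroots, ∀ c ∈ chevE6.commTerms r s, c.1 < chevE6.nroots := by
  decide +kernel

theorem cubicE : ∀ r < chevE6.nroots, cubicOK r = true := by decide +kernel

theorem sqfreeE : E6Frame.SqFree mons := by unfold E6Frame.SqFree; decide +kernel

theorem seqE : E6Frame.seqOK mons chevE6.nroots dataE.T [] steps = true := by decide +kernel

theorem okE : Ok chevE6 dataE :=
  ⟨injE, c1E, c2E, c3E, neg_ltE, comm_ltE⟩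

end H53.E6Data
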