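import Cfsg.Agent.H53.E6Frame

/-!
The root elements of the 27-dimensional representation of E6, the 45 monomials, and a certified frame.
-/

set_option autoImplicit false
set_option synthInstance.maxSize 512

namespace H53.E6Data

open Cfsg.Lie (I27)
open H53.MatRep (Ent)
open H53.E6Frame (Mon Step)

/-- The monomials of the cubic form. -/
def mons : List (Mon I27) :=
  [((0, 0, 0), (0, 1, 1), (0, 2, 2), 1),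
   ((0, 0, 0), (0, 1, 2), (0, 2, 1), -1),
   ((0, 0, 0), (1, 0, 0), (2, 0, 0), -1),
   ((0, 0, 0), (1, 0, 1), (2, 1, 0), -1),
   ((0, 0, 0), (1, 0, 2), (2, 2, 0), -1),
   ((0, 0, 1), (0, 1, 0), (0, 2, 2), -1),
   ((0, 0, 1), (0, 1, 2), (0, 2, 0), 1),
   ((0, 0, 1), (1, 1, 0), (2, 0, 0), -1),
   ((0, 0, 1), (1, 1, 1), (2, 1, 0), -1),
   ((0, 0, 1), (1, 1, 2), (2, 2, 0), -1),
   ((0, 0, 2), (0, 1, 0), (0, 2, 1), 1),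
   ((0, 0, 2), (0, 1, 1), (0, 2, 0), -1),
   ((0, 0, 2), (1, 2, 0), (2, 0, 0), -1),
   ((0, 0, 2), (1, 2, 1), (2, 1, 0), -1),
   ((0, 0, 2), (1, 2, 2), (2, 2, 0), -1),
   ((0, 1, 0), (1, 0, 0), (2, 0, 1), -1),
   ((0, 1, 0), (1, 0, 1), (2, 1, 1), -1),
   ((0, 1, 0), (1, 0, 2), (2, 2, 1), -1),
   ((0, 1, 1), (1, 1, 0), (2, 0, 1), -1),
   ((0, 1, 1), (1, 1, 1), (2, 1, 1), -1),
   ((0, 1, 1), (1, 1, 2), (2, 2, 1), -1),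
   ((0, 1, 2), (1, 2, 0), (2, 0, 1), -1),
   ((0, 1, 2), (1, 2, 1), (2, 1, 1), -1),
   ((0, 1, 2), (1, 2, 2), (2, 2, 1), -1),
   ((0, 2, 0), (1, 0, 0), (2, 0, 2), -1),
   ((0, 2, 0), (1, 0, 1), (2, 1, 2), -1),
   ((0, 2, 0), (1, 0, 2), (2, 2, 2), -1),
   ((0, 2, 1), (1, 1, 0), (2, 0, 2), -1),
   ((0, 2, 1), (1, 1, 1), (2, 1, 2), -1),
   ((0, 2, 1), (1, 1, 2), (2, 2, 2), -1),
   ((0, 2, 2), (1, 2, 0), (2, 0, 2), -1),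
   ((0, 2, 2), (1, 2, 1), (2, 1, 2), -1),
   ((0, 2, 2), (1, 2, 2), (2, 2, 2), -1),
   ((1, 0, 0), (1, 1, 1), (1, 2, 2), 1),
   ((1, 0, 0), (1, 1, 2), (1, 2, 1), -1),
   ((1, 0, 1), (1, 1, 0), (1, 2, 2), -1),
   ((1, 0, 1), (1, 1, 2), (1, 2, 0), 1),
   ((1, 0, 2), (1, 1, 0), (1, 2, 1), 1),
   ((1, 0, 2), (1, 1, 1), (1, 2, 0), -1),
   ((2, 0, 0), (2, 1, 1), (2, 2, 2), 1),
   ((2, 0, 0), (2, 1, 2), (2, 2, 1), -1),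
   ((2, 0, 1), (2, 1, 0), (2, 2, 2), -1),
   ((2, 0, 1), (2, 1, 2), (2, 2, 0), 1),
   ((2, 0, 2), (2, 1, 0), (2, 2, 1), 1),
   ((2, 0, 2), (2, 1, 1), (2, 2, 0), -1)]

/-- The root elements. -/
def tabE : List (List (Ent I27)) :=
[  [((1, 0, 1), (1, 0, 2), 1, 1), ((1, 1, 1), (1, 1, 2), 1, 1), ((1, 2, 1), (1, 2, 2), 1, 1), ((2, 2, 0), (2, 1, 0), 1, -1), ((2, 2, 1), (2, 1, 1), 1, -1), ((2, 2, 2), (2, 1, 2), 1, -1)],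
  [((1, 0, 0), (1, 0, 2), 1, -1), ((1, 1, 0), (1, 1, 2), 1, -1), ((1, 2, 0), (1, 2, 2), 1, -1), ((2, 2, 0), (2, 0, 0), 1, 1), ((2, 2, 1), (2, 0, 1), 1, 1), ((2, 2, 2), (2, 0, 2), 1, 1)],
  [((2, 2, 1), (0, 0, 2), 1, 1), ((2, 2, 0), (0, 1, 2), 1, -1), ((0, 2, 1), (1, 0, 2), 1, 1), ((0, 2, 0), (1, 1, 2), 1, -1), ((1, 2, 1), (2, 0, 2), 1, 1), ((1, 2, 0), (2, 1, 2), 1, -1)],
  [((2, 2, 1), (0, 0, 0), 1, 1), ((2, 2, 0), (0, 1, 0), 1, -1), ((0, 2, 2), (1, 1, 2), 1, 1), ((0, 2, 1), (1, 2, 2), 1, -1), ((1, 0, 1), (2, 0, 2), 1, 1), ((1, 0, 0), (2, 1, 2), 1, -1)],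
  [((2, 2, 1), (0, 0, 1), 1, 1), ((2, 2, 0), (0, 1, 1), 1, -1), ((0, 2, 2), (1, 0, 2), 1, -1), ((0, 2, 0), (1, 2, 2), 1, 1), ((1, 1, 1), (2, 0, 2), 1, 1), ((1, 1, 0), (2, 1, 2), 1, -1)],
  [((2, 2, 2), (0, 1, 2), 1, -1), ((2, 2, 1), (0, 2, 2), 1, 1), ((0, 0, 1), (1, 0, 2), 1, -1), ((0, 0, 0), (1, 1, 2), 1, 1), ((1, 2, 1), (2, 0, 0), 1, -1), ((1, 2, 0), (2, 1, 0), 1, 1)],
  [((2, 2, 2), (0, 1, 0), 1, -1), ((2, 2, 1), (0, 2, 0), 1, 1), ((0, 0, 2), (1, 1, 2), 1, -1), ((0, 0, 1), (1, 2, 2), 1, 1), ((1, 0, 1), (2, 0, 0), 1, -1), ((1, 0, 0), (2, 1, 0), 1, 1)],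
  [((2, 2, 2), (0, 1, 1), 1, -1), ((2, 2, 1), (0, 2, 1), 1, 1), ((0, 0, 2), (1, 0, 2), 1, 1), ((0, 0, 0), (1, 2, 2), 1, -1), ((1, 1, 1), (2, 0, 0), 1, -1), ((1, 1, 0), (2, 1, 0), 1, 1)],
  [((1, 2, 1), (0, 1, 0), 1, -1), ((1, 0, 1), (0, 1, 2), 1, 1), ((2, 2, 1), (1, 1, 0), 1, -1), ((2, 0, 1), (1, 1, 2), 1, 1), ((0, 2, 1), (2, 1, 0), 1, -1), ((0, 0, 1), (2, 1, 2), 1, 1)],
  [((1, 2, 1), (0, 1, 1), 1, -1), ((1, 1, 1), (0, 1, 2), 1, 1), ((2, 2, 1), (1, 0, 0), 1, 1), ((2, 0, 1), (1, 0, 2), 1, -1), ((0, 2, 0), (2, 1, 0), 1, 1), ((0, 0, 0), (2, 1, 2), 1, -1)],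
  [((1, 1, 1), (0, 1, 0), 1, 1), ((1, 0, 1), (0, 1, 1), 1, -1), ((2, 2, 1), (1, 2, 0), 1, -1), ((2, 0, 1), (1, 2, 2), 1, 1), ((0, 2, 2), (2, 1, 0), 1, -1), ((0, 0, 2), (2, 1, 2), 1, 1)],
  [((1, 2, 0), (0, 1, 0), 1, 1), ((1, 0, 0), (0, 1, 2), 1, -1), ((2, 2, 1), (1, 1, 1), 1, -1), ((2, 1, 1), (1, 1, 2), 1, 1), ((0, 2, 1), (2, 0, 0), 1, 1), ((0, 0, 1), (2, 0, 2), 1, -1)],
  [((1, 2, 0), (0, 1, 1), 1, 1), ((1, 1, 0), (0, 1, 2), 1, -1), ((2, 2, 1), (1, 0, 1), 1, 1), ((2, 1, 1), (1, 0, 2), 1, -1), ((0, 2, 0), (2, 0, 0), 1, -1), ((0, 0, 0), (2, 0, 2), 1, 1)],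
  [((1, 1, 0), (0, 1, 0), 1, -1), ((1, 0, 0), (0, 1, 1), 1, 1), ((2, 2, 1), (1, 2, 1), 1, -1), ((2, 1, 1), (1, 2, 2), 1, 1), ((0, 2, 2), (2, 0, 0), 1, 1), ((0, 0, 2), (2, 0, 2), 1, -1)],
  [((0, 2, 0), (0, 1, 0), 1, -1), ((0, 2, 1), (0, 1, 1), 1, -1), ((0, 2, 2), (0, 1, 2), 1, -1), ((2, 0, 1), (2, 0, 2), 1, 1), ((2, 1, 1), (2, 1, 2), 1, 1), ((2, 2, 1), (2, 2, 2), 1, 1)],
  [((0, 0, 0), (0, 1, 0), 1, 1), ((0, 0, 1), (0, 1, 1), 1, 1), ((0, 0, 2), (0, 1, 2), 1, 1), ((2, 0, 1), (2, 0, 0), 1, -1), ((2, 1, 1), (2, 1, 0), 1, -1), ((2, 2, 1), (2, 2, 0), 1, -1)],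
  [((2, 2, 2), (0, 0, 2), 1, 1), ((2, 2, 0), (0, 2, 2), 1, -1), ((0, 1, 1), (1, 0, 2), 1, -1), ((0, 1, 0), (1, 1, 2), 1, 1), ((1, 2, 1), (2, 0, 1), 1, -1), ((1, 2, 0), (2, 1, 1), 1, 1)],
  [((2, 2, 2), (0, 0, 0), 1, 1), ((2, 2, 0), (0, 2, 0), 1, -1), ((0, 1, 2), (1, 1, 2), 1, -1), ((0, 1, 1), (1, 2, 2), 1, 1), ((1, 0, 1), (2, 0, 1), 1, -1), ((1, 0, 0), (2, 1, 1), 1, 1)],
  [((2, 2, 2), (0, 0, 1), 1, 1), ((2, 2, 0), (0, 2, 1), 1, -1), ((0, 1, 2), (1, 0, 2), 1, 1), ((0, 1, 0), (1, 2, 2), 1, -1), ((1, 1, 1), (2, 0, 1), 1, -1), ((1, 1, 0), (2, 1, 1), 1, 1)],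
  [((1, 2, 1), (0, 0, 0), 1, 1), ((1, 0, 1), (0, 0, 2), 1, -1), ((2, 2, 0), (1, 1, 0), 1, 1), ((2, 0, 0), (1, 1, 2), 1, -1), ((0, 2, 1), (2, 1, 1), 1, -1), ((0, 1, 1), (2, 1, 2), 1, 1)],
  [((1, 2, 1), (0, 0, 1), 1, 1), ((1, 1, 1), (0, 0, 2), 1, -1), ((2, 2, 0), (1, 0, 0), 1, -1), ((2, 0, 0), (1, 0, 2), 1, 1), ((0, 2, 0), (2, 1, 1), 1, 1), ((0, 1, 0), (2, 1, 2), 1, -1)],
  [((1, 1, 1), (0, 0, 0), 1, -1), ((1, 0, 1), (0, 0, 1), 1, 1), ((2, 2, 0), (1, 2, 0), 1, 1), ((2, 0, 0), (1, 2, 2), 1, -1), ((0, 2, 2), (2, 1, 1), 1, -1), ((0, 1, 2), (2, 1, 2), 1, 1)],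
  [((1, 2, 1), (0, 2, 0), 1, 1), ((1, 0, 1), (0, 2, 2), 1, -1), ((2, 2, 2), (1, 1, 0), 1, 1), ((2, 0, 2), (1, 1, 2), 1, -1), ((0, 1, 1), (2, 1, 0), 1, -1), ((0, 0, 1), (2, 1, 1), 1, 1)],
  [((1, 2, 1), (0, 2, 1), 1, 1), ((1, 1, 1), (0, 2, 2), 1, -1), ((2, 2, 2), (1, 0, 0), 1, -1), ((2, 0, 2), (1, 0, 2), 1, 1), ((0, 1, 0), (2, 1, 0), 1, 1), ((0, 0, 0), (2, 1, 1), 1, -1)],
  [((1, 1, 1), (0, 2, 0), 1, -1), ((1, 0, 1), (0, 2, 1), 1, 1), ((2, 2, 2), (1, 2, 0), 1, 1), ((2, 0, 2), (1, 2, 2), 1, -1), ((0, 1, 2), (2, 1, 0), 1, -1), ((0, 0, 2), (2, 1, 1), 1, 1)],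
  [((1, 0, 1), (1, 0, 0), 1, 1), ((1, 1, 1), (1, 1, 0), 1, 1), ((1, 2, 1), (1, 2, 0), 1, 1), ((2, 0, 0), (2, 1, 0), 1, -1), ((2, 0, 1), (2, 1, 1), 1, -1), ((2, 0, 2), (2, 1, 2), 1, -1)],
  [((1, 2, 0), (0, 0, 0), 1, -1), ((1, 0, 0), (0, 0, 2), 1, 1), ((2, 2, 0), (1, 1, 1), 1, 1), ((2, 1, 0), (1, 1, 2), 1, -1), ((0, 2, 1), (2, 0, 1), 1, 1), ((0, 1, 1), (2, 0, 2), 1, -1)],
  [((1, 2, 0), (0, 0, 1), 1, -1), ((1, 1, 0), (0, 0, 2), 1, 1), ((2, 2, 0), (1, 0, 1), 1, -1), ((2, 1, 0), (1, 0, 2), 1, 1), ((0, 2, 0), (2, 0, 1), 1, -1), ((0, 1, 0), (2, 0, 2), 1, 1)],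
  [((1, 1, 0), (0, 0, 0), 1, 1), ((1, 0, 0), (0, 0, 1), 1, -1), ((2, 2, 0), (1, 2, 1), 1, 1), ((2, 1, 0), (1, 2, 2), 1, -1), ((0, 2, 2), (2, 0, 1), 1, 1), ((0, 1, 2), (2, 0, 2), 1, -1)],
  [((0, 2, 0), (0, 0, 0), 1, 1), ((0, 2, 1), (0, 0, 1), 1, 1), ((0, 2, 2), (0, 0, 2), 1, 1), ((2, 0, 0), (2, 0, 2), 1, -1), ((2, 1, 0), (2, 1, 2), 1, -1), ((2, 2, 0), (2, 2, 2), 1, -1)],
  [((1, 2, 0), (0, 2, 0), 1, 1), ((1, 0, 0), (0, 2, 2), 1, -1), ((2, 2, 2), (1, 1, 1), 1, -1), ((2, 1, 2), (1, 1, 2), 1, 1), ((0, 1, 1), (2, 0, 0), 1, -1), ((0, 0, 1), (2, 0, 1), 1, 1)],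
  [((1, 2, 0), (0, 2, 1), 1, 1), ((1, 1, 0), (0, 2, 2), 1, -1), ((2, 2, 2), (1, 0, 1), 1, 1), ((2, 1, 2), (1, 0, 2), 1, -1), ((0, 1, 0), (2, 0, 0), 1, 1), ((0, 0, 0), (2, 0, 1), 1, -1)],
  [((1, 1, 0), (0, 2, 0), 1, -1), ((1, 0, 0), (0, 2, 1), 1, 1), ((2, 2, 2), (1, 2, 1), 1, -1), ((2, 1, 2), (1, 2, 2), 1, 1), ((0, 1, 2), (2, 0, 0), 1, -1), ((0, 0, 2), (2, 0, 1), 1, 1)],
  [((0, 0, 1), (0, 0, 2), 1, -1), ((0, 1, 1), (0, 1, 2), 1, -1), ((0, 2, 1), (0, 2, 2), 1, -1), ((1, 2, 0), (1, 1, 0), 1, 1), ((1, 2, 1), (1, 1, 1), 1, 1), ((1, 2, 2), (1, 1, 2), 1, 1)],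
  [((0, 0, 0), (0, 0, 2), 1, 1), ((0, 1, 0), (0, 1, 2), 1, 1), ((0, 2, 0), (0, 2, 2), 1, 1), ((1, 2, 0), (1, 0, 0), 1, -1), ((1, 2, 1), (1, 0, 1), 1, -1), ((1, 2, 2), (1, 0, 2), 1, -1)],
  [((0, 0, 1), (0, 0, 0), 1, 1), ((0, 1, 1), (0, 1, 0), 1, 1), ((0, 2, 1), (0, 2, 0), 1, 1), ((1, 0, 0), (1, 1, 0), 1, -1), ((1, 0, 1), (1, 1, 1), 1, -1), ((1, 0, 2), (1, 1, 2), 1, -1)],
  [((0, 0, 0), (0, 0, 1), 1, 1), ((0, 1, 0), (0, 1, 1), 1, 1), ((0, 2, 0), (0, 2, 1), 1, 1), ((1, 1, 0), (1, 0, 0), 1, -1), ((1, 1, 1), (1, 0, 1), 1, -1), ((1, 1, 2), (1, 0, 2), 1, -1)],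
  [((0, 0, 2), (0, 0, 0), 1, 1), ((0, 1, 2), (0, 1, 0), 1, 1), ((0, 2, 2), (0, 2, 0), 1, 1), ((1, 0, 0), (1, 2, 0), 1, -1), ((1, 0, 1), (1, 2, 1), 1, -1), ((1, 0, 2), (1, 2, 2), 1, -1)],
  [((0, 0, 2), (0, 0, 1), 1, -1), ((0, 1, 2), (0, 1, 1), 1, -1), ((0, 2, 2), (0, 2, 1), 1, -1), ((1, 1, 0), (1, 2, 0), 1, 1), ((1, 1, 1), (1, 2, 1), 1, 1), ((1, 1, 2), (1, 2, 2), 1, 1)],
  [((2, 0, 1), (0, 0, 2), 1, 1), ((2, 0, 0), (0, 1, 2), 1, -1), ((0, 2, 1), (1, 0, 0), 1, 1), ((0, 2, 0), (1, 1, 0), 1, -1), ((1, 2, 2), (2, 1, 2), 1, 1), ((1, 2, 1), (2, 2, 2), 1, -1)],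
  [((2, 0, 1), (0, 0, 0), 1, -1), ((2, 0, 0), (0, 1, 0), 1, 1), ((0, 2, 2), (1, 1, 0), 1, -1), ((0, 2, 1), (1, 2, 0), 1, 1), ((1, 0, 2), (2, 1, 2), 1, -1), ((1, 0, 1), (2, 2, 2), 1, 1)],
  [((2, 0, 1), (0, 0, 1), 1, 1), ((2, 0, 0), (0, 1, 1), 1, -1), ((0, 2, 2), (1, 0, 0), 1, -1), ((0, 2, 0), (1, 2, 0), 1, 1), ((1, 1, 2), (2, 1, 2), 1, 1), ((1, 1, 1), (2, 2, 2), 1, -1)],
  [((0, 0, 0), (0, 2, 0), 1, 1), ((0, 0, 1), (0, 2, 1), 1, 1), ((0, 0, 2), (0, 2, 2), 1, 1), ((2, 0, 2), (2, 0, 0), 1, -1), ((2, 1, 2), (2, 1, 0), 1, -1), ((2, 2, 2), (2, 2, 0), 1, -1)],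
  [((2, 0, 2), (0, 1, 2), 1, -1), ((2, 0, 1), (0, 2, 2), 1, 1), ((0, 0, 1), (1, 0, 0), 1, -1), ((0, 0, 0), (1, 1, 0), 1, 1), ((1, 2, 2), (2, 1, 0), 1, -1), ((1, 2, 1), (2, 2, 0), 1, 1)],
  [((2, 0, 2), (0, 1, 0), 1, 1), ((2, 0, 1), (0, 2, 0), 1, -1), ((0, 0, 2), (1, 1, 0), 1, 1), ((0, 0, 1), (1, 2, 0), 1, -1), ((1, 0, 2), (2, 1, 0), 1, 1), ((1, 0, 1), (2, 2, 0), 1, -1)],
  [((2, 0, 2), (0, 1, 1), 1, -1), ((2, 0, 1), (0, 2, 1), 1, 1), ((0, 0, 2), (1, 0, 0), 1, 1), ((0, 0, 0), (1, 2, 0), 1, -1), ((1, 1, 2), (2, 1, 0), 1, -1), ((1, 1, 1), (2, 2, 0), 1, 1)],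
  [((1, 0, 0), (1, 0, 1), 1, 1), ((1, 1, 0), (1, 1, 1), 1, 1), ((1, 2, 0), (1, 2, 1), 1, 1), ((2, 1, 0), (2, 0, 0), 1, -1), ((2, 1, 1), (2, 0, 1), 1, -1), ((2, 1, 2), (2, 0, 2), 1, -1)],
  [((2, 1, 1), (0, 0, 2), 1, 1), ((2, 1, 0), (0, 1, 2), 1, -1), ((0, 2, 1), (1, 0, 1), 1, 1), ((0, 2, 0), (1, 1, 1), 1, -1), ((1, 2, 2), (2, 0, 2), 1, -1), ((1, 2, 0), (2, 2, 2), 1, 1)],
  [((2, 1, 1), (0, 0, 0), 1, -1), ((2, 1, 0), (0, 1, 0), 1, 1), ((0, 2, 2), (1, 1, 1), 1, -1), ((0, 2, 1), (1, 2, 1), 1, 1), ((1, 0, 2), (2, 0, 2), 1, 1), ((1, 0, 0), (2, 2, 2), 1, -1)],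
  [((2, 1, 1), (0, 0, 1), 1, 1), ((2, 1, 0), (0, 1, 1), 1, -1), ((0, 2, 2), (1, 0, 1), 1, -1), ((0, 2, 0), (1, 2, 1), 1, 1), ((1, 1, 2), (2, 0, 2), 1, -1), ((1, 1, 0), (2, 2, 2), 1, 1)],
  [((2, 1, 2), (0, 1, 2), 1, 1), ((2, 1, 1), (0, 2, 2), 1, -1), ((0, 0, 1), (1, 0, 1), 1, 1), ((0, 0, 0), (1, 1, 1), 1, -1), ((1, 2, 2), (2, 0, 0), 1, -1), ((1, 2, 0), (2, 2, 0), 1, 1)],
  [((2, 1, 2), (0, 1, 0), 1, -1), ((2, 1, 1), (0, 2, 0), 1, 1), ((0, 0, 2), (1, 1, 1), 1, -1), ((0, 0, 1), (1, 2, 1), 1, 1), ((1, 0, 2), (2, 0, 0), 1, 1), ((1, 0, 0), (2, 2, 0), 1, -1)],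
  [((2, 1, 2), (0, 1, 1), 1, 1), ((2, 1, 1), (0, 2, 1), 1, -1), ((0, 0, 2), (1, 0, 1), 1, -1), ((0, 0, 0), (1, 2, 1), 1, 1), ((1, 1, 2), (2, 0, 0), 1, -1), ((1, 1, 0), (2, 2, 0), 1, 1)],
  [((1, 2, 2), (0, 1, 0), 1, -1), ((1, 0, 2), (0, 1, 2), 1, 1), ((2, 1, 1), (1, 1, 0), 1, 1), ((2, 0, 1), (1, 1, 1), 1, -1), ((0, 2, 1), (2, 2, 0), 1, -1), ((0, 0, 1), (2, 2, 2), 1, 1)],
  [((1, 2, 2), (0, 1, 1), 1, 1), ((1, 1, 2), (0, 1, 2), 1, -1), ((2, 1, 1), (1, 0, 0), 1, 1), ((2, 0, 1), (1, 0, 1), 1, -1), ((0, 2, 0), (2, 2, 0), 1, -1), ((0, 0, 0), (2, 2, 2), 1, 1)],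
  [((1, 1, 2), (0, 1, 0), 1, 1), ((1, 0, 2), (0, 1, 1), 1, -1), ((2, 1, 1), (1, 2, 0), 1, 1), ((2, 0, 1), (1, 2, 1), 1, -1), ((0, 2, 2), (2, 2, 0), 1, -1), ((0, 0, 2), (2, 2, 2), 1, 1)],
  [((0, 1, 0), (0, 0, 0), 1, 1), ((0, 1, 1), (0, 0, 1), 1, 1), ((0, 1, 2), (0, 0, 2), 1, 1), ((2, 0, 0), (2, 0, 1), 1, -1), ((2, 1, 0), (2, 1, 1), 1, -1), ((2, 2, 0), (2, 2, 1), 1, -1)],
  [((0, 1, 0), (0, 2, 0), 1, -1), ((0, 1, 1), (0, 2, 1), 1, -1), ((0, 1, 2), (0, 2, 2), 1, -1), ((2, 0, 2), (2, 0, 1), 1, 1), ((2, 1, 2), (2, 1, 1), 1, 1), ((2, 2, 2), (2, 2, 1), 1, 1)],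
  [((2, 0, 2), (0, 0, 2), 1, -1), ((2, 0, 0), (0, 2, 2), 1, 1), ((0, 1, 1), (1, 0, 0), 1, 1), ((0, 1, 0), (1, 1, 0), 1, -1), ((1, 2, 2), (2, 1, 1), 1, 1), ((1, 2, 1), (2, 2, 1), 1, -1)],
  [((2, 0, 2), (0, 0, 0), 1, 1), ((2, 0, 0), (0, 2, 0), 1, -1), ((0, 1, 2), (1, 1, 0), 1, -1), ((0, 1, 1), (1, 2, 0), 1, 1), ((1, 0, 2), (2, 1, 1), 1, -1), ((1, 0, 1), (2, 2, 1), 1, 1)],
  [((2, 0, 2), (0, 0, 1), 1, -1), ((2, 0, 0), (0, 2, 1), 1, 1), ((0, 1, 2), (1, 0, 0), 1, -1), ((0, 1, 0), (1, 2, 0), 1, 1), ((1, 1, 2), (2, 1, 1), 1, 1), ((1, 1, 1), (2, 2, 1), 1, -1)],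
  [((2, 1, 2), (0, 0, 2), 1, 1), ((2, 1, 0), (0, 2, 2), 1, -1), ((0, 1, 1), (1, 0, 1), 1, -1), ((0, 1, 0), (1, 1, 1), 1, 1), ((1, 2, 2), (2, 0, 1), 1, 1), ((1, 2, 0), (2, 2, 1), 1, -1)],
  [((2, 1, 2), (0, 0, 0), 1, -1), ((2, 1, 0), (0, 2, 0), 1, 1), ((0, 1, 2), (1, 1, 1), 1, 1), ((0, 1, 1), (1, 2, 1), 1, -1), ((1, 0, 2), (2, 0, 1), 1, -1), ((1, 0, 0), (2, 2, 1), 1, 1)],
  [((2, 1, 2), (0, 0, 1), 1, 1), ((2, 1, 0), (0, 2, 1), 1, -1), ((0, 1, 2), (1, 0, 1), 1, 1), ((0, 1, 0), (1, 2, 1), 1, -1), ((1, 1, 2), (2, 0, 1), 1, 1), ((1, 1, 0), (2, 2, 1), 1, -1)],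
  [((1, 2, 2), (0, 0, 0), 1, -1), ((1, 0, 2), (0, 0, 2), 1, 1), ((2, 1, 0), (1, 1, 0), 1, 1), ((2, 0, 0), (1, 1, 1), 1, -1), ((0, 2, 1), (2, 2, 1), 1, 1), ((0, 1, 1), (2, 2, 2), 1, -1)],
  [((1, 2, 2), (0, 0, 1), 1, 1), ((1, 1, 2), (0, 0, 2), 1, -1), ((2, 1, 0), (1, 0, 0), 1, 1), ((2, 0, 0), (1, 0, 1), 1, -1), ((0, 2, 0), (2, 2, 1), 1, 1), ((0, 1, 0), (2, 2, 2), 1, -1)],
  [((1, 1, 2), (0, 0, 0), 1, 1), ((1, 0, 2), (0, 0, 1), 1, -1), ((2, 1, 0), (1, 2, 0), 1, 1), ((2, 0, 0), (1, 2, 1), 1, -1), ((0, 2, 2), (2, 2, 1), 1, 1), ((0, 1, 2), (2, 2, 2), 1, -1)],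
  [((1, 2, 2), (0, 2, 0), 1, 1), ((1, 0, 2), (0, 2, 2), 1, -1), ((2, 1, 2), (1, 1, 0), 1, -1), ((2, 0, 2), (1, 1, 1), 1, 1), ((0, 1, 1), (2, 2, 0), 1, -1), ((0, 0, 1), (2, 2, 1), 1, 1)],
  [((1, 2, 2), (0, 2, 1), 1, -1), ((1, 1, 2), (0, 2, 2), 1, 1), ((2, 1, 2), (1, 0, 0), 1, -1), ((2, 0, 2), (1, 0, 1), 1, 1), ((0, 1, 0), (2, 2, 0), 1, -1), ((0, 0, 0), (2, 2, 1), 1, 1)],
  [((1, 1, 2), (0, 2, 0), 1, -1), ((1, 0, 2), (0, 2, 1), 1, 1), ((2, 1, 2), (1, 2, 0), 1, -1), ((2, 0, 2), (1, 2, 1), 1, 1), ((0, 1, 2), (2, 2, 0), 1, -1), ((0, 0, 2), (2, 2, 1), 1, 1)],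
  [((1, 0, 2), (1, 0, 0), 1, -1), ((1, 1, 2), (1, 1, 0), 1, -1), ((1, 2, 2), (1, 2, 0), 1, -1), ((2, 0, 0), (2, 2, 0), 1, 1), ((2, 0, 1), (2, 2, 1), 1, 1), ((2, 0, 2), (2, 2, 2), 1, 1)],
  [((1, 0, 2), (1, 0, 1), 1, 1), ((1, 1, 2), (1, 1, 1), 1, 1), ((1, 2, 2), (1, 2, 1), 1, 1), ((2, 1, 0), (2, 2, 0), 1, -1), ((2, 1, 1), (2, 2, 1), 1, -1), ((2, 1, 2), (2, 2, 2), 1, -1)]]

/-- The frame. -/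
def steps : List (Step I27) :=
[  ⟨(0, 0, 0),
    [],
    .inl none, ((0, 0, 1), 35, 36),
    [((0, 0, 0), (2, 2, 2), 54),
      ((0, 0, 0), (2, 2, 1), 68),
      ((0, 1, 0), (2, 2, 0), 68),
      ((0, 0, 0), (2, 1, 2), 9),
      ((0, 0, 0), (2, 1, 1), 23),
      ((0, 1, 0), (2, 1, 0), 23),
      ((0, 0, 0), (2, 0, 2), 12),
      ((0, 0, 0), (2, 0, 1), 31),
      ((0, 1, 0), (2, 0, 0), 31),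
      ((0, 0, 0), (1, 2, 2), 7),
      ((0, 0, 0), (1, 2, 1), 52),
      ((0, 0, 0), (1, 2, 0), 45),
      ((0, 0, 0), (1, 1, 2), 5),
      ((0, 0, 0), (1, 1, 1), 50),
      ((0, 0, 0), (1, 1, 0), 43),
      ((0, 0, 1), (1, 0, 2), 5),
      ((0, 0, 1), (1, 0, 1), 50),
      ((0, 0, 1), (1, 0, 0), 43),
      ((0, 0, 2), (0, 2, 2), 42),
      ((0, 0, 1), (0, 2, 1), 42),
      ((0, 0, 0), (0, 2, 0), 42),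
      ((0, 0, 2), (0, 1, 2), 15),
      ((0, 0, 1), (0, 1, 1), 15),
      ((0, 0, 0), (0, 1, 0), 15),
      ((0, 0, 0), (0, 0, 2), 34),
      ((0, 0, 0), (0, 0, 1), 36)],
    [((0, 0, 1), 35), ((0, 0, 2), 37), ((0, 1, 0), 56), ((0, 2, 0), 29), ((1, 1, 0), 28), ((1, 1, 1), 21), ((1, 1, 2), 66), ((1, 2, 0), 26), ((1, 2, 1), 19), ((1, 2, 2), 64), ((2, 0, 1), 40), ((2, 0, 2), 59), ((2, 1, 1), 48), ((2, 1, 2), 62), ((2, 2, 1), 3), ((2, 2, 2), 17)],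
    [((0, 1, 1), (0, 2, 2)), ((0, 1, 2), (0, 2, 1)), ((0, 2, 1), (0, 1, 2)), ((0, 2, 2), (0, 1, 1)), ((1, 0, 0), (2, 0, 0)), ((1, 0, 1), (2, 1, 0)), ((1, 0, 2), (2, 2, 0)), ((2, 0, 0), (1, 0, 0)), ((2, 1, 0), (1, 0, 1)), ((2, 2, 0), (1, 0, 2))]⟩,
  ⟨(0, 1, 1),
    [],
    .inl (some (0, 0, 0)), ((0, 1, 2), 38, 33),
    [((0, 1, 1), (2, 2, 0), 67),
      ((0, 1, 1), (2, 1, 0), 22),
      ((0, 1, 1), (2, 0, 0), 30),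
      ((0, 1, 1), (1, 0, 2), 16),
      ((0, 1, 1), (1, 0, 1), 61),
      ((0, 1, 1), (1, 0, 0), 58),
      ((0, 1, 2), (0, 2, 2), 57),
      ((0, 1, 1), (0, 2, 1), 57),
      ((0, 1, 1), (0, 1, 2), 33)],
    [((0, 0, 1), 15), ((0, 1, 0), 36), ((0, 1, 2), 38), ((0, 2, 1), 14), ((1, 0, 0), 13), ((1, 0, 1), 10), ((1, 0, 2), 55), ((1, 2, 0), 12), ((1, 2, 1), 9), ((1, 2, 2), 54), ((2, 0, 0), 41), ((2, 0, 2), 45), ((2, 1, 0), 49), ((2, 1, 2), 52), ((2, 2, 0), 4), ((2, 2, 2), 7)],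
    [((0, 0, 0), (0, 2, 2)), ((0, 0, 2), (0, 2, 0)), ((0, 2, 0), (0, 0, 2)), ((0, 2, 2), (0, 0, 0)), ((1, 1, 0), (2, 0, 1)), ((1, 1, 1), (2, 1, 1)), ((1, 1, 2), (2, 2, 1)), ((2, 0, 1), (1, 1, 0)), ((2, 1, 1), (1, 1, 1)), ((2, 2, 1), (1, 1, 2))]⟩,
  ⟨(0, 2, 2),
    [],
    .inr ((0, 1, 1), (0, 0, 0)), ((0, 2, 2), 0, 0),
    [],
    [((0, 0, 2), 42), ((0, 1, 2), 57), ((0, 2, 0), 34), ((0, 2, 1), 33), ((1, 0, 0), 30), ((1, 0, 1), 22), ((1, 0, 2), 67), ((1, 1, 0), 31), ((1, 1, 1), 23), ((1, 1, 2), 68), ((2, 0, 0), 58), ((2, 0, 1), 43), ((2, 1, 0), 61), ((2, 1, 1), 50), ((2, 2, 0), 16), ((2, 2, 1), 5)],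
    [((0, 0, 0), (0, 1, 1)), ((0, 0, 1), (0, 1, 0)), ((0, 1, 0), (0, 0, 1)), ((0, 1, 1), (0, 0, 0)), ((1, 2, 0), (2, 0, 2)), ((1, 2, 1), (2, 1, 2)), ((1, 2, 2), (2, 2, 2)), ((2, 0, 2), (1, 2, 0)), ((2, 1, 2), (1, 2, 1)), ((2, 2, 2), (1, 2, 2))]⟩,
  ⟨(0, 0, 1),
    [((0, 0, 0), (0, 1, 1), (0, 2, 2)),
      ((0, 0, 2), (0, 1, 1), (0, 2, 0)),
      ((0, 1, 1), (0, 0, 0), (0, 2, 2)),
      ((0, 1, 2), (0, 0, 0), (0, 2, 1)),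
      ((0, 2, 0), (0, 1, 1), (0, 0, 2)),
      ((0, 2, 1), (0, 0, 0), (0, 1, 2)),
      ((0, 2, 2), (0, 0, 0), (0, 1, 1)),
      ((1, 0, 0), (0, 0, 0), (2, 0, 0)),
      ((1, 0, 1), (0, 0, 0), (2, 1, 0)),
      ((1, 0, 2), (0, 0, 0), (2, 2, 0)),
      ((1, 1, 0), (0, 1, 1), (2, 0, 1)),
      ((1, 1, 1), (0, 1, 1), (2, 1, 1)),
      ((1, 1, 2), (0, 1, 1), (2, 2, 1)),
      ((2, 0, 0), (0, 0, 0), (1, 0, 0)),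
      ((2, 0, 1), (0, 1, 1), (1, 1, 0)),
      ((2, 1, 0), (0, 0, 0), (1, 0, 1)),
      ((2, 1, 1), (0, 1, 1), (1, 1, 1)),
      ((2, 2, 0), (0, 0, 0), (1, 0, 2)),
      ((2, 2, 1), (0, 1, 1), (1, 1, 2))],
    .inl none, ((1, 2, 0), 27, 44),
    [((0, 0, 1), (2, 2, 2), 53),
      ((0, 0, 1), (2, 1, 2), 8),
      ((0, 0, 1), (2, 0, 2), 11),
      ((0, 0, 1), (1, 2, 2), 6),
      ((0, 0, 1), (1, 2, 1), 51),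
      ((1, 2, 0), (0, 1, 0), 11),
      ((0, 0, 1), (1, 2, 0), 44)],
    [((1, 2, 0), 27), ((1, 2, 1), 20), ((1, 2, 2), 65), ((2, 0, 2), 60), ((2, 1, 2), 63), ((2, 2, 2), 18)],
    [((0, 1, 0), (0, 2, 2))]⟩,
  ⟨(0, 1, 0),
    [((0, 0, 0), (0, 1, 1), (0, 2, 2)),
      ((0, 0, 2), (0, 1, 1), (0, 2, 0)),
      ((0, 1, 1), (0, 0, 0), (0, 2, 2)),
      ((0, 1, 2), (0, 0, 0), (0, 2, 1)),
      ((0, 2, 0), (0, 1, 1), (0, 0, 2)),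
      ((0, 2, 1), (0, 0, 0), (0, 1, 2)),
      ((0, 2, 2), (0, 0, 0), (0, 1, 1)),
      ((1, 0, 0), (0, 0, 0), (2, 0, 0)),
      ((1, 0, 1), (0, 0, 0), (2, 1, 0)),
      ((1, 0, 2), (0, 0, 0), (2, 2, 0)),
      ((1, 1, 0), (0, 1, 1), (2, 0, 1)),
      ((1, 1, 1), (0, 1, 1), (2, 1, 1)),
      ((1, 1, 2), (0, 1, 1), (2, 2, 1)),
      ((2, 0, 0), (0, 0, 0), (1, 0, 0)),
      ((2, 0, 1), (0, 1, 1), (1, 1, 0)),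
      ((2, 1, 0), (0, 0, 0), (1, 0, 1)),
      ((2, 1, 1), (0, 1, 1), (1, 1, 1)),
      ((2, 2, 0), (0, 0, 0), (1, 0, 2)),
      ((2, 2, 1), (0, 1, 1), (1, 1, 2))],
    .inr ((0, 0, 1), (0, 2, 2)), ((0, 1, 0), 0, 0),
    [],
    [((1, 2, 0), 11), ((1, 2, 1), 8), ((1, 2, 2), 53), ((2, 0, 2), 44), ((2, 1, 2), 51), ((2, 2, 2), 6)],
    [((0, 0, 1), (0, 2, 2))]⟩,
  ⟨(0, 0, 2),
    [((0, 0, 0), (0, 1, 1), (0, 2, 2)),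
      ((0, 0, 1), (0, 2, 2), (0, 1, 0)),
      ((0, 1, 0), (0, 2, 2), (0, 0, 1)),
      ((0, 1, 1), (0, 0, 0), (0, 2, 2)),
      ((0, 1, 2), (0, 0, 0), (0, 2, 1)),
      ((0, 2, 0), (0, 0, 1), (0, 1, 2)),
      ((0, 2, 1), (0, 0, 0), (0, 1, 2)),
      ((0, 2, 2), (0, 0, 0), (0, 1, 1)),
      ((1, 0, 0), (0, 0, 0), (2, 0, 0)),
      ((1, 0, 1), (0, 0, 0), (2, 1, 0)),
      ((1, 0, 2), (0, 0, 0), (2, 2, 0)),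
      ((1, 1, 0), (0, 0, 1), (2, 0, 0)),
      ((1, 1, 1), (0, 0, 1), (2, 1, 0)),
      ((1, 1, 2), (0, 0, 1), (2, 2, 0)),
      ((1, 2, 0), (0, 2, 2), (2, 0, 2)),
      ((1, 2, 1), (0, 2, 2), (2, 1, 2)),
      ((1, 2, 2), (0, 2, 2), (2, 2, 2)),
      ((2, 0, 0), (0, 0, 0), (1, 0, 0)),
      ((2, 0, 2), (0, 2, 2), (1, 2, 0)),
      ((2, 1, 0), (0, 0, 0), (1, 0, 1)),
      ((2, 1, 2), (0, 2, 2), (1, 2, 1)),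
      ((2, 2, 0), (0, 0, 0), (1, 0, 2)),
      ((2, 2, 2), (0, 2, 2), (1, 2, 2))],
    .inl none, ((2, 2, 1), 2, 69),
    [((0, 0, 2), (2, 2, 1), 69),
      ((0, 0, 2), (2, 1, 1), 24),
      ((0, 0, 2), (2, 0, 1), 32)],
    [((2, 0, 1), 39), ((2, 1, 1), 47), ((2, 2, 1), 2)],
    []⟩,
  ⟨(0, 2, 0),
    [((0, 0, 0), (0, 1, 1), (0, 2, 2)),
      ((0, 0, 1), (0, 2, 2), (0, 1, 0)),
      ((0, 0, 2), (0, 1, 0), (0, 2, 1)),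
      ((0, 1, 0), (0, 2, 2), (0, 0, 1)),
      ((0, 1, 1), (0, 0, 0), (0, 2, 2)),
      ((0, 1, 2), (0, 0, 0), (0, 2, 1)),
      ((0, 2, 1), (0, 0, 0), (0, 1, 2)),
      ((0, 2, 2), (0, 0, 0), (0, 1, 1)),
      ((1, 0, 0), (0, 0, 0), (2, 0, 0)),
      ((1, 0, 1), (0, 0, 0), (2, 1, 0)),
      ((1, 0, 2), (0, 0, 0), (2, 2, 0)),
      ((1, 2, 0), (0, 2, 2), (2, 0, 2)),
      ((1, 2, 1), (0, 2, 2), (2, 1, 2)),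
      ((1, 2, 2), (0, 2, 2), (2, 2, 2)),
      ((2, 0, 0), (0, 0, 0), (1, 0, 0)),
      ((2, 0, 1), (0, 1, 0), (1, 0, 0)),
      ((2, 0, 2), (0, 2, 2), (1, 2, 0)),
      ((2, 1, 0), (0, 0, 0), (1, 0, 1)),
      ((2, 1, 1), (0, 1, 0), (1, 0, 1)),
      ((2, 1, 2), (0, 2, 2), (1, 2, 1)),
      ((2, 2, 0), (0, 0, 0), (1, 0, 2)),
      ((2, 2, 1), (0, 1, 0), (1, 0, 2)),
      ((2, 2, 2), (0, 2, 2), (1, 2, 2))],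
    .inr ((0, 0, 2), (0, 1, 1)), ((0, 2, 0), 0, 0),
    [],
    [((1, 1, 0), 32), ((1, 1, 1), 24), ((1, 1, 2), 69)],
    []⟩,
  ⟨(0, 1, 2),
    [((0, 0, 0), (0, 1, 1), (0, 2, 2)),
      ((0, 0, 1), (0, 2, 2), (0, 1, 0)),
      ((0, 0, 2), (0, 1, 1), (0, 2, 0)),
      ((0, 1, 0), (0, 2, 2), (0, 0, 1)),
      ((0, 1, 1), (0, 0, 0), (0, 2, 2)),
      ((0, 2, 0), (0, 1, 1), (0, 0, 2)),
      ((0, 2, 1), (0, 1, 0), (0, 0, 2)),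
      ((0, 2, 2), (0, 0, 0), (0, 1, 1)),
      ((1, 0, 0), (0, 1, 0), (2, 0, 1)),
      ((1, 0, 1), (0, 1, 0), (2, 1, 1)),
      ((1, 0, 2), (0, 1, 0), (2, 2, 1)),
      ((1, 1, 0), (0, 1, 1), (2, 0, 1)),
      ((1, 1, 1), (0, 1, 1), (2, 1, 1)),
      ((1, 1, 2), (0, 1, 1), (2, 2, 1)),
      ((1, 2, 0), (0, 2, 2), (2, 0, 2)),
      ((1, 2, 1), (0, 2, 2), (2, 1, 2)),
      ((1, 2, 2), (0, 2, 2), (2, 2, 2)),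
      ((2, 0, 0), (0, 0, 2), (1, 2, 0)),
      ((2, 0, 1), (0, 1, 1), (1, 1, 0)),
      ((2, 0, 2), (0, 2, 2), (1, 2, 0)),
      ((2, 1, 0), (0, 0, 2), (1, 2, 1)),
      ((2, 1, 1), (0, 1, 1), (1, 1, 1)),
      ((2, 1, 2), (0, 2, 2), (1, 2, 1)),
      ((2, 2, 0), (0, 0, 2), (1, 2, 2)),
      ((2, 2, 1), (0, 1, 1), (1, 1, 2)),
      ((2, 2, 2), (0, 2, 2), (1, 2, 2))],
    .inr ((0, 2, 0), (0, 0, 1)), ((0, 1, 2), 0, 0),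
    [],
    [],
    []⟩,
  ⟨(0, 2, 1),
    [((0, 0, 0), (0, 1, 1), (0, 2, 2)),
      ((0, 0, 1), (0, 2, 2), (0, 1, 0)),
      ((0, 0, 2), (0, 1, 1), (0, 2, 0)),
      ((0, 1, 0), (0, 2, 2), (0, 0, 1)),
      ((0, 1, 1), (0, 0, 0), (0, 2, 2)),
      ((0, 1, 2), (0, 0, 1), (0, 2, 0)),
      ((0, 2, 0), (0, 1, 1), (0, 0, 2)),
      ((0, 2, 2), (0, 0, 0), (0, 1, 1)),
      ((1, 0, 0), (0, 2, 0), (2, 0, 2)),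
      ((1, 0, 1), (0, 2, 0), (2, 1, 2)),
      ((1, 0, 2), (0, 2, 0), (2, 2, 2)),
      ((1, 1, 0), (0, 1, 1), (2, 0, 1)),
      ((1, 1, 1), (0, 1, 1), (2, 1, 1)),
      ((1, 1, 2), (0, 1, 1), (2, 2, 1)),
      ((1, 2, 0), (0, 2, 2), (2, 0, 2)),
      ((1, 2, 1), (0, 2, 2), (2, 1, 2)),
      ((1, 2, 2), (0, 2, 2), (2, 2, 2)),
      ((2, 0, 0), (0, 0, 1), (1, 1, 0)),
      ((2, 0, 1), (0, 1, 1), (1, 1, 0)),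
      ((2, 0, 2), (0, 2, 2), (1, 2, 0)),
      ((2, 1, 0), (0, 0, 1), (1, 1, 1)),
      ((2, 1, 1), (0, 1, 1), (1, 1, 1)),
      ((2, 1, 2), (0, 2, 2), (1, 2, 1)),
      ((2, 2, 0), (0, 0, 1), (1, 1, 2)),
      ((2, 2, 1), (0, 1, 1), (1, 1, 2)),
      ((2, 2, 2), (0, 2, 2), (1, 2, 2))],
    .inr ((0, 1, 2), (0, 0, 0)), ((0, 2, 1), 0, 0),
    [],
    [],
    []⟩,
  ⟨(1, 0, 0),
    [((0, 0, 0), (0, 1, 1), (0, 2, 2)),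
      ((0, 0, 1), (0, 2, 2), (0, 1, 0)),
      ((0, 0, 2), (0, 1, 1), (0, 2, 0)),
      ((0, 1, 0), (0, 2, 2), (0, 0, 1)),
      ((0, 1, 1), (0, 0, 0), (0, 2, 2)),
      ((0, 1, 2), (0, 0, 0), (0, 2, 1)),
      ((0, 2, 0), (0, 1, 1), (0, 0, 2)),
      ((0, 2, 1), (0, 0, 0), (0, 1, 2)),
      ((0, 2, 2), (0, 0, 0), (0, 1, 1)),
      ((1, 1, 0), (0, 1, 1), (2, 0, 1)),
      ((1, 1, 1), (0, 1, 1), (2, 1, 1)),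
      ((1, 1, 2), (0, 1, 1), (2, 2, 1)),
      ((1, 2, 0), (0, 2, 2), (2, 0, 2)),
      ((1, 2, 1), (0, 2, 2), (2, 1, 2)),
      ((1, 2, 2), (0, 2, 2), (2, 2, 2)),
      ((2, 0, 0), (0, 0, 1), (1, 1, 0)),
      ((2, 0, 1), (0, 1, 1), (1, 1, 0)),
      ((2, 0, 2), (0, 2, 2), (1, 2, 0)),
      ((2, 1, 0), (0, 0, 1), (1, 1, 1)),
      ((2, 1, 1), (0, 1, 1), (1, 1, 1)),
      ((2, 1, 2), (0, 2, 2), (1, 2, 1)),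
      ((2, 2, 0), (0, 0, 1), (1, 1, 2)),
      ((2, 2, 1), (0, 1, 1), (1, 1, 2)),
      ((2, 2, 2), (0, 2, 2), (1, 2, 2))],
    .inl none, ((1, 0, 1), 25, 46),
    [((1, 0, 0), (1, 0, 2), 1),
      ((1, 0, 0), (1, 0, 1), 46)],
    [((1, 0, 1), 25), ((1, 0, 2), 70)],
    []⟩,
  ⟨(2, 0, 0),
    [((0, 0, 0), (0, 1, 1), (0, 2, 2)),
      ((0, 0, 1), (0, 2, 2), (0, 1, 0)),
      ((0, 0, 2), (0, 1, 1), (0, 2, 0)),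
      ((0, 1, 0), (0, 2, 2), (0, 0, 1)),
      ((0, 1, 1), (0, 0, 0), (0, 2, 2)),
      ((0, 1, 2), (0, 0, 0), (0, 2, 1)),
      ((0, 2, 0), (0, 1, 1), (0, 0, 2)),
      ((0, 2, 1), (0, 0, 0), (0, 1, 2)),
      ((0, 2, 2), (0, 0, 0), (0, 1, 1)),
      ((1, 0, 0), (0, 1, 0), (2, 0, 1)),
      ((1, 0, 1), (0, 1, 0), (2, 1, 1)),
      ((1, 0, 2), (0, 1, 0), (2, 2, 1)),
      ((1, 1, 0), (0, 1, 1), (2, 0, 1)),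
      ((1, 1, 1), (0, 1, 1), (2, 1, 1)),
      ((1, 1, 2), (0, 1, 1), (2, 2, 1)),
      ((1, 2, 0), (0, 2, 2), (2, 0, 2)),
      ((1, 2, 1), (0, 2, 2), (2, 1, 2)),
      ((1, 2, 2), (0, 2, 2), (2, 2, 2)),
      ((2, 0, 1), (0, 1, 1), (1, 1, 0)),
      ((2, 0, 2), (0, 2, 2), (1, 2, 0)),
      ((2, 1, 1), (0, 1, 1), (1, 1, 1)),
      ((2, 1, 2), (0, 2, 2), (1, 2, 1)),
      ((2, 2, 1), (0, 1, 1), (1, 1, 2)),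
      ((2, 2, 2), (0, 2, 2), (1, 2, 2))],
    .inr ((1, 0, 0), (0, 0, 0)), ((2, 0, 0), 0, 0),
    [],
    [((2, 1, 0), 46), ((2, 2, 0), 1)],
    []⟩,
  ⟨(1, 1, 0),
    [((0, 0, 0), (0, 1, 1), (0, 2, 2)),
      ((0, 0, 1), (0, 2, 2), (0, 1, 0)),
      ((0, 0, 2), (0, 1, 1), (0, 2, 0)),
      ((0, 1, 0), (0, 2, 2), (0, 0, 1)),
      ((0, 1, 1), (0, 0, 0), (0, 2, 2)),
      ((0, 1, 2), (0, 0, 0), (0, 2, 1)),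
      ((0, 2, 0), (0, 1, 1), (0, 0, 2)),
      ((0, 2, 1), (0, 0, 0), (0, 1, 2)),
      ((0, 2, 2), (0, 0, 0), (0, 1, 1)),
      ((1, 0, 0), (0, 0, 0), (2, 0, 0)),
      ((1, 0, 1), (0, 0, 0), (2, 1, 0)),
      ((1, 0, 2), (0, 0, 0), (2, 2, 0)),
      ((1, 1, 1), (1, 0, 0), (1, 2, 2)),
      ((1, 1, 2), (1, 0, 0), (1, 2, 1)),
      ((1, 2, 0), (0, 2, 2), (2, 0, 2)),
      ((1, 2, 1), (0, 2, 2), (2, 1, 2)),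
      ((1, 2, 2), (0, 2, 2), (2, 2, 2)),
      ((2, 0, 0), (0, 0, 0), (1, 0, 0)),
      ((2, 0, 1), (0, 1, 0), (1, 0, 0)),
      ((2, 0, 2), (0, 2, 2), (1, 2, 0)),
      ((2, 1, 0), (0, 0, 0), (1, 0, 1)),
      ((2, 1, 1), (0, 1, 0), (1, 0, 1)),
      ((2, 1, 2), (0, 2, 2), (1, 2, 1)),
      ((2, 2, 0), (0, 0, 0), (1, 0, 2)),
      ((2, 2, 1), (0, 1, 0), (1, 0, 2)),
      ((2, 2, 2), (0, 2, 2), (1, 2, 2))],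
    .inr ((2, 0, 0), (0, 0, 1)), ((1, 1, 0), 0, 0),
    [],
    [],
    []⟩,
  ⟨(1, 2, 0),
    [((0, 0, 0), (0, 1, 1), (0, 2, 2)),
      ((0, 0, 1), (0, 2, 2), (0, 1, 0)),
      ((0, 0, 2), (0, 1, 1), (0, 2, 0)),
      ((0, 1, 0), (0, 2, 2), (0, 0, 1)),
      ((0, 1, 1), (0, 0, 0), (0, 2, 2)),
      ((0, 1, 2), (0, 0, 0), (0, 2, 1)),
      ((0, 2, 0), (0, 1, 1), (0, 0, 2)),
      ((0, 2, 1), (0, 0, 0), (0, 1, 2)),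
      ((0, 2, 2), (0, 0, 0), (0, 1, 1)),
      ((1, 0, 0), (0, 0, 0), (2, 0, 0)),
      ((1, 0, 1), (0, 0, 0), (2, 1, 0)),
      ((1, 0, 2), (0, 0, 0), (2, 2, 0)),
      ((1, 1, 0), (0, 1, 1), (2, 0, 1)),
      ((1, 1, 1), (0, 1, 1), (2, 1, 1)),
      ((1, 1, 2), (0, 1, 1), (2, 2, 1)),
      ((1, 2, 1), (1, 0, 0), (1, 1, 2)),
      ((1, 2, 2), (1, 0, 0), (1, 1, 1)),
      ((2, 0, 0), (0, 0, 0), (1, 0, 0)),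
      ((2, 0, 1), (0, 1, 1), (1, 1, 0)),
      ((2, 0, 2), (0, 2, 0), (1, 0, 0)),
      ((2, 1, 0), (0, 0, 0), (1, 0, 1)),
      ((2, 1, 1), (0, 1, 1), (1, 1, 1)),
      ((2, 1, 2), (0, 2, 0), (1, 0, 1)),
      ((2, 2, 0), (0, 0, 0), (1, 0, 2)),
      ((2, 2, 1), (0, 1, 1), (1, 1, 2)),
      ((2, 2, 2), (0, 2, 0), (1, 0, 2))],
    .inr ((2, 0, 0), (0, 0, 2)), ((1, 2, 0), 0, 0),
    [],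
    [],
    []⟩,
  ⟨(2, 0, 1),
    [((0, 0, 0), (0, 1, 1), (0, 2, 2)),
      ((0, 0, 1), (0, 2, 2), (0, 1, 0)),
      ((0, 0, 2), (0, 1, 1), (0, 2, 0)),
      ((0, 1, 0), (0, 2, 2), (0, 0, 1)),
      ((0, 1, 1), (0, 0, 0), (0, 2, 2)),
      ((0, 1, 2), (0, 0, 0), (0, 2, 1)),
      ((0, 2, 0), (0, 1, 1), (0, 0, 2)),
      ((0, 2, 1), (0, 0, 0), (0, 1, 2)),
      ((0, 2, 2), (0, 0, 0), (0, 1, 1)),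
      ((1, 0, 0), (0, 0, 0), (2, 0, 0)),
      ((1, 0, 1), (0, 0, 0), (2, 1, 0)),
      ((1, 0, 2), (0, 0, 0), (2, 2, 0)),
      ((1, 1, 0), (0, 0, 1), (2, 0, 0)),
      ((1, 1, 1), (0, 0, 1), (2, 1, 0)),
      ((1, 1, 2), (0, 0, 1), (2, 2, 0)),
      ((1, 2, 0), (0, 2, 2), (2, 0, 2)),
      ((1, 2, 1), (0, 2, 2), (2, 1, 2)),
      ((1, 2, 2), (0, 2, 2), (2, 2, 2)),
      ((2, 0, 0), (0, 0, 0), (1, 0, 0)),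
      ((2, 0, 2), (0, 2, 2), (1, 2, 0)),
      ((2, 1, 0), (0, 0, 0), (1, 0, 1)),
      ((2, 1, 1), (2, 0, 0), (2, 2, 2)),
      ((2, 1, 2), (0, 2, 2), (1, 2, 1)),
      ((2, 2, 0), (0, 0, 0), (1, 0, 2)),
      ((2, 2, 1), (2, 0, 0), (2, 1, 2)),
      ((2, 2, 2), (0, 2, 2), (1, 2, 2))],
    .inr ((1, 2, 0), (0, 1, 2)), ((2, 0, 1), 0, 0),
    [],
    [],
    []⟩,
  ⟨(2, 0, 2),
    [((0, 0, 0), (0, 1, 1), (0, 2, 2)),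
      ((0, 0, 1), (0, 2, 2), (0, 1, 0)),
      ((0, 0, 2), (0, 1, 1), (0, 2, 0)),
      ((0, 1, 0), (0, 2, 2), (0, 0, 1)),
      ((0, 1, 1), (0, 0, 0), (0, 2, 2)),
      ((0, 1, 2), (0, 0, 0), (0, 2, 1)),
      ((0, 2, 0), (0, 1, 1), (0, 0, 2)),
      ((0, 2, 1), (0, 0, 0), (0, 1, 2)),
      ((0, 2, 2), (0, 0, 0), (0, 1, 1)),
      ((1, 0, 0), (0, 0, 0), (2, 0, 0)),
      ((1, 0, 1), (0, 0, 0), (2, 1, 0)),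
      ((1, 0, 2), (0, 0, 0), (2, 2, 0)),
      ((1, 1, 0), (0, 1, 1), (2, 0, 1)),
      ((1, 1, 1), (0, 1, 1), (2, 1, 1)),
      ((1, 1, 2), (0, 1, 1), (2, 2, 1)),
      ((1, 2, 0), (0, 0, 2), (2, 0, 0)),
      ((1, 2, 1), (0, 0, 2), (2, 1, 0)),
      ((1, 2, 2), (0, 0, 2), (2, 2, 0)),
      ((2, 0, 0), (0, 0, 0), (1, 0, 0)),
      ((2, 0, 1), (0, 1, 1), (1, 1, 0)),
      ((2, 1, 0), (0, 0, 0), (1, 0, 1)),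
      ((2, 1, 1), (0, 1, 1), (1, 1, 1)),
      ((2, 1, 2), (2, 0, 0), (2, 2, 1)),
      ((2, 2, 0), (0, 0, 0), (1, 0, 2)),
      ((2, 2, 1), (0, 1, 1), (1, 1, 2)),
      ((2, 2, 2), (2, 0, 0), (2, 1, 1))],
    .inr ((1, 2, 0), (0, 2, 2)), ((2, 0, 2), 0, 0),
    [],
    [],
    []⟩,
  ⟨(1, 0, 1),
    [((0, 0, 0), (0, 1, 1), (0, 2, 2)),
      ((0, 0, 1), (0, 2, 2), (0, 1, 0)),
      ((0, 0, 2), (0, 1, 1), (0, 2, 0)),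
      ((0, 1, 0), (0, 2, 2), (0, 0, 1)),
      ((0, 1, 1), (0, 0, 0), (0, 2, 2)),
      ((0, 1, 2), (0, 0, 0), (0, 2, 1)),
      ((0, 2, 0), (0, 1, 1), (0, 0, 2)),
      ((0, 2, 1), (0, 0, 0), (0, 1, 2)),
      ((0, 2, 2), (0, 0, 0), (0, 1, 1)),
      ((1, 0, 0), (0, 0, 0), (2, 0, 0)),
      ((1, 1, 0), (0, 1, 1), (2, 0, 1)),
      ((1, 1, 1), (0, 1, 1), (2, 1, 1)),
      ((1, 1, 2), (0, 1, 1), (2, 2, 1)),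
      ((1, 2, 0), (0, 2, 2), (2, 0, 2)),
      ((1, 2, 1), (0, 2, 2), (2, 1, 2)),
      ((1, 2, 2), (0, 2, 2), (2, 2, 2)),
      ((2, 0, 0), (0, 0, 0), (1, 0, 0)),
      ((2, 0, 1), (0, 1, 1), (1, 1, 0)),
      ((2, 0, 2), (0, 2, 2), (1, 2, 0)),
      ((2, 1, 0), (0, 0, 1), (1, 1, 1)),
      ((2, 1, 1), (0, 1, 1), (1, 1, 1)),
      ((2, 1, 2), (0, 2, 2), (1, 2, 1)),
      ((2, 2, 0), (0, 0, 1), (1, 1, 2)),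
      ((2, 2, 1), (0, 1, 1), (1, 1, 2)),
      ((2, 2, 2), (0, 2, 2), (1, 2, 2))],
    .inl none, ((1, 0, 2), 71, 0),
    [((1, 0, 1), (1, 0, 2), 0)],
    [((1, 0, 2), 71)],
    []⟩,
  ⟨(1, 1, 2),
    [((0, 0, 0), (0, 1, 1), (0, 2, 2)),
      ((0, 0, 1), (0, 2, 2), (0, 1, 0)),
      ((0, 0, 2), (0, 1, 1), (0, 2, 0)),
      ((0, 1, 0), (0, 2, 2), (0, 0, 1)),
      ((0, 1, 1), (0, 0, 0), (0, 2, 2)),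
      ((0, 1, 2), (0, 0, 0), (0, 2, 1)),
      ((0, 2, 0), (0, 1, 1), (0, 0, 2)),
      ((0, 2, 1), (0, 0, 0), (0, 1, 2)),
      ((0, 2, 2), (0, 0, 0), (0, 1, 1)),
      ((1, 0, 0), (0, 0, 0), (2, 0, 0)),
      ((1, 0, 1), (0, 0, 0), (2, 1, 0)),
      ((1, 0, 2), (0, 0, 0), (2, 2, 0)),
      ((1, 1, 0), (0, 1, 1), (2, 0, 1)),
      ((1, 2, 0), (0, 2, 2), (2, 0, 2)),
      ((1, 2, 1), (0, 2, 2), (2, 1, 2)),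
      ((1, 2, 2), (0, 2, 2), (2, 2, 2)),
      ((2, 0, 0), (0, 0, 0), (1, 0, 0)),
      ((2, 0, 1), (0, 1, 1), (1, 1, 0)),
      ((2, 0, 2), (0, 2, 2), (1, 2, 0)),
      ((2, 1, 0), (0, 0, 0), (1, 0, 1)),
      ((2, 1, 1), (0, 1, 0), (1, 0, 1)),
      ((2, 1, 2), (0, 2, 2), (1, 2, 1)),
      ((2, 2, 0), (0, 0, 0), (1, 0, 2)),
      ((2, 2, 1), (0, 1, 0), (1, 0, 2)),
      ((2, 2, 2), (0, 2, 2), (1, 2, 2))],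
    .inr ((1, 0, 1), (1, 2, 0)), ((1, 1, 2), 0, 0),
    [],
    [((1, 1, 1), 0)],
    []⟩,
  ⟨(1, 2, 1),
    [((0, 0, 0), (0, 1, 1), (0, 2, 2)),
      ((0, 0, 1), (0, 2, 2), (0, 1, 0)),
      ((0, 0, 2), (0, 1, 1), (0, 2, 0)),
      ((0, 1, 0), (0, 2, 2), (0, 0, 1)),
      ((0, 1, 1), (0, 0, 0), (0, 2, 2)),
      ((0, 1, 2), (0, 0, 0), (0, 2, 1)),
      ((0, 2, 0), (0, 1, 1), (0, 0, 2)),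
      ((0, 2, 1), (0, 0, 0), (0, 1, 2)),
      ((0, 2, 2), (0, 0, 0), (0, 1, 1)),
      ((1, 0, 0), (0, 0, 0), (2, 0, 0)),
      ((1, 0, 1), (0, 0, 0), (2, 1, 0)),
      ((1, 0, 2), (0, 0, 0), (2, 2, 0)),
      ((1, 1, 0), (0, 1, 1), (2, 0, 1)),
      ((1, 1, 1), (0, 1, 1), (2, 1, 1)),
      ((1, 1, 2), (0, 1, 1), (2, 2, 1)),
      ((1, 2, 0), (0, 2, 2), (2, 0, 2)),
      ((1, 2, 2), (1, 1, 0), (1, 0, 1)),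
      ((2, 0, 0), (0, 0, 0), (1, 0, 0)),
      ((2, 0, 1), (0, 1, 1), (1, 1, 0)),
      ((2, 0, 2), (0, 2, 2), (1, 2, 0)),
      ((2, 1, 0), (0, 0, 0), (1, 0, 1)),
      ((2, 1, 1), (0, 1, 1), (1, 1, 1)),
      ((2, 1, 2), (0, 2, 0), (1, 0, 1)),
      ((2, 2, 0), (0, 0, 0), (1, 0, 2)),
      ((2, 2, 1), (0, 1, 1), (1, 1, 2)),
      ((2, 2, 2), (0, 2, 0), (1, 0, 2))],
    .inr ((1, 1, 2), (1, 0, 0)), ((1, 2, 1), 0, 0),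
    [],
    [],
    []⟩,
  ⟨(1, 0, 2),
    [((0, 0, 0), (0, 1, 1), (0, 2, 2)),
      ((0, 0, 1), (0, 2, 2), (0, 1, 0)),
      ((0, 0, 2), (0, 1, 1), (0, 2, 0)),
      ((0, 1, 0), (0, 2, 2), (0, 0, 1)),
      ((0, 1, 1), (0, 0, 0), (0, 2, 2)),
      ((0, 1, 2), (0, 0, 0), (0, 2, 1)),
      ((0, 2, 0), (0, 1, 1), (0, 0, 2)),
      ((0, 2, 1), (0, 0, 0), (0, 1, 2)),
      ((0, 2, 2), (0, 0, 0), (0, 1, 1)),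
      ((1, 0, 0), (0, 0, 0), (2, 0, 0)),
      ((1, 0, 1), (1, 2, 0), (1, 1, 2)),
      ((1, 1, 0), (0, 1, 1), (2, 0, 1)),
      ((1, 1, 1), (0, 1, 1), (2, 1, 1)),
      ((1, 1, 2), (0, 1, 1), (2, 2, 1)),
      ((1, 2, 0), (0, 2, 2), (2, 0, 2)),
      ((1, 2, 1), (0, 2, 2), (2, 1, 2)),
      ((1, 2, 2), (0, 2, 2), (2, 2, 2)),
      ((2, 0, 0), (0, 0, 0), (1, 0, 0)),
      ((2, 0, 1), (0, 1, 1), (1, 1, 0)),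
      ((2, 0, 2), (0, 2, 2), (1, 2, 0)),
      ((2, 1, 0), (0, 0, 0), (1, 0, 1)),
      ((2, 1, 1), (0, 1, 1), (1, 1, 1)),
      ((2, 1, 2), (0, 2, 2), (1, 2, 1)),
      ((2, 2, 0), (0, 0, 1), (1, 1, 2)),
      ((2, 2, 1), (0, 1, 1), (1, 1, 2)),
      ((2, 2, 2), (0, 2, 2), (1, 2, 2))],
    .inr ((1, 2, 1), (1, 1, 0)), ((1, 0, 2), 0, 0),
    [],
    [],
    []⟩,
  ⟨(1, 1, 1),
    [((0, 0, 0), (0, 1, 1), (0, 2, 2)),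
      ((0, 0, 1), (0, 2, 2), (0, 1, 0)),
      ((0, 0, 2), (0, 1, 1), (0, 2, 0)),
      ((0, 1, 0), (0, 2, 2), (0, 0, 1)),
      ((0, 1, 1), (0, 0, 0), (0, 2, 2)),
      ((0, 1, 2), (0, 0, 0), (0, 2, 1)),
      ((0, 2, 0), (0, 1, 1), (0, 0, 2)),
      ((0, 2, 1), (0, 0, 0), (0, 1, 2)),
      ((0, 2, 2), (0, 0, 0), (0, 1, 1)),
      ((1, 0, 0), (0, 0, 0), (2, 0, 0)),
      ((1, 0, 1), (0, 0, 0), (2, 1, 0)),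
      ((1, 0, 2), (0, 0, 0), (2, 2, 0)),
      ((1, 1, 0), (0, 1, 1), (2, 0, 1)),
      ((1, 1, 2), (1, 0, 0), (1, 2, 1)),
      ((1, 2, 0), (0, 2, 2), (2, 0, 2)),
      ((1, 2, 1), (0, 2, 2), (2, 1, 2)),
      ((1, 2, 2), (0, 2, 2), (2, 2, 2)),
      ((2, 0, 0), (0, 0, 0), (1, 0, 0)),
      ((2, 0, 1), (0, 1, 1), (1, 1, 0)),
      ((2, 0, 2), (0, 2, 2), (1, 2, 0)),
      ((2, 1, 0), (0, 0, 0), (1, 0, 1)),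
      ((2, 1, 1), (0, 1, 0), (1, 0, 1)),
      ((2, 1, 2), (0, 2, 2), (1, 2, 1)),
      ((2, 2, 0), (0, 0, 0), (1, 0, 2)),
      ((2, 2, 1), (0, 1, 1), (1, 1, 2)),
      ((2, 2, 2), (0, 2, 2), (1, 2, 2))],
    .inr ((1, 0, 2), (1, 2, 0)), ((1, 1, 1), 0, 0),
    [],
    [],
    []⟩,
  ⟨(1, 2, 2),
    [((0, 0, 0), (0, 1, 1), (0, 2, 2)),
      ((0, 0, 1), (0, 2, 2), (0, 1, 0)),
      ((0, 0, 2), (0, 1, 1), (0, 2, 0)),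
      ((0, 1, 0), (0, 2, 2), (0, 0, 1)),
      ((0, 1, 1), (0, 0, 0), (0, 2, 2)),
      ((0, 1, 2), (0, 0, 0), (0, 2, 1)),
      ((0, 2, 0), (0, 1, 1), (0, 0, 2)),
      ((0, 2, 1), (0, 0, 0), (0, 1, 2)),
      ((0, 2, 2), (0, 0, 0), (0, 1, 1)),
      ((1, 0, 0), (0, 0, 0), (2, 0, 0)),
      ((1, 0, 1), (0, 0, 0), (2, 1, 0)),
      ((1, 0, 2), (0, 0, 0), (2, 2, 0)),
      ((1, 1, 0), (0, 1, 1), (2, 0, 1)),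
      ((1, 1, 1), (0, 1, 1), (2, 1, 1)),
      ((1, 1, 2), (0, 1, 1), (2, 2, 1)),
      ((1, 2, 0), (0, 2, 2), (2, 0, 2)),
      ((1, 2, 1), (1, 0, 0), (1, 1, 2)),
      ((2, 0, 0), (0, 0, 0), (1, 0, 0)),
      ((2, 0, 1), (0, 1, 1), (1, 1, 0)),
      ((2, 0, 2), (0, 2, 2), (1, 2, 0)),
      ((2, 1, 0), (0, 0, 0), (1, 0, 1)),
      ((2, 1, 1), (0, 1, 1), (1, 1, 1)),
      ((2, 1, 2), (0, 2, 2), (1, 2, 1)),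
      ((2, 2, 0), (0, 0, 0), (1, 0, 2)),
      ((2, 2, 1), (0, 1, 1), (1, 1, 2)),
      ((2, 2, 2), (0, 2, 0), (1, 0, 2))],
    .inr ((1, 1, 1), (1, 0, 0)), ((1, 2, 2), 0, 0),
    [],
    [],
    []⟩,
  ⟨(2, 1, 0),
    [((0, 0, 0), (0, 1, 1), (0, 2, 2)),
      ((0, 0, 1), (0, 2, 2), (0, 1, 0)),
      ((0, 0, 2), (0, 1, 1), (0, 2, 0)),
      ((0, 1, 0), (0, 2, 2), (0, 0, 1)),
      ((0, 1, 1), (0, 0, 0), (0, 2, 2)),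
      ((0, 1, 2), (0, 0, 0), (0, 2, 1)),
      ((0, 2, 0), (0, 1, 1), (0, 0, 2)),
      ((0, 2, 1), (0, 0, 0), (0, 1, 2)),
      ((0, 2, 2), (0, 0, 0), (0, 1, 1)),
      ((1, 0, 0), (0, 0, 0), (2, 0, 0)),
      ((1, 0, 1), (0, 1, 0), (2, 1, 1)),
      ((1, 0, 2), (0, 1, 0), (2, 2, 1)),
      ((1, 1, 0), (0, 1, 1), (2, 0, 1)),
      ((1, 1, 1), (0, 1, 1), (2, 1, 1)),
      ((1, 1, 2), (0, 1, 1), (2, 2, 1)),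
      ((1, 2, 0), (0, 2, 2), (2, 0, 2)),
      ((1, 2, 1), (0, 2, 2), (2, 1, 2)),
      ((1, 2, 2), (0, 2, 2), (2, 2, 2)),
      ((2, 0, 0), (0, 0, 0), (1, 0, 0)),
      ((2, 0, 1), (0, 1, 1), (1, 1, 0)),
      ((2, 0, 2), (0, 2, 2), (1, 2, 0)),
      ((2, 1, 1), (0, 1, 1), (1, 1, 1)),
      ((2, 1, 2), (0, 2, 2), (1, 2, 1)),
      ((2, 2, 0), (0, 0, 0), (1, 0, 2)),
      ((2, 2, 1), (0, 1, 1), (1, 1, 2)),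
      ((2, 2, 2), (0, 2, 2), (1, 2, 2))],
    .inr ((1, 1, 1), (0, 0, 1)), ((2, 1, 0), 0, 0),
    [],
    [],
    []⟩,
  ⟨(2, 1, 1),
    [((0, 0, 0), (0, 1, 1), (0, 2, 2)),
      ((0, 0, 1), (0, 2, 2), (0, 1, 0)),
      ((0, 0, 2), (0, 1, 1), (0, 2, 0)),
      ((0, 1, 0), (0, 2, 2), (0, 0, 1)),
      ((0, 1, 1), (0, 0, 0), (0, 2, 2)),
      ((0, 1, 2), (0, 0, 0), (0, 2, 1)),
      ((0, 2, 0), (0, 1, 1), (0, 0, 2)),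
      ((0, 2, 1), (0, 0, 0), (0, 1, 2)),
      ((0, 2, 2), (0, 0, 0), (0, 1, 1)),
      ((1, 0, 0), (0, 0, 0), (2, 0, 0)),
      ((1, 0, 1), (0, 0, 0), (2, 1, 0)),
      ((1, 0, 2), (0, 0, 0), (2, 2, 0)),
      ((1, 1, 0), (0, 1, 1), (2, 0, 1)),
      ((1, 1, 1), (0, 0, 1), (2, 1, 0)),
      ((1, 1, 2), (0, 0, 1), (2, 2, 0)),
      ((1, 2, 0), (0, 2, 2), (2, 0, 2)),
      ((1, 2, 1), (0, 2, 2), (2, 1, 2)),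
      ((1, 2, 2), (0, 2, 2), (2, 2, 2)),
      ((2, 0, 0), (0, 0, 0), (1, 0, 0)),
      ((2, 0, 1), (0, 1, 1), (1, 1, 0)),
      ((2, 0, 2), (0, 2, 2), (1, 2, 0)),
      ((2, 1, 0), (0, 0, 0), (1, 0, 1)),
      ((2, 1, 2), (0, 2, 2), (1, 2, 1)),
      ((2, 2, 0), (0, 0, 0), (1, 0, 2)),
      ((2, 2, 1), (0, 1, 1), (1, 1, 2)),
      ((2, 2, 2), (0, 2, 2), (1, 2, 2))],
    .inr ((1, 1, 1), (0, 1, 1)), ((2, 1, 1), 0, 0),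
    [],
    [],
    []⟩,
  ⟨(2, 1, 2),
    [((0, 0, 0), (0, 1, 1), (0, 2, 2)),
      ((0, 0, 1), (0, 2, 2), (0, 1, 0)),
      ((0, 0, 2), (0, 1, 1), (0, 2, 0)),
      ((0, 1, 0), (0, 2, 2), (0, 0, 1)),
      ((0, 1, 1), (0, 0, 0), (0, 2, 2)),
      ((0, 1, 2), (0, 0, 0), (0, 2, 1)),
      ((0, 2, 0), (0, 1, 1), (0, 0, 2)),
      ((0, 2, 1), (0, 0, 0), (0, 1, 2)),
      ((0, 2, 2), (0, 0, 0), (0, 1, 1)),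
      ((1, 0, 0), (0, 0, 0), (2, 0, 0)),
      ((1, 0, 1), (0, 0, 0), (2, 1, 0)),
      ((1, 0, 2), (0, 0, 0), (2, 2, 0)),
      ((1, 1, 0), (0, 1, 1), (2, 0, 1)),
      ((1, 1, 1), (0, 1, 1), (2, 1, 1)),
      ((1, 1, 2), (0, 1, 1), (2, 2, 1)),
      ((1, 2, 0), (0, 2, 2), (2, 0, 2)),
      ((1, 2, 1), (0, 0, 2), (2, 1, 0)),
      ((1, 2, 2), (0, 0, 2), (2, 2, 0)),
      ((2, 0, 0), (0, 0, 0), (1, 0, 0)),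
      ((2, 0, 1), (0, 1, 1), (1, 1, 0)),
      ((2, 0, 2), (0, 2, 2), (1, 2, 0)),
      ((2, 1, 0), (0, 0, 0), (1, 0, 1)),
      ((2, 1, 1), (0, 1, 1), (1, 1, 1)),
      ((2, 2, 0), (0, 0, 0), (1, 0, 2)),
      ((2, 2, 1), (0, 1, 1), (1, 1, 2)),
      ((2, 2, 2), (0, 2, 2), (1, 2, 2))],
    .inr ((1, 1, 1), (0, 2, 1)), ((2, 1, 2), 0, 0),
    [],
    [],
    []⟩,
  ⟨(2, 2, 0),
    [((0, 0, 0), (0, 1, 1), (0, 2, 2)),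
      ((0, 0, 1), (0, 2, 2), (0, 1, 0)),
      ((0, 0, 2), (0, 1, 1), (0, 2, 0)),
      ((0, 1, 0), (0, 2, 2), (0, 0, 1)),
      ((0, 1, 1), (0, 0, 0), (0, 2, 2)),
      ((0, 1, 2), (0, 0, 0), (0, 2, 1)),
      ((0, 2, 0), (0, 1, 1), (0, 0, 2)),
      ((0, 2, 1), (0, 0, 0), (0, 1, 2)),
      ((0, 2, 2), (0, 0, 0), (0, 1, 1)),
      ((1, 0, 0), (0, 0, 0), (2, 0, 0)),
      ((1, 0, 1), (0, 0, 0), (2, 1, 0)),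
      ((1, 0, 2), (0, 1, 0), (2, 2, 1)),
      ((1, 1, 0), (0, 1, 1), (2, 0, 1)),
      ((1, 1, 1), (0, 1, 1), (2, 1, 1)),
      ((1, 1, 2), (0, 1, 1), (2, 2, 1)),
      ((1, 2, 0), (0, 2, 2), (2, 0, 2)),
      ((1, 2, 1), (0, 2, 2), (2, 1, 2)),
      ((1, 2, 2), (0, 2, 2), (2, 2, 2)),
      ((2, 0, 0), (0, 0, 0), (1, 0, 0)),
      ((2, 0, 1), (0, 1, 1), (1, 1, 0)),
      ((2, 0, 2), (0, 2, 2), (1, 2, 0)),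
      ((2, 1, 0), (0, 0, 0), (1, 0, 1)),
      ((2, 1, 1), (0, 1, 1), (1, 1, 1)),
      ((2, 1, 2), (0, 2, 2), (1, 2, 1)),
      ((2, 2, 1), (0, 1, 1), (1, 1, 2)),
      ((2, 2, 2), (0, 2, 2), (1, 2, 2))],
    .inr ((2, 1, 2), (2, 0, 1)), ((2, 2, 0), 0, 0),
    [],
    [],
    []⟩,
  ⟨(2, 2, 1),
    [((0, 0, 0), (0, 1, 1), (0, 2, 2)),
      ((0, 0, 1), (0, 2, 2), (0, 1, 0)),
      ((0, 0, 2), (0, 1, 1), (0, 2, 0)),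
      ((0, 1, 0), (0, 2, 2), (0, 0, 1)),
      ((0, 1, 1), (0, 0, 0), (0, 2, 2)),
      ((0, 1, 2), (0, 0, 0), (0, 2, 1)),
      ((0, 2, 0), (0, 1, 1), (0, 0, 2)),
      ((0, 2, 1), (0, 0, 0), (0, 1, 2)),
      ((0, 2, 2), (0, 0, 0), (0, 1, 1)),
      ((1, 0, 0), (0, 0, 0), (2, 0, 0)),
      ((1, 0, 1), (0, 0, 0), (2, 1, 0)),
      ((1, 0, 2), (0, 0, 0), (2, 2, 0)),
      ((1, 1, 0), (0, 1, 1), (2, 0, 1)),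
      ((1, 1, 1), (0, 1, 1), (2, 1, 1)),
      ((1, 1, 2), (0, 0, 1), (2, 2, 0)),
      ((1, 2, 0), (0, 2, 2), (2, 0, 2)),
      ((1, 2, 1), (0, 2, 2), (2, 1, 2)),
      ((1, 2, 2), (0, 2, 2), (2, 2, 2)),
      ((2, 0, 0), (0, 0, 0), (1, 0, 0)),
      ((2, 0, 1), (0, 1, 1), (1, 1, 0)),
      ((2, 0, 2), (0, 2, 2), (1, 2, 0)),
      ((2, 1, 0), (0, 0, 0), (1, 0, 1)),
      ((2, 1, 1), (0, 1, 1), (1, 1, 1)),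
      ((2, 1, 2), (0, 2, 2), (1, 2, 1)),
      ((2, 2, 0), (0, 0, 0), (1, 0, 2)),
      ((2, 2, 2), (0, 2, 2), (1, 2, 2))],
    .inr ((2, 1, 2), (2, 0, 0)), ((2, 2, 1), 0, 0),
    [],
    [],
    []⟩,
  ⟨(2, 2, 2),
    [((0, 0, 0), (0, 1, 1), (0, 2, 2)),
      ((0, 0, 1), (0, 2, 2), (0, 1, 0)),
      ((0, 0, 2), (0, 1, 1), (0, 2, 0)),
      ((0, 1, 0), (0, 2, 2), (0, 0, 1)),
      ((0, 1, 1), (0, 0, 0), (0, 2, 2)),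
      ((0, 1, 2), (0, 0, 0), (0, 2, 1)),
      ((0, 2, 0), (0, 1, 1), (0, 0, 2)),
      ((0, 2, 1), (0, 0, 0), (0, 1, 2)),
      ((0, 2, 2), (0, 0, 0), (0, 1, 1)),
      ((1, 0, 0), (0, 0, 0), (2, 0, 0)),
      ((1, 0, 1), (0, 0, 0), (2, 1, 0)),
      ((1, 0, 2), (0, 0, 0), (2, 2, 0)),
      ((1, 1, 0), (0, 1, 1), (2, 0, 1)),
      ((1, 1, 1), (0, 1, 1), (2, 1, 1)),
      ((1, 1, 2), (0, 1, 1), (2, 2, 1)),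
      ((1, 2, 0), (0, 2, 2), (2, 0, 2)),
      ((1, 2, 1), (0, 2, 2), (2, 1, 2)),
      ((1, 2, 2), (0, 0, 2), (2, 2, 0)),
      ((2, 0, 0), (0, 0, 0), (1, 0, 0)),
      ((2, 0, 1), (0, 1, 1), (1, 1, 0)),
      ((2, 0, 2), (0, 2, 2), (1, 2, 0)),
      ((2, 1, 0), (0, 0, 0), (1, 0, 1)),
      ((2, 1, 1), (0, 1, 1), (1, 1, 1)),
      ((2, 1, 2), (0, 2, 2), (1, 2, 1)),
      ((2, 2, 0), (0, 0, 0), (1, 0, 2)),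
      ((2, 2, 1), (0, 1, 1), (1, 1, 2))],
    .inr ((2, 1, 1), (2, 0, 0)), ((2, 2, 2), 0, 0),
    [],
    [],
    []⟩]

end H53.E6Data
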