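import Cfsg.Agent.H53.MatRep
import Cfsg.Prelude.Def_E6

/-!
Isometries of a squarefree cubic form are products of root elements: a certified frame, coordinate by coordinate.
-/

set_option autoImplicit false
set_option linter.unusedSectionVars false

namespace H53.E6Frame

open H53.MatRep (Ent mat mat_mulVec)

variable {ι : Type} [Fintype ι] [DecidableEq ι] {F : Type*} [Field F]

/-- A monomial of the cubic form. -/
abbrev Mon (ι : Type) := ι × ι × ι × ℤ

/-- The cubic form. -/
def cub (M : List (Mon ι)) (v : ι → F) : F :=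
  (M.map fun m => (m.2.2.2 : F) * v m.1 * v m.2.1 * v m.2.2.1).sum

/-- The symmetric trilinear form. -/
def triD (M : List (Mon ι)) (u v w : ι → F) : F :=
  cub M (u + v + w) - cub M (u + v) - cub M (u + w) - cub M (v + w) + cub M u + cub M v + cub M w

/-- The part of degree two in the first argument. -/
def triA (M : List (Mon ι)) (v w : ι → F) : F :=
  (M.map fun m => (m.2.2.2 : F) * (v m.1 * v m.2.1 * w m.2.2.1 + v m.1 * w m.2.1 * v m.2.2.1 +
    w m.1 * v m.2.1 * v m.2.2.1)).sum

variable (M : List (Mon ι))

theorem cub_add_smul (v w : ι → F) (s : F) :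
    cub M (v + s • w) = cub M v + s * triA M v w + s ^ 2 * triA M w v + s ^ 3 * cub M w := by
  induction M with
  | nil => simp [cub, triA]
  | cons m M ih =>
    simp only [cub, triA, List.map_cons, List.sum_cons, Pi.add_apply, Pi.smul_apply, smul_eq_mul] at ih ⊢
    rw [ih]
    ring

theorem triD_eq (u v w : ι → F) : triD M u v w = (M.map fun m => (m.2.2.2 : F) *
    (u m.1 * v m.2.1 * w m.2.2.1 + u m.1 * w m.2.1 * v m.2.2.1 + v m.1 * u m.2.1 * w m.2.2.1 +
      v m.1 * w m.2.1 * u m.2.2.1 + w m.1 * u m.2.1 * v m.2.2.1 + w m.1 * v m.2.1 * u m.2.2.1)).sum := by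
  induction M with
  | nil => simp [triD, cub]
  | cons m M ih =>
    simp only [triD, cub, List.map_cons, List.sum_cons, Pi.add_apply] at ih ⊢
    rw [← ih]
    ring

theorem triD_comm (u v w : ι → F) : triD M u v w = triD M u w v := by
  simp only [triD, add_right_comm u v w, add_comm w v]
  ring

/-- The pairs completing `μ` to a monomial. -/
def pairs (μ : ι) : List (ι × ι × ℤ) :=
  M.flatMap fun m => (if m.1 = μ then [(m.2.1, m.2.2.1, m.2.2.2)] else []) ++
    (if m.2.1 = μ then [(m.1, m.2.2.1, m.2.2.2)] else []) ++ (if m.2.2.1 = μ then [(m.1, m.2.1, m.2.2.2)] else [])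

/-- The partners of two coordinates in the monomials. -/
def part (s x : ι) : List (ι × ℤ) :=
  (pairs M s).flatMap fun p => (if p.1 = x then [(p.2.1, p.2.2)] else []) ++ (if p.2.1 = x then [(p.1, p.2.2)] else [])

theorem triD_single (μ : ι) (v w : ι → F) :
    triD M (Pi.single μ 1) v w =
      ((pairs M μ).map fun p => (p.2.2 : F) * (v p.1 * w p.2.1 + w p.1 * v p.2.1)).sum := by
  rw [triD_eq]
  induction M with
  | nil => simp [pairs]
  | cons m M ih =>
    simp only [pairs, List.flatMap_cons, List.map_append, List.sum_append, List.map_cons, List.sum_cons] at ih ⊢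
    rw [ih]
    congr 1
    simp only [Pi.single_apply]
    split_ifs <;> simp <;> ring

theorem triA_single (μ : ι) (v : ι → F) :
    triA M v (Pi.single μ 1) = ((pairs M μ).map fun p => (p.2.2 : F) * (v p.1 * v p.2.1)).sum := by
  induction M with
  | nil => simp [triA, pairs]
  | cons m M ih =>
    simp only [triA, pairs, List.flatMap_cons, List.map_append, List.sum_append, List.map_cons, List.sum_cons] at ih ⊢
    rw [ih]
    congr 1
    simp only [Pi.single_apply]
    split_ifs <;> simp <;> ring

theorem triD_single₂ (s x : ι) (w : ι → F) :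
    triD M (Pi.single s 1) (Pi.single x 1) w = ((part M s x).map fun p => (p.2 : F) * w p.1).sum := by
  rw [triD_single, part]
  induction pairs M s with
  | nil => simp
  | cons p L ih =>
    simp only [List.flatMap_cons, List.map_append, List.sum_append, List.map_cons, List.sum_cons] at ih ⊢
    rw [ih]
    congr 1
    simp only [Pi.single_apply]
    split_ifs <;> simp <;> ring

/-- Squarefree: no monomial repeats a variable. -/
def SqFree : Prop := ∀ m ∈ M, m.1 ≠ m.2.1 ∧ m.1 ≠ m.2.2.1 ∧ m.2.1 ≠ m.2.2.1

theorem triA_of_sqFree (h : SqFree M) (p : ι) (w : ι → F) : triA M (Pi.single p 1) w = 0 := by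
  apply List.sum_eq_zero
  intro x hx
  obtain ⟨m, hm, rfl⟩ := List.mem_map.1 hx
  obtain ⟨h1, h2, h3⟩ := h m hm
  simp only [Pi.single_apply]
  split_ifs with a b c d <;> simp_all

/-! ### The certificates -/

/-- A step of the frame: the new coordinate, vanishing coordinates with their witnesses, the source of a non-zero
coordinate (or the witness that the new coordinate is `1`), the paths to the new coordinate, the roots that clear the
adjacent coordinates, and the monomials that clear the rest. -/
structure Step (ι : Type) where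
  p : ι
  zeros : List (ι × ι × ι)
  src : Option ι ⊕ (ι × ι)
  back : ι × ℕ × ℕ
  edges : List (ι × ι × ℕ)
  kills : List (ι × ℕ)
  last : List (ι × ι)

variable (N : ℕ) (T : ℕ → List (Ent ι)) (S : List ι)

/-- The root fixes the frame so far. -/
def fixesS (r : ℕ) : Bool := decide (r < N) && (T r).all fun e => !(S.contains e.2.1)

/-- The root adds a multiple of the coordinate `b` to the coordinate `a`. -/
def edgeOK (a b : ι) (r : ℕ) : Bool :=
  fixesS N T S r && match (T r).filter fun e => decide (e.1 = a) with
    | [(_, b', e, c)] => decide (b' = b ∧ e = 1 ∧ c * c = 1 ∧ a ≠ b)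
    | _ => false

/-- A witness that a coordinate vanishes. -/
def zeroOK (p : ι) (w : ι × ι × ι) : Bool :=
  match part M w.2.1 w.2.2 with
  | [(q', c)] => decide (q' = w.1 ∧ c * c = 1 ∧ w.1 ≠ p ∧ S.contains w.2.1 = true ∧
      (S.contains w.2.2 = true ∨ part M w.2.1 p = []))
  | _ => false

/-- The coordinates reached by the edges. -/
def reach (p : ι) : List (ι × ι × ℕ) → List ι
  | [] => [p]
  | e :: E => e.2.1 :: reach p E

/-- The edges lead to the new coordinate. -/
def edgesOK (p : ι) : List (ι × ι × ℕ) → Bool
  | [] => true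
  | e :: E => edgeOK N T S e.1 e.2.1 e.2.2 && (reach p E).contains e.1 && edgesOK p E

/-- The check of a step. -/
def stepOK (st : Step ι) : Bool :=
  !(S.contains st.p) &&
  (st.zeros.all fun w => zeroOK M S st.p w) &&
  (match st.src with
    | .inr (s, x) => match part M s x with
      | [(q', c)] => decide (q' = st.p ∧ c * c = 1 ∧ S.contains s = true ∧ S.contains x = true)
      | _ => false
    | .inl o =>
      edgesOK N T S st.p st.edges &&
      edgeOK N T S st.back.1 st.p st.back.2.1 && edgeOK N T S st.p st.back.1 st.back.2.2 &&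
      match o with
      | none => decide (∀ q : ι, ((st.zeros.map Prod.fst).contains q || (reach st.p st.edges).contains q) = true)
      | some s => S.contains s && (match part M s st.p with
          | [(_, c)] => decide (c * c = 1)
          | _ => false) &&
        (pairs M s).all fun pr =>
          ((st.zeros.map Prod.fst).contains pr.1 || (reach st.p st.edges).contains pr.1) &&
          ((st.zeros.map Prod.fst).contains pr.2.1 || (reach st.p st.edges).contains pr.2.1)) &&
  (st.kills.all fun k => edgeOK N T S k.1 st.p k.2 && (T k.2).all fun e => decide (e.1 ≠ st.p) &&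
      (decide (e.1 = k.1) || !((st.kills.map Prod.fst).contains e.1))) &&
  (st.last.all fun w => match (pairs M w.2).filter fun pr =>
      !((st.zeros.map Prod.fst ++ st.kills.map Prod.fst).contains pr.1 ||
        (st.zeros.map Prod.fst ++ st.kills.map Prod.fst).contains pr.2.1) with
    | [(a, b, c)] => decide (((a = st.p ∧ b = w.1) ∨ (b = st.p ∧ a = w.1)) ∧ c * c = 1)
    | _ => false) &&
  decide (∀ q : ι, q = st.p ∨
    (st.zeros.map Prod.fst ++ st.kills.map Prod.fst ++ st.last.map Prod.fst).contains q = true)

/-- The check of all steps, from the frame `S`. -/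
def seqOK : List ι → List (Step ι) → Bool
  | S, [] => decide (∀ q : ι, S.contains q = true)
  | S, st :: L => stepOK M N T S st && seqOK (st.p :: S) L

/-! ### Soundness -/

variable {M} {N} {T} {S}

variable {G : Subgroup (Matrix.GeneralLinearGroup ι F)}

/-- The action on vectors. -/
def gact (g : Matrix.GeneralLinearGroup ι F) (v : ι → F) : ι → F := (g : Matrix ι ι F).mulVec v

theorem gact_mul (g h : Matrix.GeneralLinearGroup ι F) (v : ι → F) : gact (g * h) v = gact g (gact h v) := by
  simp [gact, Matrix.mulVec_mulVec]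

theorem gact_one (v : ι → F) : gact (1 : Matrix.GeneralLinearGroup ι F) v = v := Matrix.one_mulVec v

theorem gact_inv (g : Matrix.GeneralLinearGroup ι F) (v : ι → F) : gact g (gact g⁻¹ v) = v := by
  rw [← gact_mul, mul_inv_cancel, gact_one]

/-- The isometries and the root elements among them. -/
structure Setting (M : List (Mon ι)) (N : ℕ) (T : ℕ → List (Ent ι))
    (G E : Subgroup (Matrix.GeneralLinearGroup ι F)) : Prop where
  le : E ≤ G
  pres : ∀ g ∈ G, ∀ v, cub M (gact g v) = cub M v
  two : ∃ a : F, a ≠ 0 ∧ a ≠ 1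
  sqfree : SqFree M
  root : ∀ r < N, ∀ t : F, ∃ e ∈ E, ∀ v, gact e v = (mat (T r) t).mulVec v

variable {E : Subgroup (Matrix.GeneralLinearGroup ι F)} (hs : Setting M N T G E)

/-- Fixing a list of basis vectors. -/
def FixL (S : List ι) (g : Matrix.GeneralLinearGroup ι F) : Prop :=
  ∀ s, S.contains s = true → gact g (Pi.single s 1) = Pi.single s 1

theorem FixL.mul {g h : Matrix.GeneralLinearGroup ι F} (hg : FixL S g) (hh : FixL S h) : FixL S (g * h) :=
  fun s hs => by rw [gact_mul, hh s hs, hg s hs]

include hs

theorem triD_inv {g : Matrix.GeneralLinearGroup ι F} (hg : g ∈ G) (u v w : ι → F) :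
    triD M (gact g u) (gact g v) (gact g w) = triD M u v w := by
  simp only [triD, gact, ← Matrix.mulVec_add]
  simp only [show ∀ x, cub M ((g : Matrix ι ι F).mulVec x) = cub M x from hs.pres g hg]

theorem triA_inv {g : Matrix.GeneralLinearGroup ι F} (hg : g ∈ G) (v w : ι → F) :
    triA M (gact g v) (gact g w) = triA M v w := by
  obtain ⟨a, ha0, ha1⟩ := hs.two
  have key : ∀ s : F, s * triA M (gact g v) (gact g w) + s ^ 2 * triA M (gact g w) (gact g v) =
      s * triA M v w + s ^ 2 * triA M w v := by
    intro s
    have h1 := cub_add_smul M (gact g v) (gact g w) s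
    have h2 : gact g v + s • gact g w = gact g (v + s • w) := by
      simp [gact, Matrix.mulVec_add, Matrix.mulVec_smul]
    rw [h2, hs.pres g hg, hs.pres g hg, hs.pres g hg, cub_add_smul] at h1
    linear_combination -h1
  have k1 := key 1
  have k2 := key a
  refine mul_left_cancel₀ (show a ^ 2 - a ≠ 0 from ?_) (by linear_combination a ^ 2 * k1 - k2)
  rw [show a ^ 2 - a = a * (a - 1) by ring]
  exact mul_ne_zero ha0 (sub_ne_zero.2 ha1)

theorem sq_ne {c : ℤ} (h : c * c = 1) : (c : F) ≠ 0 := by
  rcases Int.eq_one_or_neg_one_of_mul_eq_one h with rfl | rfl <;> simp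

theorem zero_of_ok {p : ι} {g : Matrix.GeneralLinearGroup ι F} (hg : g ∈ G) (hfix : FixL S g)
    {w : ι × ι × ι} (h : zeroOK M S p w = true) : gact g (Pi.single p 1) w.1 = 0 := by
  unfold zeroOK at h
  split at h
  · rename_i q' c hp
    simp only [decide_eq_true_eq] at h
    obtain ⟨rfl, hc, hne, hS, hcase⟩ := h
    refine (mul_eq_zero.1 (?_ : (c : F) * gact g (Pi.single p 1) w.1 = 0)).resolve_left (sq_ne hs hc)
    have e : triD M (Pi.single w.2.1 1) (Pi.single w.2.2 1) (gact g (Pi.single p 1)) = 0 := by
      rcases hcase with hx | hx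
      · conv_lhs => rw [← hfix _ hS, ← hfix _ hx]
        rw [triD_inv hs hg, triD_single₂, hp]
        simp [hne]
      · rw [triD_comm]
        conv_lhs => rw [← hfix _ hS, ← gact_inv g (Pi.single w.2.2 1)]
        rw [triD_inv hs hg, triD_single₂, hx]
        simp
    rw [triD_single₂, hp] at e
    simpa using e
  · simp at h

theorem edge_move {a b : ι} {r : ℕ} (h : edgeOK N T S a b r = true) :
    ∃ c : F, c * c = 1 ∧ ∀ t : F, ∃ e ∈ E, FixL S e ∧ ∀ v, gact e v a = v a + c * t * v b ∧
      ∀ y, (∀ x ∈ T r, x.1 ≠ y) → gact e v y = v y := by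
  simp only [edgeOK, Bool.and_eq_true] at h
  obtain ⟨hf, h⟩ := h
  simp only [fixesS, Bool.and_eq_true, decide_eq_true_eq, List.all_eq_true, Bool.not_eq_true'] at hf
  split at h
  · rename_i a' b' k c hL
    simp only [decide_eq_true_eq] at h
    obtain ⟨rfl, rfl, hc, -⟩ := h
    refine ⟨(c : F), by rw [← Int.cast_mul, hc, Int.cast_one], fun t => ?_⟩
    obtain ⟨e, he, hev⟩ := hs.root r hf.1 t
    have hz : ∀ (v : ι → F) (y : ι), gact e v y =
        v y + (((T r).filter fun x => decide (x.1 = y)).map fun x => (x.2.2.2 : F) * t ^ x.2.2.1 * v x.2.1).sum := by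
      intro v y
      rw [hev, mat_mulVec, Pi.add_apply]
      congr 1
      induction T r with
      | nil => simp
      | cons x L ih =>
        by_cases hx : x.1 = y
        · rw [List.filter_cons_of_pos (by simpa using hx)]
          simp [ih, hx]
        · rw [List.filter_cons_of_neg (by simpa using hx)]
          simp [ih, Pi.single_apply, Ne.symm hx]
    refine ⟨e, he, fun s hsS => ?_, fun v => ⟨by rw [hz, hL]; simp, fun y hy => ?_⟩⟩
    · funext y
      rw [hz, List.sum_eq_zero, add_zero]
      intro z hz'
      obtain ⟨x, hx, rfl⟩ := List.mem_map.1 hz'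
      have := hf.2 x (List.mem_of_mem_filter hx)
      rw [Pi.single_eq_of_ne (fun hh => by rw [hh, hsS] at this; simp at this), mul_zero]
    · rw [hz, List.filter_eq_nil_iff.2 (fun x hx => by simpa using hy x hx)]
      simp
  · simp at h

theorem set_one {a b : ι} {r : ℕ} (h : edgeOK N T S a b r = true) (v : ι → F) (hb : v b ≠ 0) :
    ∃ e ∈ E, FixL S e ∧ gact e v a = 1 := by
  obtain ⟨c, hc, hh⟩ := edge_move hs h
  obtain ⟨e, he, hfix, hv⟩ := hh (c * (1 - v a) * (v b)⁻¹)
  refine ⟨e, he, hfix, ?_⟩
  rw [(hv v).1, ← mul_assoc c, ← mul_assoc c, hc, one_mul, mul_assoc, inv_mul_cancel₀ hb]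
  ring

theorem set_path {p : ι} {back : ι × ℕ × ℕ} (hb1 : edgeOK N T S back.1 p back.2.1 = true)
    (hb2 : edgeOK N T S p back.1 back.2.2 = true) :
    ∀ L : List (ι × ι × ℕ), edgesOK N T S p L = true → ∀ (v : ι → F) (q : ι),
      (reach p L).contains q = true → v q ≠ 0 → ∃ e ∈ E, FixL S e ∧ gact e v p = 1 := by
  intro L
  induction L with
  | nil =>
    intro _ v q hq hv
    simp only [reach, List.contains_eq_mem, List.mem_singleton, decide_eq_true_eq] at hq
    subst hq
    obtain ⟨e, he, hf, h1⟩ := set_one hs hb1 v hv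
    obtain ⟨e', he', hf', h1'⟩ := set_one hs hb2 (gact e v) (by rw [h1]; exact one_ne_zero)
    exact ⟨e' * e, mul_mem he' he, hf'.mul hf, by rw [gact_mul, h1']⟩
  | cons x L ih =>
    intro hL v q hq hv
    simp only [edgesOK, Bool.and_eq_true] at hL
    simp only [reach, List.contains_cons, Bool.or_eq_true, beq_iff_eq] at hq
    rcases hq with rfl | hq
    · obtain ⟨e, he, hf, h1⟩ := set_one hs hL.1.1 v hv
      obtain ⟨e', he', hf', h1'⟩ := ih hL.2 (gact e v) x.1 hL.1.2 (by rw [h1]; exact one_ne_zero)
      exact ⟨e' * e, mul_mem he' he, hf'.mul hf, by rw [gact_mul, h1']⟩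
    · exact ih hL.2 v q hq hv

theorem step {st : Step ι} (hok : stepOK M N T S st = true) {g : Matrix.GeneralLinearGroup ι F} (hg : g ∈ G)
    (hfix : FixL S g) : ∃ e ∈ E, FixL (st.p :: S) (e * g) := by
  simp only [stepOK, Bool.and_eq_true, Bool.not_eq_true', List.all_eq_true, decide_eq_true_eq] at hok
  obtain ⟨⟨⟨⟨⟨hnp, hzero⟩, hsrc⟩, hkill⟩, hlast⟩, hcover⟩ := hok
  set p := st.p
  have hz : ∀ (g : Matrix.GeneralLinearGroup ι F), g ∈ G → FixL S g → ∀ q,
      (st.zeros.map Prod.fst).contains q = true → gact g (Pi.single p 1) q = 0 := by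
    intro g hg hfix q hq
    obtain ⟨w, hw, rfl⟩ := List.mem_map.1 (List.contains_iff_mem.1 hq)
    exact zero_of_ok hs hg hfix (hzero w hw)
  obtain ⟨e₁, he₁, hf₁, h1⟩ : ∃ e ∈ E, FixL S e ∧ gact e (gact g (Pi.single p 1)) p = 1 := by
    split at hsrc
    · rename_i s x hsx
      split at hsrc
      · rename_i q' c hpart
        simp only [decide_eq_true_eq] at hsrc
        obtain ⟨rfl, hc, hS1, hS2⟩ := hsrc
        refine ⟨1, one_mem _, fun s _ => gact_one _, ?_⟩
        rw [gact_one]
        refine mul_left_cancel₀ (sq_ne hs (F := F) hc) ?_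
        have e : triD M (Pi.single s 1) (Pi.single x 1) (gact g (Pi.single p 1)) =
            triD M (Pi.single s 1) (Pi.single x 1) (Pi.single p 1) := by
          conv_lhs => rw [← hfix _ hS1, ← hfix _ hS2]
          exact triD_inv hs hg _ _ _
        rw [triD_single₂, triD_single₂, hpart] at e
        simpa using e
      · simp at hsrc
    · rename_i o ho
      simp only [Bool.and_eq_true] at hsrc
      obtain ⟨⟨⟨hE, hb1⟩, hb2⟩, hsrc⟩ := hsrc
      suffices ∃ q, (reach p st.edges).contains q = true ∧ gact g (Pi.single p 1) q ≠ 0 by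
        obtain ⟨q, hq, hne⟩ := this
        exact set_path hs hb1 hb2 _ hE _ q hq hne
      split at hsrc
      · simp only [decide_eq_true_eq, Bool.or_eq_true] at hsrc
        by_contra hcon
        push Not at hcon
        have h0 : gact g (Pi.single p 1) = 0 := funext fun q => (hsrc q).elim (hz g hg hfix q) (hcon q)
        have := congrArg (gact g⁻¹) h0
        rw [← gact_mul, inv_mul_cancel, gact_one] at this
        exact one_ne_zero (α := F) (by simpa [gact] using congrFun this p)
      · rename_i s
        simp only [Bool.and_eq_true, List.all_eq_true, Bool.or_eq_true] at hsrc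
        obtain ⟨⟨hS1, hpart⟩, hpairs⟩ := hsrc
        split at hpart
        · rename_i m c hm
          simp only [decide_eq_true_eq] at hpart
          by_contra hcon
          push Not at hcon
          apply sq_ne hs (F := F) hpart
          have e : triD M (Pi.single s 1) (gact g (Pi.single p 1)) (gact g (Pi.single m 1)) = 0 := by
            rw [triD_single]
            apply List.sum_eq_zero
            intro z hz'
            obtain ⟨pr, hpr, rfl⟩ := List.mem_map.1 hz'
            obtain ⟨ha, hb⟩ := hpairs pr hpr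
            rw [ha.elim (hz g hg hfix _) (hcon _), hb.elim (hz g hg hfix _) (hcon _)]
            ring
          conv_lhs at e => rw [← hfix _ hS1]
          rw [triD_inv hs hg, triD_single₂, hm] at e
          simpa using e
        · simp at hpart
  -- clear the adjacent coordinates
  have clear : ∀ L : List (ι × ℕ), (∀ k ∈ L, k ∈ st.kills) → ∀ v : ι → F, v p = 1 →
      ∃ e ∈ E, FixL S e ∧ gact e v p = 1 ∧ (∀ k ∈ L, gact e v k.1 = 0) ∧
        ∀ y, (st.kills.map Prod.fst).contains y = true → (∀ k ∈ L, k.1 ≠ y) → gact e v y = v y := by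
    intro L
    induction L with
    | nil => exact fun _ v hv => ⟨1, one_mem _, fun s _ => gact_one _, by rw [gact_one, hv], by simp,
        fun y _ _ => by rw [gact_one]⟩
    | cons k L ih =>
      intro hL v hv
      obtain ⟨e, he, hf, hp1, hL0, hkeep⟩ := ih (fun x hx => hL x (List.mem_cons_of_mem _ hx)) v hv
      obtain ⟨hedge, hrows⟩ := hkill k (hL k List.mem_cons_self)
      simp only [Bool.or_eq_true, decide_eq_true_eq, Bool.not_eq_true'] at hrows
      obtain ⟨c, hc, hmove⟩ := edge_move hs hedge
      obtain ⟨x, hx, hxf, hxmove⟩ := hmove (-(c * gact e v k.1))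
      have hxv : gact x (gact e v) k.1 = 0 := by
        rw [(hxmove _).1, hp1, mul_neg, ← mul_assoc, hc]
        ring
      have hxkeep := (hxmove (gact e v)).2
      have hrow : ∀ y, (st.kills.map Prod.fst).contains y = true → y ≠ k.1 → ∀ z ∈ T k.2, z.1 ≠ y := by
        intro y hy hyk z hz' hzy
        rcases (hrows z hz').2 with h | h
        · exact hyk (hzy.symm.trans h)
        · rw [hzy, hy] at h; simp at h
      refine ⟨x * e, mul_mem hx he, hxf.mul hf, ?_, ?_, ?_⟩
      · rw [gact_mul, hxkeep p (fun z hz' => (hrows z hz').1), hp1]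
      · intro k' hk'
        rw [gact_mul]
        by_cases hkk : k'.1 = k.1
        · rw [hkk, hxv]
        · have hmem : k' ∈ st.kills := hL k' hk'
          rw [hxkeep _ (hrow _ (List.contains_iff_mem.2 (List.mem_map_of_mem hmem)) hkk)]
          rcases List.mem_cons.1 hk' with rfl | hk''
          · exact absurd rfl hkk
          · exact hL0 k' hk''
      · intro y hy hyL
        rw [gact_mul, hxkeep _ (hrow _ hy (Ne.symm (hyL k List.mem_cons_self))),
          hkeep y hy fun z hz' => hyL z (List.mem_cons_of_mem _ hz')]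
  obtain ⟨e₂, he₂, hf₂, h2, h20, -⟩ := clear st.kills (fun _ h => h) _ h1
  set g₂ := e₂ * e₁ * g with hg₂
  have hg₂G : g₂ ∈ G := mul_mem (mul_mem (hs.le he₂) (hs.le he₁)) hg
  have hf₃ : FixL S g₂ := (hf₂.mul hf₁).mul hfix
  set u := gact g₂ (Pi.single p 1) with hu
  have hu1 : u p = 1 := by rw [hu, hg₂, gact_mul, gact_mul, h2]
  have hu0 : ∀ q, (st.zeros.map Prod.fst ++ st.kills.map Prod.fst).contains q = true → u q = 0 := by
    intro q hq
    rcases List.mem_append.1 (List.contains_iff_mem.1 hq) with h | h
    · exact hz g₂ hg₂G hf₃ q (List.contains_iff_mem.2 h)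
    · obtain ⟨k, hk, rfl⟩ := List.mem_map.1 h
      rw [hu, hg₂, gact_mul, gact_mul]
      exact h20 k hk
  have hlast0 : ∀ w ∈ st.last, u w.1 = 0 := by
    intro w hw
    have hA : triA M u (Pi.single w.2 1) = 0 := by
      conv_lhs => rw [hu, ← gact_inv g₂ (Pi.single w.2 1)]
      rw [triA_inv hs hg₂G, triA_of_sqFree M hs.sqfree]
    rw [triA_single] at hA
    have h := hlast w hw
    split at h
    · rename_i a b c hf
      simp only [decide_eq_true_eq] at h
      obtain ⟨hab, hc⟩ := h
      refine (mul_eq_zero.1 (?_ : (c : F) * u w.1 = 0)).resolve_left (sq_ne hs hc)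
      have hsum : ∀ (f : ι × ι × ℤ → Bool) (L : List (ι × ι × ℤ)),
          (∀ pr ∈ L, f pr = false → u pr.1 = 0 ∨ u pr.2.1 = 0) →
          (L.map fun pr => (pr.2.2 : F) * (u pr.1 * u pr.2.1)).sum =
            ((L.filter f).map fun pr => (pr.2.2 : F) * (u pr.1 * u pr.2.1)).sum := by
        intro f L hL
        induction L with
        | nil => rfl
        | cons pr L ih =>
          have ih := ih fun x hx => hL x (List.mem_cons_of_mem _ hx)
          by_cases hfp : f pr = true
          · rw [List.filter_cons_of_pos hfp]; simp [ih]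
          · rw [List.filter_cons_of_neg hfp]
            rcases hL pr List.mem_cons_self (by simpa using hfp) with h | h <;> simp [ih, h]
      rw [hsum (fun pr => !((st.zeros.map Prod.fst ++ st.kills.map Prod.fst).contains pr.1 ||
          (st.zeros.map Prod.fst ++ st.kills.map Prod.fst).contains pr.2.1)) _ (fun pr _ hpr => by
        simp only [Bool.not_eq_false', Bool.or_eq_true] at hpr
        exact hpr.imp (hu0 _) (hu0 _)),
        hf] at hA
      rcases hab with ⟨rfl, rfl⟩ | ⟨rfl, rfl⟩ <;> simpa [hu1] using hA
    · simp at h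
  refine ⟨e₂ * e₁, mul_mem he₂ he₁, fun s hs' => ?_⟩
  simp only [List.contains_cons, Bool.or_eq_true, beq_iff_eq] at hs'
  rcases hs' with rfl | hs'
  · rw [← hg₂, ← hu]
    funext q
    rcases hcover q with rfl | hq
    · rw [hu1, Pi.single_eq_same]
    · have hq0 : u q = 0 := by
        rcases List.mem_append.1 (List.contains_iff_mem.1 hq) with h | h
        · exact hu0 q (List.contains_iff_mem.2 h)
        · obtain ⟨w, hw, rfl⟩ := List.mem_map.1 h; exact hlast0 w hw
      rw [hq0, Pi.single_eq_of_ne]
      intro hqp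
      rw [hqp, hu1] at hq0
      exact one_ne_zero hq0
  · exact hf₃ s hs'

/-- All isometries are products of root elements. -/
theorem eq_of_seqOK {L : List (Step ι)} (h : seqOK M N T [] L = true) : G = E := by
  refine le_antisymm ?_ hs.le
  have main : ∀ (L : List (Step ι)) (S : List ι), seqOK M N T S L = true →
      ∀ g ∈ G, FixL S g → g ∈ E := by
    intro L
    induction L with
    | nil =>
      intro S hS g hg hfix
      simp only [seqOK, decide_eq_true_eq] at hS
      have : g = 1 := by
        apply Units.ext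
        ext i j
        simpa [gact, Matrix.one_apply, Pi.single_apply] using congrFun (hfix j (hS j)) i
      rw [this]; exact one_mem _
    | cons st L ih =>
      intro S hS g hg hfix
      simp only [seqOK, Bool.and_eq_true] at hS
      obtain ⟨e, he, hf⟩ := step hs hS.1 hg hfix
      have := ih _ hS.2 (e * g) (mul_mem (hs.le he) hg) hf
      simpa using mul_mem (inv_mem he) this
  exact fun g hg => main L [] h g hg fun s hs => by simp at hs

end H53.E6Frame
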