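import Cfsg.Agent.H53.E6Check
import Cfsg.Agent.H53.StGroup
import Cfsg.Agent.H53.OrthRep

/-!
The isometry group of the cubic form in 27 variables, modulo its centre, is the Chevalley group of type E6.
-/

set_option autoImplicit false
set_option synthInstance.maxSize 512
set_option linter.unusedSectionVars false

namespace H53.E6Data

open Cfsg.Lie H53.MatRep
open H53.E6Frame (Mon cub Setting gact)

variable {F : Type*} [Field F]

theorem cubicT_eq (v : I27 → F) : cubicT v = cub mons v := by
  simp [cubicT, cub, mons, mat3, Matrix.det_fin_three, Matrix.trace_fin_three, Matrix.mul_apply,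
    Fin.sum_univ_three]
  ring

/-- Value of a packed monomial. -/
def val (t : F) (v : I27 → F) (k : ℕ) : F :=
  t ^ (k / 19683) * v (deco (k / 729 % 27)) * v (deco (k / 27 % 27)) * v (deco (k % 27))
where
  /-- The coordinate of a code. -/
  deco (n : ℕ) : I27 := (Fin.ofNat 3 (n / 9), Fin.ofNat 3 (n / 3), Fin.ofNat 3 n)

theorem deco_code (x : I27) : val.deco (dataE.code x) = x := by revert x; decide +kernel

theorem code_lt' (x : I27) : dataE.code x < 27 := by revert x; decide +kernel

theorem val_pack (t : F) (v : I27 → F) (k : ℕ) (x y z : I27) :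
    val t v (pack k (dataE.code x) (dataE.code y) (dataE.code z)) = t ^ k * v x * v y * v z := by
  have hx := code_lt' x
  have hy := code_lt' y
  have hz := code_lt' z
  have ex := deco_code x
  have ey := deco_code y
  have ez := deco_code z
  revert hx hy hz ex ey ez
  generalize dataE.code x = a
  generalize dataE.code y = b
  generalize dataE.code z = c
  intro ha hb hc ex ey ez
  have key : ∀ p q r : ℕ, p < 27 → q < 27 → r < 27 →
      val t v (((k * 27 + p) * 27 + q) * 27 + r) = t ^ k * v (val.deco p) * v (val.deco q) * v (val.deco r) := by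
    intro p q r hp hq hr
    unfold val
    rw [show (((k * 27 + p) * 27 + q) * 27 + r) / 19683 = k by omega,
      show (((k * 27 + p) * 27 + q) * 27 + r) / 729 % 27 = p by omega,
      show (((k * 27 + p) * 27 + q) * 27 + r) / 27 % 27 = q by omega,
      show (((k * 27 + p) * 27 + q) * 27 + r) % 27 = r by omega]
  rw [← ex, ← ey, ← ez]
  simp only [pack]
  split_ifs <;> rw [key _ _ _ (by assumption) (by assumption) (by assumption)] <;> ring

theorem cins_sum (t : F) (v : I27 → F) (k : ℕ) (c : ℤ) (L : List (ℕ × ℤ)) :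
    ((cins k c L).map fun p => (p.2 : F) * val t v p.1).sum =
      (c : F) * val t v k + (L.map fun p => (p.2 : F) * val t v p.1).sum := by
  induction L with
  | nil => simp [cins]
  | cons p L ih =>
    obtain ⟨k', c'⟩ := p
    unfold cins
    split_ifs with h1 h2
    · subst h1
      have : (c' : F) = -(c : F) := by rw [eq_neg_iff_add_eq_zero, ← Int.cast_add, h2, Int.cast_zero]
      simp [this]
    · subst h1
      simp only [List.map_cons, List.sum_cons, Int.cast_add]
      ring
    · simp only [List.map_cons, List.sum_cons, ih]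
      ring

theorem ccomb_sum (t : F) (v : I27 → F) (L : List (ℕ × ℤ)) :
    ((ccomb L).map fun p => (p.2 : F) * val t v p.1).sum = (L.map fun p => (p.2 : F) * val t v p.1).sum := by
  induction L with
  | nil => rfl
  | cons p L ih => simp [ccomb, cins_sum, ih]

theorem mat_apply_img (r : ℕ) (t : F) (v : I27 → F) (x : I27) :
    (mat (dataE.T r) t).mulVec v x = ((img r x).map fun a => (a.2.2 : F) * t ^ a.1 * v a.2.1).sum := by
  rw [mat_mulVec, img, Pi.add_apply, List.map_cons, List.sum_cons]
  congr 1
  · simp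
  · induction dataE.T r with
    | nil => simp
    | cons e L ih =>
      by_cases hx : e.1 = x
      · rw [List.filter_cons_of_pos (by simpa using hx)]
        simp [ih, hx]
      · rw [List.filter_cons_of_neg (by simpa using hx)]
        simp [ih, Pi.single_apply, Ne.symm hx]

theorem presE (r : ℕ) (hr : r < chevE6.nroots) (t : F) (v : I27 → F) :
    cub mons ((mat (dataE.T r) t).mulVec v) = cub mons v := by
  have h := cubicE r hr
  simp only [cubicOK, decide_eq_true_eq] at h
  have h0 : ((mons.flatMap (delta1 r)).map fun p => (p.2 : F) * val t v p.1).sum = 0 := by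
    rw [← ccomb_sum, h]; rfl
  have one : ∀ m : Mon I27, (m.2.2.2 : F) * (mat (dataE.T r) t).mulVec v m.1 *
      (mat (dataE.T r) t).mulVec v m.2.1 * (mat (dataE.T r) t).mulVec v m.2.2.1 =
      (m.2.2.2 : F) * v m.1 * v m.2.1 * v m.2.2.1 + ((delta1 r m).map fun p => (p.2 : F) * val t v p.1).sum := by
    intro m
    rw [mat_apply_img, mat_apply_img, mat_apply_img]
    have pos : ∀ (x : I27), ∀ a ∈ (img r x).tail, a.1 ≠ 0 := by
      intro x a ha
      obtain ⟨e, he, rfl⟩ := List.mem_map.1 ha
      have h1 := c1E r hr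
      simp only [check1, Bool.and_eq_true, List.all_eq_true, decide_eq_true_eq] at h1
      exact h1.1 e (List.mem_of_mem_filter he)
    have expand : ∀ (A B C : List (ℕ × I27 × ℤ)),
        (m.2.2.2 : F) * (A.map fun a => (a.2.2 : F) * t ^ a.1 * v a.2.1).sum *
          (B.map fun a => (a.2.2 : F) * t ^ a.1 * v a.2.1).sum * (C.map fun a => (a.2.2 : F) * t ^ a.1 * v a.2.1).sum =
        (A.map fun a => (B.map fun b => (C.map fun c =>
          (m.2.2.2 : F) * a.2.2 * b.2.2 * c.2.2 * t ^ (a.1 + b.1 + c.1) * v a.2.1 * v b.2.1 * v c.2.1).sum).sum).sum := by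
      intro A B C
      induction A with
      | nil => simp
      | cons a A ih =>
        simp only [List.map_cons, List.sum_cons, ← ih]
        have : ∀ B : List (ℕ × I27 × ℤ), (B.map fun b => (C.map fun c =>
            (m.2.2.2 : F) * a.2.2 * b.2.2 * c.2.2 * t ^ (a.1 + b.1 + c.1) * v a.2.1 * v b.2.1 * v c.2.1).sum).sum =
            (m.2.2.2 : F) * ((a.2.2 : F) * t ^ a.1 * v a.2.1) * (B.map fun a => (a.2.2 : F) * t ^ a.1 * v a.2.1).sum *
              (C.map fun a => (a.2.2 : F) * t ^ a.1 * v a.2.1).sum := by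
          intro B
          induction B with
          | nil => simp
          | cons b B ihB =>
            have hC : ∀ C : List (ℕ × I27 × ℤ), (C.map fun c =>
                (m.2.2.2 : F) * a.2.2 * b.2.2 * c.2.2 * t ^ (a.1 + b.1 + c.1) * v a.2.1 * v b.2.1 * v c.2.1).sum =
                (m.2.2.2 : F) * ((a.2.2 : F) * t ^ a.1 * v a.2.1) * ((b.2.2 : F) * t ^ b.1 * v b.2.1) *
                  (C.map fun a => (a.2.2 : F) * t ^ a.1 * v a.2.1).sum := by
              intro C
              induction C with
              | nil => simp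
              | cons c C ihC => rw [List.map_cons, List.map_cons, List.sum_cons, List.sum_cons, ihC, pow_add, pow_add]; ring
            simp only [List.map_cons, List.sum_cons, ihB, hC]
            ring
        rw [this]
        ring
    rw [expand]
    -- term by term
    have term : ∀ (P : List ((ℕ × I27 × ℤ) × (ℕ × I27 × ℤ) × (ℕ × I27 × ℤ))),
        (P.map fun q => (m.2.2.2 : F) * q.1.2.2 * q.2.1.2.2 * q.2.2.2.2 * t ^ (q.1.1 + q.2.1.1 + q.2.2.1) *
          v q.1.2.1 * v q.2.1.2.1 * v q.2.2.2.1).sum =
        (P.map fun q => if q.1.1 + q.2.1.1 + q.2.2.1 = 0 then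
            (m.2.2.2 : F) * q.1.2.2 * q.2.1.2.2 * q.2.2.2.2 * v q.1.2.1 * v q.2.1.2.1 * v q.2.2.2.1 else 0).sum +
        ((P.flatMap fun q => if q.1.1 + q.2.1.1 + q.2.2.1 = 0 then [] else
          [(pack (q.1.1 + q.2.1.1 + q.2.2.1) (dataE.code q.1.2.1) (dataE.code q.2.1.2.1) (dataE.code q.2.2.2.1),
            m.2.2.2 * q.1.2.2 * q.2.1.2.2 * q.2.2.2.2)]).map fun p => (p.2 : F) * val t v p.1).sum := by
      intro P
      induction P with
      | nil => simp
      | cons q P ih =>
        simp only [List.map_cons, List.sum_cons, List.flatMap_cons, List.map_append, List.sum_append, ih]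
        by_cases hq : q.1.1 + q.2.1.1 + q.2.2.1 = 0
        · simp [hq]; ring
        · simp only [if_neg hq, List.map_cons, List.map_nil, List.sum_cons, List.sum_nil, val_pack]
          push_cast
          ring
    have hflat : ∀ {α β : Type} (A : List α) (g : α → List β) (f : β → F),
        (A.map fun a => ((g a).map f).sum).sum = ((A.flatMap g).map f).sum := by
      intro α β A g f
      induction A with
      | nil => rfl
      | cons a A ih => simp [ih]
    let P := (img r m.1).flatMap fun a => (img r m.2.1).flatMap fun b => (img r m.2.2.1).map fun c => (a, b, c)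
    have e1 : ((img r m.1).map fun a => ((img r m.2.1).map fun b => ((img r m.2.2.1).map fun c =>
        (m.2.2.2 : F) * a.2.2 * b.2.2 * c.2.2 * t ^ (a.1 + b.1 + c.1) * v a.2.1 * v b.2.1 * v c.2.1).sum).sum).sum =
        (P.map fun q => (m.2.2.2 : F) * q.1.2.2 * q.2.1.2.2 * q.2.2.2.2 * t ^ (q.1.1 + q.2.1.1 + q.2.2.1) *
          v q.1.2.1 * v q.2.1.2.1 * v q.2.2.2.1).sum := by
      simp only [P, ← hflat, List.map_map, Function.comp_def]
    rw [e1, term]
    congr 1
    · rw [show ∀ f, (P.map f).sum = ((img r m.1).map fun a => ((img r m.2.1).map fun b =>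
          ((img r m.2.2.1).map fun c => f (a, b, c)).sum).sum).sum from fun f => by
        simp only [P, ← hflat, List.map_map, Function.comp_def]]
      have only : ∀ (x : I27) (g : ℕ × I27 × ℤ → F), (∀ a ∈ (img r x).tail, g a = 0) →
          ((img r x).map g).sum = g (0, x, 1) := by
        intro x g hg
        rw [img, List.map_cons, List.sum_cons, List.sum_eq_zero, add_zero]
        intro z hz
        obtain ⟨a, ha, rfl⟩ := List.mem_map.1 hz
        exact hg a ha
      rw [only m.1 _ (fun a ha => List.sum_eq_zero fun z hz => by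
        obtain ⟨b, -, rfl⟩ := List.mem_map.1 hz
        exact List.sum_eq_zero fun z hz => by
          obtain ⟨c, -, rfl⟩ := List.mem_map.1 hz
          exact if_neg (by have := pos _ a ha; simp only at *; omega))]
      rw [only m.2.1 _ (fun b hb => List.sum_eq_zero fun z hz => by
        obtain ⟨c, -, rfl⟩ := List.mem_map.1 hz
        exact if_neg (by have := pos _ b hb; simp only at *; omega))]
      rw [only m.2.2.1 _ (fun c hc => if_neg (by have := pos _ c hc; simp only at *; omega))]
      simp
    · simp only [delta1, P, List.flatMap_assoc, List.flatMap_map]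
  have total : ∀ L : List (Mon I27), cub L ((mat (dataE.T r) t).mulVec v) =
      cub L v + ((L.flatMap (delta1 r)).map fun p => (p.2 : F) * val t v p.1).sum := by
    intro L
    induction L with
    | nil => simp [cub]
    | cons m L ih =>
      simp only [cub, List.map_cons, List.sum_cons, List.flatMap_cons, List.map_append, List.sum_append] at ih ⊢
      rw [one m, ih]
      ring
  rw [total, h0, add_zero]

/-- The image of the presented group. -/
noncomputable def imgE (F : Type*) [Field F] : Subgroup (GL I27 F) := (stMat (F := F) okE).range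

theorem setting (hF : ∃ a : F, a ≠ 0 ∧ a ≠ 1) :
    Setting mons chevE6.nroots dataE.T (E6univ F) (imgE F) where
  le := by
    rintro _ ⟨x, rfl⟩
    refine PresentedGroup.generated_by (chevE6.steinbergRels F) ((E6univ F).comap (stMat okE)) ?_ x
    rintro ⟨r, t⟩
    intro v
    have e : (PresentedGroup.of (r, t) : chevE6.SteinbergGroup F) = chevE6.stGen F r.val t := by
      rw [ChevalleyDatum.stGen, ChevalleyDatum.stX, dif_pos r.isLt]; rfl
    show cubicT ((Units.coeHom (Matrix I27 I27 F) (stMat okE (PresentedGroup.of (r, t)))).mulVec v) = cubicT v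
    rw [e, Units.coeHom_apply, coe_stMat okE r.val r.isLt, cubicT_eq, cubicT_eq, presE r.val r.isLt]
  pres g hg v := by
    rw [← cubicT_eq, ← cubicT_eq]
    exact hg v
  two := hF
  sqfree := sqfreeE
  root r hr t := ⟨stMat okE (chevE6.stGen F r t), ⟨_, rfl⟩, fun v => by
    show (stMat okE (chevE6.stGen F r t) : Matrix I27 I27 F).mulVec v = _
    rw [coe_stMat okE r hr]⟩

theorem univ_eq (hF : ∃ a : F, a ≠ 0 ∧ a ≠ 1) : E6univ F = imgE F :=
  E6Frame.eq_of_seqOK (setting hF) seqE

theorem e6_iso (hF : ∃ a : F, a ≠ 0 ∧ a ≠ 1) :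
    Nonempty (Cfsg.Lie.E6 F ≃* ↥(chevE6.group F)) := by
  have hD : chevE6 ∈ [chevG2, chevB2, chevD4, chevF4, chevE6, chevE7, chevE8] := by simp
  obtain ⟨T, hC⟩ := H52.checked_of_mem hD
  obtain ⟨W⟩ := H53.nonempty_weylFor hD
  have hok := H54.chainOK_of_mem chevE6 hD
  have hPr := H53.hasPairs_of_mem hD
  obtain ⟨θ, hθ⟩ := H53.exists_stHom (F := F) hC
  have hS := H53.stSys_rel θ hθ
  have hsur : Function.Surjective (H53.ChevSys.thetaG hC hok hS hPr) :=
    H53.ChevSys.thetaG_surjective hC W hok hS hPr
  have hker := H53.ChevSys.ker_eq_center hC W hok hS hPr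
  set Θ := H53.ChevSys.thetaG hC hok hS hPr
  obtain ⟨hsimple, -⟩ := H52.group_simple (F := F) hD (fun h => absurd (h.imp
    (congrArg ChevalleyDatum.rank) (congrArg ChevalleyDatum.rank)) (by decide))
  have hperf := H53.OrthRep.st_perfect (F := F) (D := chevE6) H54.perfectOK_E6
    (Or.inl (H54.killedFirst_of_mem _ (by simp)))
  let ψ : chevE6.SteinbergGroup F →* ↥(E6univ F) :=
    (stMat okE).codRestrict _ fun x => by rw [univ_eq hF]; exact ⟨x, rfl⟩
  have hψ : Function.Surjective ψ := by
    rintro ⟨y, hy⟩
    rw [univ_eq hF] at hy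
    obtain ⟨x, hx⟩ := hy
    exact ⟨x, Subtype.ext hx⟩
  let ψ' : chevE6.SteinbergGroup F →* Cfsg.Lie.E6 F := (QuotientGroup.mk' _).comp ψ
  have hψ' : Function.Surjective ψ' := (QuotientGroup.mk'_surjective _).comp hψ
  have hle : Θ.ker ≤ ψ'.ker := by
    intro z hz
    rw [hker] at hz
    rw [MonoidHom.mem_ker]
    refine (QuotientGroup.eq_one_iff _).2 (Subgroup.mem_center_iff.2 fun y => ?_)
    obtain ⟨x, rfl⟩ := hψ y
    rw [← map_mul, ← map_mul, Subgroup.mem_center_iff.1 hz x]
  rcases hsimple.eq_bot_or_eq_top_of_normal _ ((MonoidHom.normal_ker ψ').map Θ hsur) with h | h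
  · have heq : Θ.ker = ψ'.ker := le_antisymm hle ((Subgroup.map_eq_bot_iff _).1 h)
    exact ⟨((QuotientGroup.quotientKerEquivOfSurjective Θ hsur).symm.trans
      ((QuotientGroup.quotientMulEquivOfEq heq).trans (QuotientGroup.quotientKerEquivOfSurjective ψ' hψ'))).symm⟩
  · exfalso
    have htop : ψ'.ker = ⊤ := by
      rw [← sup_eq_left.2 hle, ← Subgroup.comap_map_eq, h, Subgroup.comap_top]
    have hab : ∀ a b : chevE6.SteinbergGroup F, ψ a * ψ b = ψ b * ψ a := fun a b => by
      have : ψ' b = 1 := by rw [← MonoidHom.mem_ker, htop]; trivial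
      exact Subgroup.mem_center_iff.1 ((QuotientGroup.eq_one_iff _).1 this) (ψ a)
    have hker' : (⊤ : Subgroup (chevE6.SteinbergGroup F)) ≤ ψ.ker := by
      rw [← hperf, commutator_def, Subgroup.commutator_le]
      intro a _ b _
      rw [MonoidHom.mem_ker, map_commutatorElement, commutatorElement_eq_one_iff_mul_comm]
      exact hab a b
    have h1 := congrArg (fun g : ↥(E6univ F) => ((g : GL I27 F) : Matrix I27 I27 F))
      (MonoidHom.mem_ker.1 (hker' (Subgroup.mem_top (chevE6.stGen F 36 1))))
    have h2 : mat (dataE.T 36) (1 : F) = 1 := by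
      rw [← coe_stMat okE 36 (by decide)]
      exact h1
    obtain ⟨a, b, c, hrow, hab', hc⟩ : ∃ a b : I27, ∃ c : ℤ,
        ((dataE.T 36).filter fun e => decide (e.1 = a)) = [(a, b, 1, c)] ∧ a ≠ b ∧ c * c = 1 := by
      obtain ⟨e, he⟩ : ∃ e, ((dataE.T 36).filter fun x => decide (x.1 = e.1)) = [e] ∧ e.2.2.1 = 1 ∧ e.1 ≠ e.2.1 ∧
          e.2.2.2 * e.2.2.2 = 1 := ⟨(dataE.T 36).headI, by decide +kernel⟩
      exact ⟨e.1, e.2.1, e.2.2.2, by rw [he.1, ← he.2.1], he.2.2.1, he.2.2.2⟩
    have h3 := mat_apply_img (F := F) 36 1 (Pi.single b 1) a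
    rw [h2, Matrix.one_mulVec, img, hrow] at h3
    simp [hab'] at h3
    exact E6Frame.sq_ne (setting hF) hc h3.symm

end H53.E6Data
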