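import Cfsg.Agent.H64.Sz8Three

/-!
In `Sz(8)` every element other than `1` is a product of two elements of order `5`, which form one class.
-/

set_option autoImplicit false

namespace H53.Sz8Sq

open Matrix H64

/-- The conjugate of the inverse of the element of order `5`. -/
def cand (a b : K8) : Matrix (Fin 4) (Fin 4) K8 :=
  H57.tMat 1 a b * (s8mat5 * s8mat5 * (s8mat5 * s8mat5)) *
    (H57.tMat 1 a b * H57.tMat 1 a b * H57.tMat 1 a b)

/-- `X` has order `5`. -/
def ok5 (X : Matrix (Fin 4) (Fin 4) K8) : Prop := X ≠ 1 ∧ X * (X * X) * (X * X) = 1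

instance (X : Matrix (Fin 4) (Fin 4) K8) : Decidable (ok5 X) := by unfold ok5; infer_instance

/-- `G` has a witness. -/
def good (G : Matrix (Fin 4) (Fin 4) K8) : Prop :=
  ∃ a b : K8, ok5 (cand a b * G) ∨ ok5 (Cfsg.suzukiForm K8 * cand a b * Cfsg.suzukiForm K8 * G)

instance (G : Matrix (Fin 4) (Fin 4) K8) : Decidable (good G) := by unfold good; infer_instance

theorem good_t : ∀ a b : K8, (a = 0 ∧ (b = 0 ∨ b = 1)) ∨ good (H57.tMat 1 a b) := by decide +kernel

theorem good_d : ∀ k : K8, k = 0 ∨ k = 1 ∨ good (H57.dMat 1 k) := by decide +kernel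

theorem good_13 : ∀ i < 13, i = 0 ∨ good (s8mat13 ^ i) := by decide +kernel

theorem good_5 : ∀ i < 5, i = 0 ∨ good (s8mat5 ^ i) := by decide +kernel

/-- An element is a product of two conjugates of the element of order `5`. -/
def Sq (g : S8) : Prop := ∃ u v : S8, g = u * s8el5 * u⁻¹ * (v * s8el5 * v⁻¹)

theorem Sq.conj {g : S8} (h : Sq g) (c : S8) : Sq (c * g * c⁻¹) := by
  obtain ⟨u, v, rfl⟩ := h
  exact ⟨c * u, c * v, by group⟩

theorem conj_pow_five : ∀ k < 5, k ≠ 0 → ∃ c : S8, s8el5 ^ k = c * s8el5 * c⁻¹ := by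
  have key : ∀ k < 5, k ≠ 0 → ∃ a b a' b' : K8,
      s8mat5 ^ k * (H57.tMat 1 a b * Cfsg.suzukiForm K8 * H57.tMat 1 a' b') =
        H57.tMat 1 a b * Cfsg.suzukiForm K8 * H57.tMat 1 a' b' * s8mat5 ∨
      s8mat5 ^ k * H57.tMat 1 a b = H57.tMat 1 a b * s8mat5 := by decide +kernel
  intro k hk hk0
  obtain ⟨a, b, a', b', h | h⟩ := key k hk hk0
  · refine ⟨H57.tEl K8.card_eq a b * H57.wEl K8.card_eq * H57.tEl K8.card_eq a' b',
      eq_mul_inv_of_mul_eq (H57.szMat_inj ?_)⟩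
    rw [map_mul, map_mul, map_mul, map_mul, map_pow, s8mat5_eq]
    exact h
  · refine ⟨H57.tEl K8.card_eq a b, eq_mul_inv_of_mul_eq (H57.szMat_inj ?_)⟩
    rw [map_mul, map_mul, map_pow, s8mat5_eq]
    exact h

theorem conj_of_five {z : S8} (hz : z ^ 5 = 1) (hz1 : z ≠ 1) : ∃ c, z = c * s8el5 * c⁻¹ := by
  haveI : Fact (Nat.Prime 5) := ⟨by norm_num⟩
  have ho : orderOf z = 5 := orderOf_eq_prime hz hz1
  obtain ⟨h, k, hk⟩ := sylow_conj 5 (orderOf_s8el5 ▸ orderOf_dvd_natCard s8el5)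
    (by rw [card_s8]; norm_num) ho orderOf_s8el5
  rw [← pow_mod_orderOf, orderOf_s8el5] at hk
  have hk0 : k % 5 ≠ 0 := fun h0 => hz1 (by rw [hk, h0, pow_zero]; group)
  obtain ⟨c, hc⟩ := conj_pow_five (k % 5) (Nat.mod_lt _ (by norm_num)) hk0
  exact ⟨h * c, by rw [hk, hc]; group⟩

theorem sq_of_good (g : S8) (hg : good (H57.szMat g)) : Sq g := by
  obtain ⟨a, b, h⟩ := hg
  set t := H57.tEl K8.card_eq a b
  have ht : t⁻¹ = t * t * t := inv_eq_of_mul_eq_one_right (by
    have h4 := H57.tEl_pow' K8.card_eq a b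
    rw [show (2 : ℕ) ^ 2 = 4 from rfl] at h4
    rw [← h4]; simp only [t, pow_succ, pow_zero, one_mul, mul_assoc])
  set w := H57.wEl (F := K8) (m := 1) K8.card_eq
  have hww : w * w = 1 := H57.szMat_inj (by
    show Cfsg.suzukiForm K8 * Cfsg.suzukiForm K8 = 1
    decide +kernel)
  have h5 : s8el5⁻¹ = s8el5 * s8el5 * (s8el5 * s8el5) := inv_eq_of_mul_eq_one_right (by
    have := pow_orderOf_eq_one s8el5
    rw [orderOf_s8el5] at this
    rw [← this]; simp only [pow_succ, pow_zero, one_mul, mul_assoc])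
  have hc : H57.szMat (t * s8el5⁻¹ * t⁻¹) = cand a b := by
    rw [ht, h5]
    simp only [map_mul, s8mat5_eq]
    rfl
  have fin : ∀ c : S8, ok5 (H57.szMat (c * s8el5⁻¹ * c⁻¹ * g)) → Sq g := by
    intro c ⟨h1, h2⟩
    set z := c * s8el5⁻¹ * c⁻¹ * g with hz
    have hz5 : z ^ 5 = 1 := H57.szMat_inj (by
      rw [show z ^ 5 = z * (z * z) * (z * z) by
        simp only [pow_succ, pow_zero, one_mul, mul_assoc], map_mul, map_mul, map_mul, map_one]
      exact h2)
    obtain ⟨v, hv⟩ := conj_of_five hz5 (fun e => h1 (by rw [e, map_one]))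
    exact ⟨c, v, by rw [← hv, hz]; group⟩
  rcases h with h | h
  · exact fin t (by rw [map_mul, hc]; exact h)
  · refine fin (w * t) ?_
    rw [show w * t * s8el5⁻¹ * (w * t)⁻¹ = w * (t * s8el5⁻¹ * t⁻¹) * w⁻¹ by group,
      show w⁻¹ = w from inv_eq_of_mul_eq_one_right hww, map_mul, map_mul, map_mul, hc]
    exact h

theorem sq_of_ne_one {g : S8} (hg : g ≠ 1) : Sq g := by
  have hone : ∀ (c : S8) (x : S8), c⁻¹ * g * c = x → x ≠ 1 := fun c x e h1 => hg (by
    rw [h1] at e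
    calc g = c * (c⁻¹ * g * c) * c⁻¹ := by group
      _ = 1 := by rw [e]; group)
  have back : ∀ (c : S8) (x : S8), c⁻¹ * g * c = x → Sq x → Sq g := fun c x e h => by
    have := h.conj c
    rwa [← e, show c * (c⁻¹ * g * c) * c⁻¹ = g by group] at this
  rcases H57.sz_trichotomy le_rfl K8.card_eq hg with ⟨s, a, b, hs⟩ | ⟨s, hs⟩ | ⟨A, hA, hgA⟩
  · refine back s _ hs ?_
    rcases good_t a b with ⟨rfl, hb⟩ | h
    · rcases hb with rfl | rfl
      · exact absurd (H57.tEl_zero K8.card_eq) (hone s _ hs)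
      · obtain ⟨k, hk, hk0⟩ : ∃ k : K8, H57.th 1 k * k * (⟨2⟩ : K8) = 1 ∧ k ≠ 0 := by decide +kernel
        have h2 : Sq (H57.tEl K8.card_eq 0 (⟨2⟩ : K8)) := by
          rcases good_t 0 (⟨2⟩ : K8) with ⟨-, h | h⟩ | h
          · exact absurd h (by decide +kernel)
          · exact absurd h (by decide +kernel)
          · exact sq_of_good _ h
        have h3 := h2.conj (H57.dEl K8.card_eq (Units.mk0 k hk0))
        rwa [H57.conj_dEl_tEl, mul_zero, Units.val_mk0, hk] at h3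
    · exact sq_of_good _ h
  · obtain ⟨k, hk⟩ := hs
    refine back s _ hk.symm (sq_of_good _ ?_)
    rcases good_d (k : K8) with h | h | h
    · exact absurd h k.ne_zero
    · exfalso
      refine hone s _ hk.symm ?_
      rw [show k = 1 from Units.ext h, map_one]
    · exact h
  · obtain ⟨Ap, Am, -, -, hp, hm, hcl, -⟩ := H57.tor_summary le_rfl K8.card_eq
    have fin : ∀ (p : ℕ) [Fact p.Prime] (t : S8), orderOf t = p → ¬ p ^ 2 ∣ Nat.card S8 →
        orderOf g ∣ p → (∀ i < p, i = 0 ∨ good (H57.szMat (t ^ i))) → Sq g := by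
      intro p _ t ht hp2 hd hgood
      have ho : orderOf g = p :=
        ((Nat.dvd_prime Fact.out).1 hd).resolve_left fun h1 => hg (orderOf_eq_one_iff.1 h1)
      obtain ⟨h, k, hk⟩ := sylow_conj p (ht ▸ orderOf_dvd_natCard t) hp2 ho ht
      rw [← pow_mod_orderOf, ht] at hk
      rcases hgood (k % p) (Nat.mod_lt _ (Nat.Prime.pos Fact.out)) with h0 | h0
      · exact absurd (by rw [hk, h0, pow_zero]; group) hg
      · rw [hk]
        exact (sq_of_good _ h0).conj h
    obtain ⟨x, hx⟩ := hcl A hA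
    have hd := Subgroup.orderOf_dvd_natCard _ hgA
    rcases hx with hx | hx
    · rw [← hx, H57.card_conj, hp] at hd
      haveI : Fact (Nat.Prime 13) := ⟨by norm_num⟩
      exact fin 13 s8el13 orderOf_s8el13 (by rw [card_s8]; norm_num) (hd.trans (by norm_num))
        fun i hi => by rw [map_pow, s8mat13_eq]; exact good_13 i hi
    · rw [← hx, H57.card_conj, hm] at hd
      haveI : Fact (Nat.Prime 5) := ⟨by norm_num⟩
      exact fin 5 s8el5 orderOf_s8el5 (by rw [card_s8]; norm_num) (hd.trans (by norm_num))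
        fun i hi => by rw [map_pow, s8mat5_eq]; exact good_5 i hi

/-- For any field with eight elements there is an element of order `5` whose conjugates do the same. -/
theorem exists_five {F : Type*} [Field F] [Fintype F] (hF : Fintype.card F = 2 ^ (2 * 1 + 1)) :
    ∃ r : Cfsg.Sz F 1, r ^ 5 = 1 ∧ r ≠ 1 ∧
      (∀ z : Cfsg.Sz F 1, z ^ 5 = 1 → z ≠ 1 → ∃ c, z = c * r * c⁻¹) ∧
      ∀ g : Cfsg.Sz F 1, g ≠ 1 → ∃ u v, g = u * r * u⁻¹ * (v * r * v⁻¹) := by
  let σ : K8 ≃+* F := FiniteField.ringEquivOfCardEq (by rw [K8.card_eq, hF])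
  let φ : Matrix.SpecialLinearGroup (Fin 4) K8 →* Matrix.SpecialLinearGroup (Fin 4) F :=
    Matrix.SpecialLinearGroup.map (σ : K8 →+* F)
  have hth : ∀ a, σ (H57.th 1 a) = H57.th 1 (σ a) := fun a => map_pow σ a _
  have gt : ∀ a b, φ (H57.tSL 1 a b) = H57.tSL 1 (σ a) (σ b) := fun a b => by
    apply Matrix.SpecialLinearGroup.ext
    intro i j
    show σ (H57.tMat 1 a b i j) = H57.tMat 1 (σ a) (σ b) i j
    fin_cases i <;> fin_cases j <;> simp [H57.tMat, H57.oF, hth]
  have gd : ∀ k : K8ˣ, φ (H57.dSL 1 k) = H57.dSL 1 (Units.map (σ : K8 →* F) k) := fun k => by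
    apply Matrix.SpecialLinearGroup.ext
    intro i j
    show σ (H57.dMat 1 (k : K8) i j) = H57.dMat 1 ((Units.map (σ : K8 →* F) k : Fˣ) : F) i j
    fin_cases i <;> fin_cases j <;> simp [H57.dMat]
  have gw : φ (H57.wSL K8.card_eq) = H57.wSL hF := by
    apply Matrix.SpecialLinearGroup.ext
    intro i j
    show σ (Cfsg.suzukiForm K8 i j) = Cfsg.suzukiForm F i j
    fin_cases i <;> fin_cases j <;> simp [Cfsg.suzukiForm]
  have hmem : ∀ g : S8, φ g.1 ∈ Cfsg.Sz F 1 := fun g => by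
    rcases H57.sz_cases le_rfl K8.card_eq g with ⟨a, b, k, rfl⟩ | ⟨a, b, c, d, k, rfl⟩
    · show φ (H57.tSL 1 a b * H57.dSL 1 k) ∈ _
      rw [map_mul, gt, gd]
      exact mul_mem (H57.tSL_mem hF _ _) (H57.dSL_mem hF _)
    · show φ (H57.tSL 1 a b * H57.wSL K8.card_eq * (H57.tSL 1 c d * H57.dSL 1 k)) ∈ _
      rw [map_mul, map_mul, map_mul, gt, gt, gd, gw]
      exact mul_mem (mul_mem (H57.tSL_mem hF _ _) (H57.wSL_mem hF))
        (mul_mem (H57.tSL_mem hF _ _) (H57.dSL_mem hF _))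
  let ψ : S8 →* Cfsg.Sz F 1 := MonoidHom.mk' (fun g => ⟨φ g.1, hmem g⟩)
    fun g h => Subtype.ext (map_mul φ _ _)
  have hinj : Function.Injective ψ := fun g h e => by
    apply H57.szMat_inj
    ext i j
    apply σ.injective
    have e1 : φ g.1 = φ h.1 := congrArg Subtype.val e
    exact congrArg (fun M : Matrix.SpecialLinearGroup (Fin 4) F => M.1 i j) e1
  have hbij : Function.Bijective ψ := by
    classical
    have e : Nat.card S8 = Nat.card (Cfsg.Sz F 1) := by
      rw [card_s8, H57.card_sz le_rfl hF]; norm_num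
    exact (Nat.bijective_iff_injective_and_card _).2 ⟨hinj, e⟩
  have h5 : s8el5 ≠ 1 := fun e => by
    have := orderOf_s8el5
    rw [e, orderOf_one] at this
    omega
  refine ⟨ψ s8el5, ?_, fun e => h5 (hinj (by rw [e, map_one])), fun z hz hz1 => ?_, fun g hg => ?_⟩
  · rw [← map_pow, ← orderOf_s8el5, pow_orderOf_eq_one, map_one]
  · obtain ⟨z, rfl⟩ := hbij.2 z
    obtain ⟨c, rfl⟩ := conj_of_five (hinj (by rw [map_pow, hz, map_one]))
      (fun e => hz1 (by rw [e, map_one]))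
    exact ⟨ψ c, by simp only [map_mul, map_inv]⟩
  · obtain ⟨g, rfl⟩ := hbij.2 g
    obtain ⟨u, v, rfl⟩ := sq_of_ne_one (g := g) (fun e => hg (by rw [e, map_one]))
    exact ⟨ψ u, ψ v, by simp only [map_mul, map_inv]⟩

end H53.Sz8Sq
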