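import Cfsg.Agent.H53.F4SquareBase
import Cfsg.Agent.H53.Sz8Square

/-!
`²F₄(q)`, `q ≥ 8`: an element of odd order whose conjugates cover, by pairs, all elements but `1`.
-/

set_option autoImplicit false
set_option linter.unusedSectionVars false
set_option maxRecDepth 8000
set_option maxHeartbeats 1000000

namespace H53.F4Sq

open Cfsg.Lie H52 H53 H53.F4T H52.F4N H32.FF H52.F4R H53.Gauss
open H50.CExt H50.Tw

variable {K : Type*} [Field K] [Fintype K] {m : ℕ} (hK : Fintype.card K = 2 ^ (2 * m + 1))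
include hK

theorem wt_mul (k : Fin 16) (hk : pos16 k) (p p' : Kˣ × Kˣ) :
    wt m k (p * p') = wt m k p * wt m k p' := by
  obtain ⟨a, b⟩ := p
  obtain ⟨c, d⟩ := p'
  show wt m k (a * c, b * d) = _
  obtain ⟨u0, u1, u2, u3, u4, u5, u6, u7⟩ := wt_table hK (a * c) (b * d)
  obtain ⟨v0, v1, v2, v3, v4, v5, v6, v7⟩ := wt_table hK a b
  obtain ⟨w0, w1, w2, w3, w4, w5, w6, w7⟩ := wt_table hK c d
  fin_cases k <;> simp [pos16] at hk <;>
    simp [u0, u1, u2, u3, u4, u5, u6, u7, v0, v1, v2, v3, v4, v5, v6, v7,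
      w0, w1, w2, w3, w4, w5, w6, w7, mul_pow, mul_comm, mul_assoc, mul_left_comm]

theorem card_bad [DecidableEq K] (k : Fin 16) (hk : pos16 k) :
    (Finset.univ.filter fun p : Kˣ × Kˣ => wt m k p = 1).card ≤ (Finset.univ : Finset Kˣ).card := by
  by_cases h0 : k = 0
  · subst h0
    refine Finset.card_le_card_of_injOn Prod.snd (fun _ _ => by simp) ?_
    rintro ⟨a, b⟩ hp ⟨a', b'⟩ hq (rfl : b = b')
    simp only [Finset.mem_coe, Finset.mem_filter, Finset.mem_univ, true_and,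
      (wt_table hK a b).1, (wt_table hK a' b).1] at hp hq
    rw [hp, hq]
  · refine Finset.card_le_card_of_injOn Prod.fst (fun _ _ => by simp) ?_
    rintro ⟨a, b⟩ hp ⟨a', b'⟩ hq (rfl : a = a')
    simp only [Finset.mem_coe, Finset.mem_filter, Finset.mem_univ, true_and] at hp hq
    have h := wt_mul hK k hk (1, b * b'⁻¹) (a, b')
    rw [show ((1, b * b'⁻¹) : Kˣ × Kˣ) * (a, b') = (a, b) by simp, hp, hq, mul_one] at h
    rw [mul_inv_eq_one.1 (wt_fix0 hK hk h0 h.symm)]

variable (hm : 1 ≤ m)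
include hm

/-- For `q ≥ 32` the torus has an element regular on `U` and on `V`. -/
theorem exists_regular (hm2 : 2 ≤ m) : ∃ a b : Kˣ, ∀ k : Fin 16, pos16 k →
    wt m k (a, b) ≠ 1 ∧ wt m k (J m (a, b)) ≠ 1 := by
  classical
  by_contra hno
  push Not at hno
  set n := Fintype.card Kˣ
  have hn : 31 ≤ n := by
    have h : 2 ^ 5 ≤ Fintype.card K := hK ▸ Nat.pow_le_pow_right (by norm_num) (by omega)
    have e : Fintype.card Kˣ = Fintype.card K - 1 := Fintype.card_units K
    simp only [n]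
    omega
  set P := (Finset.univ : Finset (Fin 16)).filter pos16
  have hsub : (Finset.univ : Finset (Kˣ × Kˣ)) ⊆ P.biUnion fun k =>
      (Finset.univ.filter fun p => wt m k p = 1) ∪
        (Finset.univ.filter fun p => wt m k (J m p) = 1) := by
    rintro ⟨a, b⟩ -
    obtain ⟨k, hk, h⟩ := hno a b
    rw [Finset.mem_biUnion]
    refine ⟨k, by simp [P, hk], ?_⟩
    by_cases h1 : wt m k (a, b) = 1
    · simp [h1]
    · simp [h h1]
  have h2 : ∀ k ∈ P, ((Finset.univ.filter fun p : Kˣ × Kˣ => wt m k p = 1) ∪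
      (Finset.univ.filter fun p : Kˣ × Kˣ => wt m k (J m p) = 1)).card ≤ 2 * n := by
    intro k hk
    have hk' : pos16 k := by simpa [P] using hk
    refine (Finset.card_union_le _ _).trans ?_
    have h3 : (Finset.univ.filter fun p : Kˣ × Kˣ => wt m k (J m p) = 1).card ≤ n :=
      (Finset.card_le_card_of_injOn (t := Finset.univ.filter fun p : Kˣ × Kˣ => wt m k p = 1)
        (J m) (fun p hp => by simpa using hp)
        (fun p _ q _ h => J_inj hK h)).trans (card_bad hK k hk')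
    have := card_bad hK k hk'
    simp only [Finset.card_univ] at this h3
    omega
  have h3 := (Finset.card_le_card hsub).trans (Finset.card_biUnion_le_card_mul _ _ _ h2)
  have h4 : P.card = 8 := by simp only [P]; decide +kernel
  rw [Finset.card_univ, Fintype.card_prod, h4] at h3
  change n * n ≤ 8 * (2 * n) at h3
  have : 31 * n ≤ n * n := Nat.mul_le_mul_right n hn
  omega

omit hm in
theorem odd_orderOf_hab {a b : Kˣ} : Odd (orderOf (hab hK a b)) := by
  refine Odd.of_dvd_nat (Nat.not_even_iff_odd.1 fun h => not_dvd_card_H16 hK h.two_dvd) ?_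
  exact Subgroup.orderOf_dvd_natCard (sys hK).H (hab_mem16 hK a b)

/-- The statement for `q ≥ 32`. -/
theorem exists_large (hm2 : 2 ≤ m) : ∃ x : ↥(FG K m), Odd (orderOf x) ∧
    ∀ g : ↥(FG K m), g ≠ 1 → ∃ u v : ↥(FG K m), g = (u * x * u⁻¹) * (v * x * v⁻¹) := by
  classical
  obtain ⟨a, b, hreg⟩ := exists_regular hK hm hm2
  refine ⟨hab hK a b, odd_orderOf_hab hK, fun g hg => ?_⟩
  have hS := ax hK hm
  have hO := opp hK (m := m)
  obtain ⟨a0, b0, h0⟩ := exists_nc0 hK hm hg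
  -- for each final parameter the intermediate ones
  choose X Y hXY using fun t : Kˣ =>
    exists_mv hK (m := m) (t * t * (a * a) * a0⁻¹, t⁻¹ * (b * b) * b0⁻¹)
  have hX : ∀ t, X t * X t * (Y t)⁻¹ ^ (2 * 2 ^ m + 2) * a0 = t * t * (a * a) ∧
      (X t)⁻¹ * (Y t * Y t) * b0 = t⁻¹ * (b * b) := fun t => by
    obtain ⟨e1, e2⟩ := Prod.mk.inj (hXY t)
    simp only at e1 e2
    rw [e1, e2, inv_mul_cancel_right, inv_mul_cancel_right]
    exact ⟨rfl, rfl⟩
  have hinj : ∀ t t', X t = X t' → t = t' := by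
    intro t t' h
    have e1 := hXY t
    have e2 := hXY t'
    rw [h] at e1
    have h1 : mv m ((1 : Kˣ), Y t) * mv m (t', 1) = mv m ((1 : Kˣ), Y t') * mv m (t, 1) := by
      have k1 : mv m (X t', Y t) = mv m (X t', 1) * mv m (1, Y t) := by
        rw [← mv_mul hK]; simp
      have k2 : mv m (X t', Y t') = mv m (X t', 1) * mv m (1, Y t') := by
        rw [← mv_mul hK]; simp
      rw [k1] at e1
      rw [k2] at e2
      apply mul_left_cancel (a := mv m (X t', (1 : Kˣ)))
      rw [← mul_assoc, ← mul_assoc, e1, e2]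
      ext <;> simp [mv, mul_comm, mul_assoc, mul_left_comm]
    rw [← mv_mul hK, ← mv_mul hK] at h1
    have h2 := congrArg Prod.fst (mv_inj hK (m := m) h1)
    simpa using h2.symm
  obtain ⟨t, ht1, ht2⟩ : ∃ t : Kˣ, t * t * (a * a) ≠ 1 ∧ X t ≠ b0 := by
    by_contra hno
    push Not at hno
    have hsub : (Finset.univ : Finset Kˣ) ⊆ (Finset.univ.filter fun t => t * t * (a * a) = 1) ∪
        (Finset.univ.filter fun t => X t = b0) := fun t _ => by
      by_cases h1 : t * t * (a * a) = 1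
      · simp [h1]
      · simp [hno t h1]
    have c1 : (Finset.univ.filter fun t => X t = b0).card ≤ 1 :=
      Finset.card_le_one.2 fun t ht t' ht' =>
        hinj t t' ((Finset.mem_filter.1 ht).2.trans (Finset.mem_filter.1 ht').2.symm)
    have c2 : (Finset.univ.filter fun t : Kˣ => t * t * (a * a) = 1).card ≤ 1 :=
      Finset.card_le_one.2 fun t ht t' ht' => by
        have h2 : t * t = t' * t' := mul_right_cancel
          ((Finset.mem_filter.1 ht).2.trans (Finset.mem_filter.1 ht').2.symm)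
        haveI := charTwo hK
        refine Units.ext (frobenius_inj K 2 ?_)
        simp only [frobenius_def, sq]
        exact congrArg Units.val h2
    have h3 := (Finset.card_le_card hsub).trans ((Finset.card_union_le _ _).trans (add_le_add c2 c1))
    have h8 : 2 ^ 3 ≤ Fintype.card K := hK ▸ Nat.pow_le_pow_right (by norm_num) (by omega)
    rw [Finset.card_univ, Fintype.card_units] at h3
    omega
  obtain ⟨e1, e2⟩ := hX t
  -- the three moves
  have g1 := move0 hK hm h0 (X t)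
  have g2 := move1 hK hm (St.Nc hS hO g1 (noncomm1 hK (a := X t * X t * a0) (b := (X t)⁻¹ * b0)
    (fun h => ht2 (inv_mul_eq_one.1 h)))) (Y t)
  rw [show (Y t)⁻¹ ^ (2 * 2 ^ m + 2) * (X t * X t * a0) = t * t * (a * a) by
      rw [← e1]; ac_rfl,
    show Y t * Y t * ((X t)⁻¹ * b0) = t⁻¹ * (b * b) by rw [← e2]; ac_rfl] at g2
  have g3 := move0 hK hm (St.Nc hS hO g2 (noncomm0 hK ht1)) t⁻¹
  rw [show t⁻¹ * t⁻¹ * (t * t * (a * a)) = a * a by
      rw [← mul_assoc, show t⁻¹ * t⁻¹ * (t * t) = 1 by group, one_mul],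
    show t⁻¹⁻¹ * (t⁻¹ * (b * b)) = b * b by rw [inv_inv, mul_inv_cancel_left]] at g3
  obtain ⟨x, v, hv, u, hu, e⟩ := g3
  set h := hab hK a b
  have hh : h ∈ (sys hK).H := hab_mem16 hK a b
  have hN : ∀ v ∈ (sys hK).Uminus, h * v * h⁻¹ ∈ (sys hK).Uminus := fun v hv => by
    obtain ⟨w, hw, f, hf, rfl⟩ := Uminus_split hS hO (0 : Fin 2) hv
    rw [show h * (w * f) * h⁻¹ = (h * w * h⁻¹) * (h * f * h⁻¹) by group]
    exact mul_mem (Vhat_le 0 (H_conj_Vhat hS hO 0 hh hw))
      (Uneg_le_Uminus hS 0 (H_conj_U hS hO hh hf))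
  obtain ⟨r, -, er⟩ := exists_absorb hN
    (fun v hv hc => (fix_V hK hm (fun k hk _ => (hreg k hk).2) hv hc).2
      (hreg 7 (by decide)).2) hv
  obtain ⟨s, -, es⟩ := exists_absorb_right (K := (sys hK).Uplus) (x := h)
    (fun v hv => RootGroupSys.H_conj_Uplus hS hh hv)
    (fun v hv hc => (fix_U hK hm (fun k hk _ => (hreg k hk).1) hv hc).2
      (hreg 7 (by decide)).1) hu
  refine ⟨x⁻¹ * r, x⁻¹ * s, ?_⟩
  calc g = x⁻¹ * (x * g * x⁻¹) * x := by group
    _ = x⁻¹ * ((v * h) * (h * u)) * x := by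
      rw [e, ← hab_mul]; simp only [h]; group
    _ = x⁻¹ * ((r * h * r⁻¹) * (s * h * s⁻¹)) * x := by rw [er, es]
    _ = _ := by group

/-- Elements of the second Levi subgroup normalise `Û` and `V̂`. -/
theorem rk1_conj {i : Fin 2} {l : ↥(FG K m)} (hl : l ∈ rk1 (sys hK) i) :
    (∀ q ∈ (sys hK).Uhat i, l * q * l⁻¹ ∈ (sys hK).Uhat i) ∧
      ∀ w ∈ Vhat (sys hK) i, l * w * l⁻¹ ∈ Vhat (sys hK) i := by
  have hS := ax hK hm
  have hO := opp hK (m := m)
  have hle : rk1 (sys hK) i ≤ Subgroup.normalizer ((sys hK).Uhat i : Set ↥(FG K m)) ⊓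
      Subgroup.normalizer (Vhat (sys hK) i : Set ↥(FG K m)) := by
    refine sup_le ?_ ?_ <;> refine le_inf ?_ ?_ <;> intro y hy <;>
      refine Subgroup.mem_normalizer_iff.2 fun n => ⟨fun h => ?_, fun h => ?_⟩
    · exact RootGroupSys.Ua_conj_Uhat hS i hy h
    · simpa [mul_assoc] using RootGroupSys.Ua_conj_Uhat hS i (inv_mem hy) h
    · exact Ua_conj_Vhat hS hO i hy h
    · simpa [mul_assoc] using Ua_conj_Vhat hS hO i (inv_mem hy) h
    · exact Uneg_conj_Uhat hS hO i hy h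
    · simpa [mul_assoc] using Uneg_conj_Uhat hS hO i (inv_mem hy) h
    · exact Uneg_conj_Vhat hS hO i hy h
    · simpa [mul_assoc] using Uneg_conj_Vhat hS hO i (inv_mem hy) h
  obtain ⟨h1, h2⟩ := Subgroup.mem_inf.1 (hle hl)
  exact ⟨fun q hq => (Subgroup.mem_normalizer_iff.1 h1 q).1 hq,
    fun q hq => (Subgroup.mem_normalizer_iff.1 h2 q).1 hq⟩

omit hm in
/-- The kernel of the second weight centralises the second Levi subgroup. -/
theorem center1 (a : Kˣ) {l : ↥(FG K m)} (hl : l ∈ rk1 (sys hK) 1) :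
    hab hK a 1 * l = l * hab hK a 1 := by
  have hX : ∀ x ∈ X16 hK 1, hab hK a 1 * x * (hab hK a 1)⁻¹ = x := by
    intro x hx
    obtain ⟨t, u, rfl⟩ := (mem_X16_1 hK).1 hx
    rw [hab_conj_P1, Units.val_one, one_mul, one_pow, one_mul]
  have hs : sW hK 1 * hab hK a 1 * (sW hK 1)⁻¹ = hab hK a 1 := by
    rw [s_conj]; simp [tp]
  have hle : rk1 (sys hK) 1 ≤ Subgroup.centralizer {hab hK a 1} := by
    refine sup_le ?_ ?_ <;> intro y hy <;> rw [Subgroup.mem_centralizer_singleton_iff]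
    · exact (mul_inv_eq_iff_eq_mul.1 (hX y ((mem_U_a hK 1).1 hy))).symm
    · rw [U_neg_a] at hy
      obtain ⟨x, hx, rfl⟩ := hy
      show sW hK 1 * x * (sW hK 1)⁻¹ * hab hK a 1 = hab hK a 1 * (sW hK 1 * x * (sW hK 1)⁻¹)
      have := mul_inv_eq_iff_eq_mul.1 (hX x hx)
      calc _ = sW hK 1 * x * (sW hK 1)⁻¹ * (sW hK 1 * hab hK a 1 * (sW hK 1)⁻¹) := by rw [hs]
        _ = sW hK 1 * (x * hab hK a 1) * (sW hK 1)⁻¹ := by group
        _ = sW hK 1 * (hab hK a 1 * x) * (sW hK 1)⁻¹ := by rw [this]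
        _ = (sW hK 1 * hab hK a 1 * (sW hK 1)⁻¹) * (sW hK 1 * x * (sW hK 1)⁻¹) := by group
        _ = _ := by rw [hs]
  exact (Subgroup.mem_centralizer_singleton_iff.1 (hle hl)).symm

end H53.F4Sq
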