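import Cfsg.Agent.H53.RootGroupWeyl

/-!
Groups with a system of root subgroups: every element has conjugates in `V H U`, and the torus part of
such a conjugate can be moved along the rank one subgroups.
-/

set_option autoImplicit false
set_option linter.unusedSectionVars false

namespace H53.Gauss

open H53.RootGroupSys

variable {G : Type*} [Group G] {ι R : Type*}

/-- The subgroup generated by the negative root subgroups other than that of `-a i`. -/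
def Vhat (S : RootGroupSys G ι R) (i : ι) : Subgroup G :=
  Subgroup.closure {g | ∃ r, ¬ S.pos r ∧ r ≠ S.neg (S.a i) ∧ g ∈ S.U r}

/-- Some conjugate of `g` lies in `V h U`. -/
def St (S : RootGroupSys G ι R) (g h : G) : Prop :=
  ∃ x : G, ∃ v ∈ S.Uminus, ∃ u ∈ S.Uplus, x * g * x⁻¹ = v * h * u

/-- Some conjugate of `g` lies in `V h U` and is not central in the Levi subgroup of `i`. -/
def Nc (S : RootGroupSys G ι R) (g h : G) (i : ι) : Prop :=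
  ∃ x : G, ∃ w ∈ Vhat S i, ∃ f ∈ S.U (S.neg (S.a i)), ∃ p ∈ S.U (S.a i), ∃ q ∈ S.Uhat i,
    x * g * x⁻¹ = w * f * h * p * q ∧
      (f ≠ 1 ∨ p ≠ 1 ∨ ∃ e ∈ S.U (S.neg (S.a i)), e * h ≠ h * e)

/-- The extra data: an element exchanging positive and negative root subgroups, abelian torus. -/
structure Opp (S : RootGroupSys G ι R) (n0 : G) : Prop where
  negneg : ∀ r, S.neg (S.neg r) = r
  conj : ∀ r, (S.U r).map (MulAut.conj n0).toMonoidHom = S.U (S.neg r)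
  comm : ∀ x ∈ S.H, ∀ y ∈ S.H, x * y = y * x

variable {S : RootGroupSys G ι R} (hS : S.Axioms) {n0 : G} (hO : Opp S n0)
include hS hO

omit hS in
theorem conj_inv (r : R) : (S.U r).map (MulAut.conj n0⁻¹).toMonoidHom = S.U (S.neg r) := by
  conv_lhs => rw [← hO.negneg r, ← hO.conj (S.neg r), Subgroup.map_map]
  ext g; simp [mul_assoc]

omit hS in
theorem conj_mem_gen {n : G} (hn : ∀ r, (S.U r).map (MulAut.conj n).toMonoidHom = S.U (S.neg r))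
    {A B : Set R} (hAB : ∀ r ∈ A, S.neg r ∈ B) {g : G}
    (hg : g ∈ Subgroup.closure {x | ∃ r ∈ A, x ∈ S.U r}) :
    n * g * n⁻¹ ∈ Subgroup.closure {x | ∃ r ∈ B, x ∈ S.U r} := by
  have h : (Subgroup.closure {x | ∃ r ∈ A, x ∈ S.U r}).map (MulAut.conj n).toMonoidHom ≤
      Subgroup.closure {x | ∃ r ∈ B, x ∈ S.U r} := by
    rw [MonoidHom.map_closure, Subgroup.closure_le]
    rintro _ ⟨x, ⟨r, hr, hx⟩, rfl⟩
    exact Subgroup.subset_closure ⟨S.neg r, hAB r hr, by rw [← hn r]; exact ⟨x, hx, rfl⟩⟩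
  exact h ⟨g, hg, rfl⟩

omit hS hO in
theorem Uplus_set : S.Uplus = Subgroup.closure {x | ∃ r ∈ {r | S.pos r}, x ∈ S.U r} := rfl

omit hS hO in
theorem Uminus_set : S.Uminus = Subgroup.closure {x | ∃ r ∈ {r | ¬ S.pos r}, x ∈ S.U r} := rfl

omit hS hO in
theorem Uhat_set (i : ι) :
    S.Uhat i = Subgroup.closure {x | ∃ r ∈ {r | S.pos r ∧ r ≠ S.a i}, x ∈ S.U r} := by
  rw [Uhat]; congr 1; ext x; simp [and_assoc]

omit hS hO in
theorem Vhat_set (i : ι) : Vhat S i =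
    Subgroup.closure {x | ∃ r ∈ {r | ¬ S.pos r ∧ r ≠ S.neg (S.a i)}, x ∈ S.U r} := by
  rw [Vhat]; congr 1; ext x; simp [and_assoc]

omit hS hO in
theorem Vhat_le (i : ι) : Vhat S i ≤ S.Uminus :=
  Subgroup.closure_mono fun _ ⟨r, h, _, hg⟩ => ⟨r, h, hg⟩

omit hS hO in
theorem Uneg_le_Uminus (hS : S.Axioms) (i : ι) : S.U (S.neg (S.a i)) ≤ S.Uminus :=
  fun _ hg => Subgroup.subset_closure ⟨_, pos_neg_a hS i, hg⟩

theorem n0_Uminus {v : G} (hv : v ∈ S.Uminus) : n0⁻¹ * v * n0 ∈ S.Uplus := by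
  rw [Uminus_set] at hv
  rw [Uplus_set]
  have h := conj_mem_gen hO (conj_inv hO) (B := {r | S.pos r})
    (fun r hr => (hS.pos_neg r).2 hr) hv
  rwa [inv_inv] at h

theorem n0_Uplus {v : G} (hv : v ∈ S.Uplus) : n0 * v * n0⁻¹ ∈ S.Uminus := by
  rw [Uplus_set] at hv
  rw [Uminus_set]
  exact conj_mem_gen hO hO.conj (B := {r | ¬ S.pos r})
    (fun r hr h => (hS.pos_neg r).1 h hr) hv

theorem n0_Vhat (i : ι) {v : G} (hv : v ∈ Vhat S i) : n0⁻¹ * v * n0 ∈ S.Uhat i := by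
  rw [Vhat_set] at hv
  rw [Uhat_set]
  have h := conj_mem_gen hO (conj_inv hO) (B := {r | S.pos r ∧ r ≠ S.a i})
    (fun r hr => ⟨(hS.pos_neg r).2 hr.1, fun e => hr.2 (by rw [← e, hO.negneg])⟩) hv
  rwa [inv_inv] at h

theorem n0_Uhat (i : ι) {v : G} (hv : v ∈ S.Uhat i) : n0 * v * n0⁻¹ ∈ Vhat S i := by
  rw [Uhat_set] at hv
  rw [Vhat_set]
  exact conj_mem_gen hO hO.conj (B := {r | ¬ S.pos r ∧ r ≠ S.neg (S.a i)})
    (fun r hr => ⟨fun h => (hS.pos_neg r).1 h hr.1,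
      fun e => hr.2 (by rw [← hO.negneg r, e, hO.negneg])⟩) hv

omit hS hO in
theorem neg_U (n : G) (r r' : R) (h : (S.U r).map (MulAut.conj n).toMonoidHom = S.U r') {y : G}
    (hy : y ∈ S.U r') : ∃ x ∈ S.U r, y = n * x * n⁻¹ := by
  rw [← h] at hy
  obtain ⟨x, hx, rfl⟩ := hy
  exact ⟨x, hx, rfl⟩

theorem Uneg_conj_Vhat (i : ι) {y w : G} (hy : y ∈ S.U (S.neg (S.a i))) (hw : w ∈ Vhat S i) :
    y * w * y⁻¹ ∈ Vhat S i := by
  obtain ⟨x, hx, rfl⟩ := neg_U n0 _ _ (hO.conj (S.a i)) hy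
  have h := n0_Uhat hS hO i (Ua_conj_Uhat hS i hx (n0_Vhat hS hO i hw))
  simpa [mul_assoc] using h

theorem H_conj_Vhat (i : ι) {h w : G} (hh : h ∈ S.H) (hw : w ∈ Vhat S i) :
    h * w * h⁻¹ ∈ Vhat S i := by
  have : (Vhat S i).map (MulAut.conj h).toMonoidHom ≤ Vhat S i := by
    rw [Vhat, MonoidHom.map_closure, Subgroup.closure_le]
    rintro _ ⟨g, ⟨r, hr, hne, hg⟩, rfl⟩
    exact Subgroup.subset_closure ⟨r, hr, hne, acts_conj_mem (acts_H hS hh) hg⟩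
  exact this ⟨w, hw, rfl⟩

theorem n_conj_Vhat (i : ι) {w : G} (hw : w ∈ Vhat S i) : S.n i * w * (S.n i)⁻¹ ∈ Vhat S i := by
  have : (Vhat S i).map (MulAut.conj (S.n i)).toMonoidHom ≤ Vhat S i := by
    rw [Vhat, MonoidHom.map_closure, Subgroup.closure_le]
    rintro _ ⟨g, ⟨r, hr, hne, hg⟩, rfl⟩
    have h1 : S.pos (S.neg r) := (hS.pos_neg r).2 hr
    have h2 : S.neg r ≠ S.a i := fun e => hne (by rw [← e, hO.negneg])
    have h3 := hS.sigma_pos i _ h1 h2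
    have h4 := sigma_ne_a hS h1 h2 (i := i)
    rw [hS.sigma_neg] at h3 h4
    exact Subgroup.subset_closure ⟨S.σ i r, (hS.pos_neg _).1 h3,
      fun e => h4 (by rw [e, hO.negneg]), acts_conj_mem (acts_n hS i) hg⟩
  exact this ⟨w, hw, rfl⟩

theorem n_inv_conj_Vhat (i : ι) {w : G} (hw : w ∈ Vhat S i) : (S.n i)⁻¹ * w * S.n i ∈ Vhat S i := by
  have h := H_conj_Vhat hS hO i (inv_mem (hS.n_sq i)) (n_conj_Vhat hS hO i hw)
  simpa [mul_assoc] using h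

theorem Ua_conj_Vhat (i : ι) {x w : G} (hx : x ∈ S.U (S.a i)) (hw : w ∈ Vhat S i) :
    x * w * x⁻¹ ∈ Vhat S i := by
  have hy : S.n i * x * (S.n i)⁻¹ ∈ S.U (S.neg (S.a i)) :=
    hS.sigma_a i ▸ acts_conj_mem (acts_n hS i) hx
  have h := n_inv_conj_Vhat hS hO i (Uneg_conj_Vhat hS hO i hy (n_conj_Vhat hS hO i hw))
  simpa [mul_assoc] using h

theorem Uneg_conj_Uhat (i : ι) {y q : G} (hy : y ∈ S.U (S.neg (S.a i))) (hq : q ∈ S.Uhat i) :
    y * q * y⁻¹ ∈ S.Uhat i := by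
  obtain ⟨x, hx, rfl⟩ := Uneg_le hS i hy
  have h := n_conj_Uhat hS i (Ua_conj_Uhat hS i hx (n_inv_conj_Uhat hS i hq))
  simpa [mul_assoc] using h

/-- `V = V̂ U₋ₐ`. -/
theorem Uminus_split (i : ι) {v : G} (hv : v ∈ S.Uminus) :
    ∃ w ∈ Vhat S i, ∃ f ∈ S.U (S.neg (S.a i)), v = w * f := by
  obtain ⟨p, hp, x, hx, e⟩ := Uplus_split hS i (n0_Uminus hS hO hv)
  refine ⟨_, n0_Uhat hS hO i hp, n0 * x * n0⁻¹, ?_, ?_⟩
  · rw [← hO.conj]; exact ⟨x, hx, rfl⟩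
  · calc v = n0 * (n0⁻¹ * v * n0) * n0⁻¹ := by group
      _ = _ := by rw [e]; group

/-- `U = Uₐ Û`. -/
theorem Uplus_split' (i : ι) {u : G} (hu : u ∈ S.Uplus) :
    ∃ p ∈ S.U (S.a i), ∃ q ∈ S.Uhat i, u = p * q := by
  obtain ⟨v, hv, x, hx, e⟩ := Uplus_split hS i hu
  exact ⟨x, hx, x⁻¹ * v * x, by simpa using Ua_conj_Uhat hS i (inv_mem hx) hv, by rw [e]; group⟩

theorem n_conj_U_neg (i : ι) {y : G} (hy : y ∈ S.U (S.neg (S.a i))) :
    S.n i * y * (S.n i)⁻¹ ∈ S.U (S.a i) := by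
  have h := acts_conj_mem (acts_n hS i) hy
  rwa [hS.sigma_neg, hS.sigma_a, hO.negneg] at h

theorem n_inv_H (i : ι) {h : G} (hh : h ∈ S.H) : (S.n i)⁻¹ * h * S.n i ∈ S.H := by
  have h' := mul_mem (mul_mem (inv_mem (hS.n_sq i)) (hS.n_norm i h hh)) (hS.n_sq i)
  simpa [mul_assoc] using h'

theorem H_conj_U {r : R} {h x : G} (hh : h ∈ S.H) (hx : x ∈ S.U r) : h * x * h⁻¹ ∈ S.U r :=
  acts_conj_mem (acts_H hS hh) hx

variable (hne : ∀ r, S.U r ≠ ⊥)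
include hne

/-- Every element is a product `b v b'`. -/
theorem exists_BVB (g : G) :
    ∃ b ∈ S.B, ∃ v ∈ S.Uminus, ∃ b' ∈ S.B, g = b * v * b' := by
  classical
  let Ω : G → Prop := fun g => ∃ b ∈ S.B, ∃ v ∈ S.Uminus, ∃ b' ∈ S.B, g = b * v * b'
  have hB : ∀ z ∈ S.B, ∀ g, Ω g → Ω (z * g) := by
    rintro z hz _ ⟨b, hb, v, hv, b', hb', rfl⟩
    exact ⟨z * b, mul_mem hz hb, v, hv, b', hb', by group⟩
  have hn : ∀ i g, Ω g → Ω (S.n i * g) := by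
    rintro i _ ⟨b, hb, v, hv, b', hb', rfl⟩
    obtain ⟨u, hu, h, hh, rfl⟩ := mem_B hS hb
    obtain ⟨q, hq, x, hx, hux⟩ := Uplus_split hS i (H_conj_Uplus hS (inv_mem hh) hu)
    have hb₀ : S.n i * (h * q) * (S.n i)⁻¹ ∈ S.B := by
      have : S.n i * (h * q) * (S.n i)⁻¹ =
          (S.n i * h * (S.n i)⁻¹) * (S.n i * q * (S.n i)⁻¹) := by group
      rw [this]
      exact mul_mem (H_le_B (hS.n_norm i h hh)) (Uplus_le_B (Uhat_le_Uplus i (n_conj_Uhat hS i hq)))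
    obtain ⟨w, hw, f, hf, rfl⟩ := Uminus_split hS hO i hv
    set w' := S.n i * (x * w * x⁻¹) * (S.n i)⁻¹
    have hw' : w' ∈ Vhat S i := n_conj_Vhat hS hO i (Ua_conj_Vhat hS hO i hx hw)
    have key : S.n i * (u * h * (w * f) * b') =
        (S.n i * (h * q) * (S.n i)⁻¹) * (w' * (S.n i * x * f) * b') := by
      have : u * h = h * q * x := by rw [mul_assoc, ← hux]; group
      rw [this]; simp only [w']; group
    rw [key]
    refine hB _ hb₀ _ ?_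
    have hxB : ∀ {z : G}, z ∈ S.U (S.a i) → z ∈ S.B := fun hz =>
      Uplus_le_B (U_le_Uplus (hS.pos_a i) hz)
    by_cases hf1 : f = 1
    · subst hf1
      obtain ⟨y, hy, hy1⟩ :=
        (S.U (S.neg (S.a i))).bot_or_exists_ne_one.resolve_left (hne _)
      obtain ⟨a, ha, h0, hh0, c, hc, e⟩ := hS.rankone i y hy hy1
      have hn' : S.n i = h0⁻¹ * a⁻¹ * y * c⁻¹ := by rw [e]; group
      refine ⟨h0⁻¹ * a⁻¹, mul_mem (H_le_B (inv_mem hh0)) (hxB (inv_mem ha)),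
        a * (h0 * w' * h0⁻¹) * a⁻¹ * y,
        mul_mem (Vhat_le i (Ua_conj_Vhat hS hO i ha (H_conj_Vhat hS hO i hh0 hw')))
          (Uneg_le_Uminus hS i hy),
        c⁻¹ * x * b', mul_mem (mul_mem (hxB (inv_mem hc)) (hxB hx)) hb', ?_⟩
      rw [hn']; group
    · obtain ⟨a, ha, h0, hh0, c, hc, e⟩ := hS.rankone i f hf hf1
      refine ⟨1, one_mem _, w' * (S.n i * (x * a) * (S.n i)⁻¹),
        mul_mem (Vhat_le i hw') (Uneg_le_Uminus hS i
          (hS.sigma_a i ▸ acts_conj_mem (acts_n hS i) (mul_mem hx ha))),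
        (S.n i * h0 * (S.n i)⁻¹) * (S.n i * S.n i) * c * b',
        mul_mem (mul_mem (mul_mem (H_le_B (hS.n_norm i h0 hh0)) (H_le_B (hS.n_sq i))) (hxB hc)) hb',
        ?_⟩
      rw [e]; group
  have hall : ∀ x ∈ S.B ⊔ S.N, ∀ g, Ω g → Ω (x * g) := by
    intro x hx
    have hle : S.B ⊔ S.N ≤ Subgroup.closure ((S.B : Set G) ∪ Set.range S.n) := by
      refine sup_le (fun z hz => Subgroup.subset_closure (Or.inl hz)) (sup_le ?_ ?_)
      · exact fun z hz => Subgroup.subset_closure (Or.inl (H_le_B hz))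
      · exact Subgroup.closure_mono fun z hz => Or.inr hz
    refine (Subgroup.closure_induction
      (p := fun x _ => (∀ g, Ω g → Ω (x * g)) ∧ ∀ g, Ω g → Ω (x⁻¹ * g)) ?_ ?_ ?_ ?_ (hle hx)).1
    · rintro z (hz | ⟨i, rfl⟩)
      · exact ⟨hB z hz, hB _ (inv_mem hz)⟩
      · refine ⟨hn i, fun g hg => ?_⟩
        obtain ⟨h, hh, he⟩ := n_inv_eq hS i
        rw [he, mul_assoc]
        exact hB h (H_le_B hh) _ (hn i g hg)
    · exact ⟨fun g hg => by simpa using hg, fun g hg => by simpa using hg⟩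
    · rintro x y _ _ ⟨hx, hx'⟩ ⟨hy, hy'⟩
      exact ⟨fun g hg => by rw [mul_assoc]; exact hx _ (hy g hg),
        fun g hg => by rw [mul_inv_rev, mul_assoc]; exact hy' _ (hx' g hg)⟩
    · rintro x _ ⟨hx, hx'⟩
      exact ⟨hx', by simpa using hx⟩
  have := hall g (by rw [sup_eq_top hS]; trivial) 1
    ⟨1, one_mem _, 1, one_mem _, 1, one_mem _, by group⟩
  simpa using this

/-- Every element has a conjugate in `V H U`. -/
theorem exists_St (g : G) : ∃ h ∈ S.H, St S g h := by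
  obtain ⟨b, hb, v, hv, b', hb', rfl⟩ := exists_BVB hS hO hne g
  obtain ⟨u, hu, h, hh, e⟩ := mem_B hS (mul_mem hb' hb)
  refine ⟨h, hh, b⁻¹, v, hv, h⁻¹ * u * h,
    by simpa using H_conj_Uplus hS (inv_mem hh) hu, ?_⟩
  calc b⁻¹ * (b * v * b') * b⁻¹⁻¹ = v * (b' * b) := by group
    _ = _ := by rw [e]; group

omit hne in
theorem St.Nc {g h : G} (hg : St S g h) {i : ι}
    (he : ∃ e ∈ S.U (S.neg (S.a i)), e * h ≠ h * e) : Nc S g h i := by
  obtain ⟨x, v, hv, u, hu, e⟩ := hg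
  obtain ⟨w, hw, f, hf, rfl⟩ := Uminus_split hS hO i hv
  obtain ⟨p, hp, q, hq, rfl⟩ := Uplus_split' hS hO i hu
  exact ⟨x, w, hw, f, hf, p, hp, q, hq, by rw [e]; group, Or.inr (Or.inr he)⟩

/-- Away from `1` some conjugate is not central in one of the Levi subgroups. -/
theorem exists_Nc [Nonempty ι] (hBV : S.B ⊓ S.Uminus = ⊥)
    (hfaith : ∀ h ∈ S.H, (∀ i, ∀ e ∈ S.U (S.neg (S.a i)), e * h = h * e) → h = 1)
    {g : G} (hg : g ≠ 1) : ∃ h ∈ S.H, ∃ i, Nc S g h i := by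
  by_contra hno
  push Not at hno
  have cen : ∀ (x v u h : G), h ∈ S.H → v ∈ S.Uminus → u ∈ S.Uplus → x * g * x⁻¹ = v * h * u →
      h = 1 ∧ ∀ i, v ∈ Vhat S i ∧ u ∈ S.Uhat i := by
    intro x v u h hh hv hu e
    have hi : ∀ i, (∀ e ∈ S.U (S.neg (S.a i)), e * h = h * e) ∧ v ∈ Vhat S i ∧ u ∈ S.Uhat i := by
      intro i
      obtain ⟨w, hw, f, hf, rfl⟩ := Uminus_split hS hO i hv
      obtain ⟨p, hp, q, hq, rfl⟩ := Uplus_split' hS hO i hu
      have h' := hno h hh i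
      have hn : ¬ (f ≠ 1 ∨ p ≠ 1 ∨ ∃ e ∈ S.U (S.neg (S.a i)), e * h ≠ h * e) := fun hor =>
        h' ⟨x, w, hw, f, hf, p, hp, q, hq, by rw [e]; group, hor⟩
      push Not at hn
      obtain ⟨rfl, rfl, h3⟩ := hn
      exact ⟨h3, by rwa [mul_one], by rwa [one_mul]⟩
    exact ⟨hfaith h hh fun i => (hi i).1, fun i => (hi i).2⟩
  let P : G → Prop := fun y => ∀ v u : G, (∀ i, v ∈ Vhat S i) → (∀ i, u ∈ S.Uhat i) →
    (∃ x, x * g * x⁻¹ = v * u) →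
      (∀ i, y * v * y⁻¹ ∈ Vhat S i) ∧ (∀ i, y * u * y⁻¹ ∈ S.Uhat i)
  obtain ⟨i₀⟩ := ‹Nonempty ι›
  have step : ∀ y : G, (∀ v, (∀ i, v ∈ Vhat S i) → y * v * y⁻¹ ∈ S.Uminus) →
      (∀ u, (∀ i, u ∈ S.Uhat i) → y * u * y⁻¹ ∈ S.Uplus) → P y := by
    intro y h1 h2 v u hv hu ⟨x, e⟩
    have hc := cen (y * x) (y * v * y⁻¹) (y * u * y⁻¹) 1 (one_mem _) (h1 v hv) (h2 u hu)
      (by
        calc y * x * g * (y * x)⁻¹ = y * (x * g * x⁻¹) * y⁻¹ := by group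
          _ = _ := by rw [e]; group)
    exact ⟨fun i => (hc.2 i).1, fun i => (hc.2 i).2⟩
  have hP : ∀ y : G, P y ∧ P y⁻¹ := by
    intro y
    have hy : y ∈ S.H ⊔ Subgroup.closure {g | ∃ i, g ∈ S.U (S.a i) ∨ g ∈ S.U (S.neg (S.a i))} :=
      hS.gen.symm ▸ Subgroup.mem_top y
    have hle : S.H ⊔ Subgroup.closure {g | ∃ i, g ∈ S.U (S.a i) ∨ g ∈ S.U (S.neg (S.a i))} ≤
        Subgroup.closure ((S.H : Set G) ∪ {g | ∃ i, g ∈ S.U (S.a i) ∨ g ∈ S.U (S.neg (S.a i))}) :=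
      sup_le (fun z hz => Subgroup.subset_closure (Or.inl hz))
        (Subgroup.closure_mono fun z hz => Or.inr hz)
    refine Subgroup.closure_induction (p := fun y _ => P y ∧ P y⁻¹) ?_ ?_ ?_ ?_ (hle hy)
    · rintro z (hz | ⟨i, hz | hz⟩)
      · have key : ∀ z ∈ S.H, P z := fun z hz =>
          step z (fun v hv => Vhat_le i₀ (H_conj_Vhat hS hO i₀ hz (hv i₀)))
            (fun u hu => Uhat_le_Uplus i₀ (H_conj_Uhat hS i₀ hz (hu i₀)))
        exact ⟨key z hz, key _ (inv_mem hz)⟩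
      · have key : ∀ z ∈ S.U (S.a i), P z := fun z hz =>
          step z (fun v hv => Vhat_le i (Ua_conj_Vhat hS hO i hz (hv i)))
            (fun u hu => Uhat_le_Uplus i (Ua_conj_Uhat hS i hz (hu i)))
        exact ⟨key z hz, key _ (inv_mem hz)⟩
      · have key : ∀ z ∈ S.U (S.neg (S.a i)), P z := fun z hz =>
          step z (fun v hv => Vhat_le i (Uneg_conj_Vhat hS hO i hz (hv i)))
            (fun u hu => Uhat_le_Uplus i (Uneg_conj_Uhat hS hO i hz (hu i)))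
        exact ⟨key z hz, key _ (inv_mem hz)⟩
    · exact ⟨fun v u hv hu _ => by simp [hv, hu], fun v u hv hu _ => by simp [hv, hu]⟩
    · rintro a b _ _ ⟨ha, ha'⟩ ⟨hb, hb'⟩
      have comp : ∀ a b : G, P a → P b → P (a * b) := by
        intro a b ha hb v u hv hu ⟨x, e⟩
        obtain ⟨h1, h2⟩ := hb v u hv hu ⟨x, e⟩
        obtain ⟨h3, h4⟩ := ha _ _ h1 h2 ⟨b * x, by
          calc b * x * g * (b * x)⁻¹ = b * (x * g * x⁻¹) * b⁻¹ := by group
            _ = _ := by rw [e]; group⟩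
        exact ⟨fun i => by simpa [mul_assoc] using h3 i, fun i => by simpa [mul_assoc] using h4 i⟩
      exact ⟨comp _ _ ha hb, by rw [mul_inv_rev]; exact comp _ _ hb' ha'⟩
    · rintro a _ ⟨ha, ha'⟩
      exact ⟨ha', by rwa [inv_inv]⟩
  obtain ⟨h, hh, x, v, hv, u, hu, e⟩ := exists_St hS hO hne g
  obtain ⟨rfl, hvu⟩ := cen x v u h hh hv hu e
  rw [mul_one] at e
  obtain ⟨k1, k2⟩ := (hP n0).1 v u (fun i => (hvu i).1) (fun i => (hvu i).2) ⟨x, e⟩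
  obtain ⟨k1', k2'⟩ := (hP n0).2 v u (fun i => (hvu i).1) (fun i => (hvu i).2) ⟨x, e⟩
  rw [inv_inv] at k1'
  have hv1 : n0⁻¹ * v * n0 = 1 := by
    have : n0⁻¹ * v * n0 ∈ S.B ⊓ S.Uminus := Subgroup.mem_inf.2
      ⟨Uplus_le_B (n0_Uminus hS hO (Vhat_le i₀ (hvu i₀).1)), Vhat_le i₀ (k1' i₀)⟩
    rwa [hBV, Subgroup.mem_bot] at this
  have hu1 : n0 * u * n0⁻¹ = 1 := by
    have : n0 * u * n0⁻¹ ∈ S.B ⊓ S.Uminus := Subgroup.mem_inf.2
      ⟨Uplus_le_B (Uhat_le_Uplus i₀ (k2 i₀)), n0_Uplus hS hO hu⟩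
    rwa [hBV, Subgroup.mem_bot] at this
  have hv2 : v = 1 := by
    have := congrArg (fun z => n0 * z * n0⁻¹) hv1
    simpa [mul_assoc] using this
  have hu2 : u = 1 := conj_eq_one_iff.1 hu1
  rw [hv2, hu2, one_mul] at e
  exact hg (conj_eq_one_iff.1 e)

omit hne in
/-- Moving the torus part along `i`. -/
theorem Nc.move {g h : G} (hh : h ∈ S.H) {i : ι} (hg : Nc S g h i) {c : G} (hc : c ∈ S.H) :
    St S g (c * ((S.n i)⁻¹ * c⁻¹ * S.n i) * h) := by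
  have core : ∀ (x w f h u : G), h ∈ S.H → w ∈ Vhat S i → f ∈ S.U (S.neg (S.a i)) → f ≠ 1 →
      u ∈ S.Uplus → x * g * x⁻¹ = w * f * h * u → ∀ c ∈ S.H,
      St S g (c * ((S.n i)⁻¹ * c⁻¹ * S.n i) * h) := by
    intro x w f h u hh hw hf hf1 hu e c hc
    obtain ⟨a, ha, h0, hh0, b, hb, ef⟩ := hS.rankone i f hf hf1
    set e0 := c * a * c⁻¹ * a⁻¹
    have he0 : e0 ∈ S.U (S.a i) := mul_mem (H_conj_U hS hO hc ha) (inv_mem ha)
    set c' := (S.n i)⁻¹ * c⁻¹ * S.n i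
    have hc' : c' ∈ S.H := n_inv_H hS hO i (inv_mem hc)
    have hxp : ∀ {z : G}, z ∈ S.U (S.a i) → z ∈ S.Uplus := fun hz => U_le_Uplus (hS.pos_a i) hz
    have comm : c⁻¹ * h0 = h0 * c⁻¹ := hO.comm _ (inv_mem hc) _ hh0
    have ef' : e0 * f = (c * f * c⁻¹) * (c * c') * (c'⁻¹ * b⁻¹ * c' * b) := by
      calc e0 * f = c * a * (c⁻¹ * h0) * S.n i * b := by simp only [e0, ef]; group
        _ = c * a * (h0 * c⁻¹) * S.n i * b := by rw [comm]
        _ = _ := by simp only [c', ef]; group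
    refine ⟨e0 * x, e0 * w * e0⁻¹ * (c * f * c⁻¹),
      mul_mem (Vhat_le i (Ua_conj_Vhat hS hO i he0 hw)) (Uneg_le_Uminus hS i (H_conj_U hS hO hc hf)),
      h⁻¹ * (c'⁻¹ * b⁻¹ * c' * b) * h * u * e0⁻¹, ?_, ?_⟩
    · refine mul_mem (mul_mem ?_ hu) (inv_mem (hxp he0))
      have h1 : c'⁻¹ * b⁻¹ * c' * b ∈ S.U (S.a i) := mul_mem
        (by simpa using H_conj_U hS hO (inv_mem hc') (inv_mem hb)) hb
      simpa using H_conj_Uplus hS (inv_mem hh) (hxp h1)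
    · calc e0 * x * g * (e0 * x)⁻¹ = e0 * (x * g * x⁻¹) * e0⁻¹ := by group
        _ = (e0 * w * e0⁻¹) * (e0 * f) * h * u * e0⁻¹ := by rw [e]; group
        _ = _ := by rw [ef']; group
  obtain ⟨x, w, hw, f, hf, p, hp, q, hq, e, hor⟩ := hg
  have hu : p * q ∈ S.Uplus := mul_mem (U_le_Uplus (hS.pos_a i) hp) (Uhat_le_Uplus i hq)
  by_cases hf1 : f = 1
  swap
  · exact core x w f h (p * q) hh hw hf hf1 hu (by rw [e]; group) c hc
  subst hf1
  by_cases hp1 : p = 1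
  swap
  · -- exchange the two root subgroups
    set h' := S.n i * h * (S.n i)⁻¹
    have hh' : h' ∈ S.H := hS.n_norm i h hh
    have hpn : S.n i * p * (S.n i)⁻¹ ∈ S.U (S.neg (S.a i)) := hS.sigma_a i ▸ acts_conj_mem (acts_n hS i) hp
    have hf' : h' * (S.n i * p * (S.n i)⁻¹) * h'⁻¹ ∈ S.U (S.neg (S.a i)) := H_conj_U hS hO hh' hpn
    have hne' : h' * (S.n i * p * (S.n i)⁻¹) * h'⁻¹ ≠ 1 := by simp [conj_eq_one_iff, hp1]
    have h2 := core (S.n i * x) (S.n i * w * (S.n i)⁻¹) (h' * (S.n i * p * (S.n i)⁻¹) * h'⁻¹) h' (S.n i * q * (S.n i)⁻¹) hh'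
      (n_conj_Vhat hS hO i hw) hf' hne' (Uhat_le_Uplus i (n_conj_Uhat hS i hq)) (by
        calc S.n i * x * g * (S.n i * x)⁻¹ = S.n i * (x * g * x⁻¹) * (S.n i)⁻¹ := by group
          _ = _ := by rw [e]; simp only [h']; group) (c * h) (mul_mem hc hh)
    have hq' : (S.n i)⁻¹ * c⁻¹ * S.n i ∈ S.H := n_inv_H hS hO i (inv_mem hc)
    have hhn : (S.n i)⁻¹ * h⁻¹ * S.n i ∈ S.H := n_inv_H hS hO i (inv_mem hh)
    have hnn : S.n i * h * (S.n i)⁻¹ = (S.n i)⁻¹ * h * S.n i := by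
      have hcm := hO.comm _ (hS.n_sq i) _ hh
      calc S.n i * h * (S.n i)⁻¹ = (S.n i)⁻¹ * (S.n i * S.n i * h) * (S.n i * S.n i)⁻¹ * S.n i := by group
        _ = _ := by rw [hcm]; group
    have : c * h * ((S.n i)⁻¹ * (c * h)⁻¹ * S.n i) * h' = c * ((S.n i)⁻¹ * c⁻¹ * S.n i) * h := by
      rw [show h' = (S.n i)⁻¹ * h * S.n i from hnn,
        show (S.n i)⁻¹ * (c * h)⁻¹ * S.n i = ((S.n i)⁻¹ * h⁻¹ * S.n i) * ((S.n i)⁻¹ * c⁻¹ * S.n i) by group,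
        hO.comm _ hhn _ hq', mul_assoc c _ h, hO.comm _ hq' h hh]
      group
    rwa [this] at h2
  subst hp1
  rcases hor with h1 | h1 | ⟨y, hy, hne'⟩
  · exact absurd rfl h1
  · exact absurd rfl h1
  · have hyh : y * (h * y⁻¹ * h⁻¹) ∈ S.U (S.neg (S.a i)) :=
      mul_mem hy (H_conj_U hS hO hh (inv_mem hy))
    refine core (y * x) (y * w * y⁻¹) (y * (h * y⁻¹ * h⁻¹)) h (y * q * y⁻¹) hh
      (Uneg_conj_Vhat hS hO i hy hw) hyh ?_
      (Uhat_le_Uplus i (Uneg_conj_Uhat hS hO i hy hq)) ?_ c hc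
    · intro h1
      apply hne'
      calc y * h = y * (h * y⁻¹ * h⁻¹) * (h * y) := by group
        _ = _ := by rw [h1, one_mul]
    · calc y * x * g * (y * x)⁻¹ = y * (x * g * x⁻¹) * y⁻¹ := by group
        _ = _ := by rw [e]; group

omit hS hO hne in
/-- Without fixed points on a normalised finite subgroup, its coset is one class. -/
theorem exists_absorb [Finite G] {K : Subgroup G} {x : G}
    (hn : ∀ v ∈ K, x * v * x⁻¹ ∈ K) (hfix : ∀ v ∈ K, x * v = v * x → v = 1) {v : G} (hv : v ∈ K) :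
    ∃ r ∈ K, r * x * r⁻¹ = v * x := by
  let φ : K → K := fun r => ⟨r * (x * r⁻¹ * x⁻¹), mul_mem r.2 (hn _ (inv_mem r.2))⟩
  have hφ : Function.Injective φ := by
    intro r s h
    have h' : (r : G) * (x * (r : G)⁻¹ * x⁻¹) = s * (x * (s : G)⁻¹ * x⁻¹) := congrArg Subtype.val h
    have h'' : x * ((s : G)⁻¹ * r) = ((s : G)⁻¹ * r) * x := by
      calc x * ((s : G)⁻¹ * r) = (s : G)⁻¹ * ((s : G) * (x * (s : G)⁻¹ * x⁻¹)) * x * r := by group
        _ = _ := by rw [← h']; group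
    have := hfix _ (mul_mem (inv_mem s.2) r.2) h''
    exact Subtype.ext (inv_mul_eq_one.1 this).symm
  obtain ⟨r, hr⟩ := (Finite.injective_iff_surjective.1 hφ) ⟨v, hv⟩
  refine ⟨r, r.2, ?_⟩
  have h' : (r : G) * (x * (r : G)⁻¹ * x⁻¹) = v := congrArg Subtype.val hr
  rw [← h']; group

omit hS hO hne in
/-- The same on the other side. -/
theorem exists_absorb_right [Finite G] {K : Subgroup G} {x : G}
    (hn : ∀ v ∈ K, x * v * x⁻¹ ∈ K) (hfix : ∀ v ∈ K, x * v = v * x → v = 1) {v : G} (hv : v ∈ K) :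
    ∃ r ∈ K, r * x * r⁻¹ = x * v := by
  obtain ⟨r, hr, e⟩ := exists_absorb hn hfix (hn v hv)
  exact ⟨r, hr, by rw [e]; group⟩

end H53.Gauss
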