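import Cfsg.Agent.H52.F4RankOne
import Cfsg.Agent.H53.GaussMove

/-!
`²F₄(q)`: moves of the torus part of conjugates in `V H U`, and fixed points of torus elements.
-/

set_option autoImplicit false
set_option linter.unusedSectionVars false
set_option maxRecDepth 8000
set_option maxHeartbeats 1000000

namespace H53.F4Sq

open Cfsg.Lie H52 H53 H53.F4T H52.F4N H32.FF H52.F4R H53.Gauss

variable {K : Type*} [Field K] [Fintype K] {m : ℕ} (hK : Fintype.card K = 2 ^ (2 * m + 1))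

/-- The word of the longest element. -/
def lw : List (Fin 2) := [0, 1, 0, 1, 0, 1, 0, 1]

/-- The longest element. -/
noncomputable def nL : ↥(FG K m) := wG hK lw

/-- The parameters of the torus conjugated by the longest element. -/
def J (m : ℕ) (p : Kˣ × Kˣ) : Kˣ × Kˣ := lw.foldl (fun q i => tp m i q) p

include hK

theorem conj_word16 : ∀ (L : List (Fin 2)) (k : Fin 16),
    (U16 hK k).map (MulAut.conj (wG hK L)).toMonoidHom = U16 hK (L.foldr (fun i r => sg i r) k)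
  | [], k => by
    rw [wG_nil]
    ext g; simp
  | i :: L, k => by
    rw [wG_cons, List.foldr_cons, ← conj_U16 hK i, ← conj_word16 L k, Subgroup.map_map]
    congr 1
    ext g; simp [mul_assoc]

theorem opp : Gauss.Opp (sys hK) (nL hK) where
  negneg := (by decide +kernel : ∀ r : Fin 16, neg16 (neg16 r) = r)
  conj r := by
    show (U16 hK r).map _ = U16 hK (neg16 r)
    rw [nL, conj_word16 hK,
      (by decide +kernel : ∀ r : Fin 16, lw.foldr (fun i r => sg i r) r = neg16 r) r]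
  comm x hx y hy := (hab16 hK x hx y hy).eq

theorem hab_inv (a b : Kˣ) : (hab hK a b)⁻¹ = hab hK a⁻¹ b⁻¹ := by
  refine inv_eq_of_mul_eq_one_right ?_
  rw [hab_mul, mul_inv_cancel, mul_inv_cancel, hab_one]

theorem hab_eq_one {a b : Kˣ} (h : hab hK a b = 1) : a = 1 ∧ b = 1 := by
  rw [← hab_one hK] at h
  exact hab_inj hK h

theorem U16_ne_bot (k : Fin 16) : (sys hK).U k ≠ ⊥ := by
  intro h
  obtain e | e : cl k = 0 ∨ cl k = 1 := by omega
  · have h1 : pA hK k 1 ∈ (sys hK).U k := (mem_U16_even hK e).2 ⟨1, rfl⟩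
    rw [h, Subgroup.mem_bot, pA, conj_eq_one_iff] at h1
    exact one_ne_zero (P0_inj hK (h1.trans (P0_zero hK).symm))
  · have h1 : pB hK k 1 0 ∈ (sys hK).U k := (mem_U16_odd hK e).2 ⟨1, 0, rfl⟩
    rw [h, Subgroup.mem_bot, pB, conj_eq_one_iff] at h1
    exact one_ne_zero (P1_inj hK (h1.trans (P1_zero hK).symm)).1

theorem mem_U_neg (i : Fin 2) {x : ↥(FG K m)} (hx : x ∈ X16 hK i) :
    sW hK i * x * (sW hK i)⁻¹ ∈ (sys hK).U ((sys hK).neg ((sys hK).a i)) := by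
  rw [U_neg_a]; exact ⟨x, hx, rfl⟩

/-- A torus element outside the centre of the first Levi subgroup. -/
theorem noncomm0 {a b : Kˣ} (ha : a ≠ 1) : ∃ e ∈ (sys hK).U ((sys hK).neg ((sys hK).a 0)),
    e * hab hK a b ≠ hab hK a b * e := by
  refine ⟨_, mem_U_neg hK 0 ((mem_X16_0 hK).2 ⟨1, rfl⟩), fun h => ha ?_⟩
  have hc : sW hK 0 * hab hK a b * (sW hK 0)⁻¹ = hab hK a⁻¹ (a * b) := s0_conj16 hK a b
  rw [sG_inv] at h hc
  have h3 : hab hK a⁻¹ (a * b) * P0 m 1 * (hab hK a⁻¹ (a * b))⁻¹ = P0 m 1 := by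
    rw [mul_inv_eq_iff_eq_mul, ← hc]
    calc sW hK 0 * hab hK a b * sW hK 0 * P0 m 1
        = sW hK 0 * (hab hK a b * (sW hK 0 * P0 m 1 * sW hK 0)) * (sW hK 0)⁻¹ := by group
      _ = sW hK 0 * (sW hK 0 * P0 m 1 * sW hK 0 * hab hK a b) * (sW hK 0)⁻¹ := by rw [h]
      _ = _ := by
        rw [sG_inv]
        simp only [← mul_assoc, sG_sq, one_mul]
  rw [hab_conj_P0, mul_one] at h3
  exact inv_eq_one.1 (Units.ext (P0_inj hK h3))

/-- A torus element outside the centre of the second Levi subgroup. -/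
theorem noncomm1 {a b : Kˣ} (hb : b ≠ 1) : ∃ e ∈ (sys hK).U ((sys hK).neg ((sys hK).a 1)),
    e * hab hK a b ≠ hab hK a b * e := by
  refine ⟨_, mem_U_neg hK 1 ((mem_X16_1 hK).2 ⟨1, 0, rfl⟩), fun h => hb ?_⟩
  have hc := s_conj hK 1 a b
  rw [sG_inv] at h hc
  have h3 : hab hK (tp m 1 (a, b)).1 (tp m 1 (a, b)).2 * P1 m 1 0 *
      (hab hK (tp m 1 (a, b)).1 (tp m 1 (a, b)).2)⁻¹ = P1 m 1 0 := by
    rw [mul_inv_eq_iff_eq_mul, ← hc]
    calc sW hK 1 * hab hK a b * sW hK 1 * P1 m 1 0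
        = sW hK 1 * (hab hK a b * (sW hK 1 * P1 m 1 0 * sW hK 1)) * (sW hK 1)⁻¹ := by group
      _ = sW hK 1 * (sW hK 1 * P1 m 1 0 * sW hK 1 * hab hK a b) * (sW hK 1)⁻¹ := by rw [h]
      _ = _ := by
        rw [sG_inv]
        simp only [← mul_assoc, sG_sq, one_mul]
  rw [hab_conj_P1, mul_one, mul_zero] at h3
  have h4 : ((tp m 1 (a, b)).2 : K) = 1 := (P1_inj hK h3).1
  simpa [tp] using h4

variable (hm : 1 ≤ m)
include hm

/-- The torus is faithful on the two Levi subgroups. -/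
theorem faith : ∀ h ∈ (sys hK).H,
    (∀ i, ∀ e ∈ (sys hK).U ((sys hK).neg ((sys hK).a i)), e * h = h * e) → h = 1 := by
  intro h hh hall
  obtain ⟨a, b, rfl⟩ := exists_hab16 hK hh
  have ha : a = 1 := by
    by_contra hne
    obtain ⟨e, he, hne'⟩ := noncomm0 hK (b := b) hne
    exact hne' (hall 0 e he)
  have hb : b = 1 := by
    by_contra hne
    obtain ⟨e, he, hne'⟩ := noncomm1 hK (a := a) hne
    exact hne' (hall 1 e he)
  rw [ha, hb, hab_one]

/-- Moving along the first node. -/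
theorem move0 {g : ↥(FG K m)} {a b : Kˣ} (h : Nc (sys hK) g (hab hK a b) 0) (x : Kˣ) :
    St (sys hK) g (hab hK (x * x * a) (x⁻¹ * b)) := by
  have h1 := Nc.move (ax hK hm) (opp hK) (hab_mem16 hK a b) h (c := hab hK x 1) (hab_mem16 hK x 1)
  have e : hab hK x 1 * ((sW hK 0)⁻¹ * (hab hK x 1)⁻¹ * sW hK 0) * hab hK a b =
      hab hK (x * x * a) (x⁻¹ * b) := by
    have hc := s0_conj16 hK x⁻¹ (1 : Kˣ)
    rw [sG_inv] at hc
    rw [sG_inv, hab_inv, inv_one, hc, inv_inv, hab_mul, hab_mul, mul_one, one_mul]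
  exact e ▸ h1

/-- Moving along the second node. -/
theorem move1 {g : ↥(FG K m)} {a b : Kˣ} (h : Nc (sys hK) g (hab hK a b) 1) (y : Kˣ) :
    St (sys hK) g (hab hK (y⁻¹ ^ (2 * 2 ^ m + 2) * a) (y * y * b)) := by
  have h1 := Nc.move (ax hK hm) (opp hK) (hab_mem16 hK a b) h (c := hab hK 1 y) (hab_mem16 hK 1 y)
  have e : hab hK 1 y * ((sW hK 1)⁻¹ * (hab hK 1 y)⁻¹ * sW hK 1) * hab hK a b =
      hab hK (y⁻¹ ^ (2 * 2 ^ m + 2) * a) (y * y * b) := by
    have hc := s1_conj hK (1 : Kˣ) y⁻¹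
    rw [sG_inv] at hc
    rw [sG_inv, hab_inv, inv_one, hc, inv_inv, hab_mul, hab_mul, one_mul, one_mul]
  exact e ▸ h1

/-- The torus parts met by the two moves. -/
def mv (m : ℕ) (p : Kˣ × Kˣ) : Kˣ × Kˣ :=
  (p.1 * p.1 * p.2⁻¹ ^ (2 * 2 ^ m + 2), p.1⁻¹ * (p.2 * p.2))

omit hm in
theorem mv_mul (p p' : Kˣ × Kˣ) : mv m (p * p') = mv m p * mv m p' := by
  ext <;> simp [mv, mul_pow] <;> ring

omit hm in
theorem mv_inj : Function.Injective (mv m : Kˣ × Kˣ → Kˣ × Kˣ) := by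
  let f : Kˣ × Kˣ →* Kˣ × Kˣ := MonoidHom.mk' (mv m) (mv_mul hK)
  show Function.Injective f
  refine (injective_iff_map_eq_one f).2 fun p hp => ?_
  obtain ⟨h1, h2'⟩ := Prod.mk.inj hp
  have hx : p.1 = p.2 * p.2 := inv_mul_eq_one.1 h2'
  have hy : p.2 ^ (2 * 2 ^ m) = p.2 ^ 2 := by
    rw [inv_pow, mul_inv_eq_one, hx, ← sq, ← sq, pow_add] at h1
    rw [sq (p.2 ^ 2)] at h1
    exact mul_right_cancel h1.symm
  have h3 : p.2 ^ (2 * 2 ^ m - 1) = 1 := by
    have h4 := congrArg (fun z => z ^ 2 ^ m) hy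
    simp only [← pow_mul] at h4
    rw [mul_assoc, pow_ee hK] at h4
    have he1 : 1 ≤ 2 * 2 ^ m := by have := Nat.one_le_two_pow (n := m); omega
    have h5 : p.2 ^ (2 * 2 ^ m - 1) * p.2 = 1 * p.2 := by
      rw [← pow_succ, Nat.sub_add_cancel he1, one_mul]; exact h4.symm
    exact mul_right_cancel h5
  have hp2 := units_pow hK p.2 (Or.inr (Or.inr (Or.inr (Or.inr (Or.inr h3)))))
  exact Prod.ext (by rw [hx, hp2, mul_one]; rfl) hp2

omit hm in
/-- The two moves reach everything. -/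
theorem exists_mv (p : Kˣ × Kˣ) : ∃ x y : Kˣ, mv m (x, y) = p := by
  obtain ⟨⟨x, y⟩, h⟩ := (Finite.injective_iff_surjective.1 (mv_inj hK (m := m))) p
  exact ⟨x, y, h⟩

/-- Away from `1` there is a state which is not central at the first node. -/
theorem exists_nc0 {g : ↥(FG K m)} (hg : g ≠ 1) : ∃ a b, Nc (sys hK) g (hab hK a b) 0 := by
  obtain ⟨h, hh, i, hi⟩ := exists_Nc (ax hK hm) (opp hK) (U16_ne_bot hK) (sep hK hm).B_V
    (faith hK hm) hg
  obtain ⟨a, b, rfl⟩ := exists_hab16 hK hh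
  obtain rfl | rfl : i = 0 ∨ i = 1 := by omega
  · exact ⟨a, b, hi⟩
  obtain ⟨z, hz⟩ := one_lt_card hK hm
  by_cases ha : a = 1
  · refine ⟨_, _, St.Nc (ax hK hm) (opp hK) (move1 hK hm hi z) (noncomm0 hK ?_)⟩
    rw [ha, mul_one]
    intro h1
    exact hz (inv_eq_one.1 (units_pow hK z⁻¹ (Or.inr (Or.inr (Or.inl h1)))))
  · have h1 := move1 hK hm hi 1
    rw [inv_one, one_pow, one_mul, one_mul, one_mul] at h1
    exact ⟨a, b, St.Nc (ax hK hm) (opp hK) h1 (noncomm0 hK ha)⟩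

omit hm in
theorem J_inj : Function.Injective (J m : Kˣ × Kˣ → Kˣ × Kˣ) := by
  suffices key : ∀ L : List (Fin 2),
      Function.Injective fun p : Kˣ × Kˣ => L.foldl (fun q i => tp m i q) p from key lw
  intro L
  induction L with
  | nil => exact fun _ _ h => h
  | cons i L ih =>
    intro p q h
    have h1 : tp m i p = tp m i q := ih h
    rw [← tp_tp hK i p, h1, tp_tp hK]

omit hm in
theorem conj_nL (a b : Kˣ) (x : ↥(FG K m)) :
    hab hK a b * (nL hK * x * (nL hK)⁻¹) * (hab hK a b)⁻¹ = nL hK *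
      (hab hK (J m (a, b)).1 (J m (a, b)).2 * x * (hab hK (J m (a, b)).1 (J m (a, b)).2)⁻¹) *
        (nL hK)⁻¹ :=
  hab_conj_wG hK lw (a, b) x

omit hm in
theorem units_fix {w : Kˣ} (h : w ≠ 1) {t : K} (ht : (w : K) * t = t) : t = 0 := by
  by_contra ht0
  exact h (Units.ext ((mul_eq_right₀ ht0).1 ht))

omit hm in
theorem units_fix' {w : Kˣ} (h : w ≠ 1) {t : K} (ht : (w : K) ^ (2 ^ m + 1) * t = t) : t = 0 := by
  refine units_fix hK (w := w ^ (2 ^ m + 1)) (fun h1 =>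
    h (units_pow hK w (Or.inr (Or.inr (Or.inr (Or.inr (Or.inl h1))))))) ?_
  simpa using ht

/-- The fixed points in `U` of a torus element with all weights but the last nontrivial. -/
theorem fix_U {a b : Kˣ} (hw : ∀ k : Fin 16, pos16 k → k ≠ 7 → wt m k (a, b) ≠ 1)
    {u : ↥(FG K m)} (hu : u ∈ (sys hK).Uplus) (hc : hab hK a b * u = u * hab hK a b) :
    u ∈ (sys hK).U ((sys hK).a 1) ∧ (wt m 7 (a, b) ≠ 1 → u = 1) := by
  obtain ⟨p, rfl⟩ := exists_prodPt hK hu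
  have h1 := hab_conj_prodPt hK a b p
  rw [hc, mul_inv_cancel_right] at h1
  have h2 := prodPt_inj hK h1.symm
  obtain ⟨a1, a2, a3, a4, a5, a6, a7, a8, a9, a10, a11, a12⟩ := p
  simp only [Pt.mk.injEq] at h2
  obtain ⟨e1, e2, e3, e4, e5, e6, e7, e8, e9, e10, e11, e12⟩ := h2
  obtain rfl := units_fix hK (hw 0 (by decide) (by decide)) e1
  obtain rfl := units_fix hK (hw 1 (by decide) (by decide)) e2
  obtain rfl := units_fix' hK (hw 1 (by decide) (by decide)) e3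
  obtain rfl := units_fix hK (hw 2 (by decide) (by decide)) e4
  obtain rfl := units_fix hK (hw 3 (by decide) (by decide)) e5
  obtain rfl := units_fix' hK (hw 3 (by decide) (by decide)) e6
  obtain rfl := units_fix hK (hw 4 (by decide) (by decide)) e7
  obtain rfl := units_fix hK (hw 5 (by decide) (by decide)) e8
  obtain rfl := units_fix' hK (hw 5 (by decide) (by decide)) e9
  obtain rfl := units_fix hK (hw 6 (by decide) (by decide)) e10
  refine ⟨?_, fun h7 => ?_⟩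
  · rw [sys_U_a]
    refine (mem_X16_1 hK).2 ⟨a11, a12, ?_⟩
    rw [← pB_base hK (k := 7) (by decide) a11 a12]
    simp [prodPt, pA_zero hK, pB_zero hK]
  obtain rfl := units_fix hK h7 e11
  obtain rfl := units_fix' hK h7 e12
  simp [prodPt, pA_zero hK, pB_zero hK]

/-- The fixed points in `V`. -/
theorem fix_V {a b : Kˣ} (hw : ∀ k : Fin 16, pos16 k → k ≠ 7 → wt m k (J m (a, b)) ≠ 1)
    {v : ↥(FG K m)} (hv : v ∈ (sys hK).Uminus) (hc : hab hK a b * v = v * hab hK a b) :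
    (nL hK)⁻¹ * v * nL hK ∈ (sys hK).U ((sys hK).a 1) ∧
      (wt m 7 (J m (a, b)) ≠ 1 → v = 1) := by
  have hu := n0_Uminus (ax hK hm) (opp hK) hv
  set u := (nL hK)⁻¹ * v * nL hK with hudef
  have hv' : v = nL hK * u * (nL hK)⁻¹ := by rw [hudef]; group
  have h1 := conj_nL hK a b u
  rw [← hv', hc, mul_inv_cancel_right] at h1
  set h' := hab hK (J m (a, b)).1 (J m (a, b)).2
  have h2 : h' * u * h'⁻¹ = u := by
    rw [hudef]
    conv_rhs => rw [h1]
    rw [← hudef]; group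
  obtain ⟨k1, k2⟩ := fix_U hK hm hw hu (mul_inv_eq_iff_eq_mul.1 h2)
  exact ⟨k1, fun h7 => by rw [hv', k2 h7]; group⟩

theorem Uhat1_inf {q : ↥(FG K m)} (hq : q ∈ (sys hK).Uhat 1)
    (h1 : q ∈ (sys hK).U ((sys hK).a 1)) : q = 1 := by
  have hS := ax hK hm
  have h : (sys hK).n 1 * q * ((sys hK).n 1)⁻¹ ∈ (sys hK).B ⊓ (sys hK).Uminus :=
    Subgroup.mem_inf.2 ⟨RootGroupSys.Uplus_le_B (RootGroupSys.Uhat_le_Uplus 1
      (RootGroupSys.n_conj_Uhat hS 1 hq)), Uneg_le_Uminus hS 1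
      (hS.sigma_a 1 ▸ RootGroupSys.acts_conj_mem (RootGroupSys.acts_n hS 1) h1)⟩
  rw [(sep hK hm).B_V, Subgroup.mem_bot] at h
  exact conj_eq_one_iff.1 h

end H53.F4Sq
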