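import Cfsg.Agent.H53.F4Square

/-!
`²F₄(8)`: an element `z r` of the second Levi subgroup, `r` of order `5`, whose class covers by pairs.
-/

set_option autoImplicit false
set_option linter.unusedSectionVars false
set_option maxRecDepth 8000
set_option maxHeartbeats 1000000

namespace H53.F4Sq

open Cfsg.Lie H52 H53 H53.F4T H52.F4N H32.FF H52.F4R H53.Gauss
open H50.CExt H50.Tw

variable {K : Type*} [Field K] [Fintype K] (hK : Fintype.card K = 2 ^ (2 * 1 + 1))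
include hK

theorem pow_seven (a : Kˣ) : a ^ 7 = 1 := by
  classical
  have h := pow_card_eq_one (x := a)
  rwa [Fintype.card_units, hK] at h

theorem J_center (a : Kˣ) : J 1 (a, (1 : Kˣ)) = (a⁻¹, 1) := by
  have h7 := pow_seven hK a
  have hr : ∀ n, a ^ n = a ^ (n % 7) := fun n => pow_eq_pow_mod n h7
  have hi : ∀ n, (a ^ n)⁻¹ = a ^ ((6 * n) % 7) := fun n => by
    refine inv_eq_of_mul_eq_one_right ?_
    rw [← hr, ← pow_add, hr, show (n + 6 * n) % 7 = 0 by omega, pow_zero]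
  have st0 : ∀ i j, tp 1 0 (a ^ i, a ^ j) = (a ^ (6 * i % 7), a ^ ((i + j) % 7)) := fun i j => by
    rw [tp, if_pos rfl, hi, ← pow_add, hr (i + j)]
  have st1 : ∀ i j, tp 1 1 (a ^ i, a ^ j) = (a ^ ((i + 6 * j) % 7), a ^ (6 * j % 7)) :=
    fun i j => by
      rw [tp, if_neg (by decide), hi, ← pow_mul, ← pow_add, hr (i + _),
        show j * (2 * 2 ^ 1 + 2) = 6 * j by omega]
  have e : J 1 (a, (1 : Kˣ)) = (a ^ 6, a ^ 0) := by
    rw [show (a, (1 : Kˣ)) = (a ^ 1, a ^ 0) by rw [pow_one, pow_zero], J, lw]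
    simp only [List.foldl_cons, List.foldl_nil, st0, st1]
  rw [e, pow_zero, show a⁻¹ = a ^ 6 from by simpa using hi 1]

theorem wt_ne {a : Kˣ} (ha : a ≠ 1) (k : Fin 16) (hk : pos16 k) (hk7 : k ≠ 7) :
    wt 1 k (a, 1) ≠ 1 := fun h => ha (wt_fix1 hK hk hk7 h)

/-- No fixed points of `z` in the two radicals of the second node. -/
theorem fix_radical {a : Kˣ} (ha : a ≠ 1) :
    (∀ q ∈ (sys hK).Uhat 1, hab hK a 1 * q = q * hab hK a 1 → q = 1) ∧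
      ∀ w ∈ Vhat (sys hK) 1, hab hK a 1 * w = w * hab hK a 1 → w = 1 := by
  have hS := ax hK le_rfl
  have hO := opp hK (m := 1)
  refine ⟨fun q hq hc => Uhat1_inf hK le_rfl hq
    (fix_U hK le_rfl (wt_ne hK ha) (RootGroupSys.Uhat_le_Uplus 1 hq) hc).1, fun w hw hc => ?_⟩
  have h1 := (fix_V hK le_rfl (a := a) (b := 1) (fun k hk hk7 => by
    rw [J_center hK a]; exact wt_ne hK (inv_ne_one.2 ha) k hk hk7) (Vhat_le 1 hw) hc).1
  have h2 := Uhat1_inf hK le_rfl (n0_Vhat hS hO 1 hw) h1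
  calc w = nL hK * ((nL hK)⁻¹ * w * nL hK) * (nL hK)⁻¹ := by group
    _ = 1 := by rw [h2]; group

/-- `n₀` inverts the kernel of the second weight. -/
theorem nL_center (a : Kˣ) : nL hK * hab hK a 1 * (nL hK)⁻¹ = hab hK a⁻¹ 1 := by
  have h := conj_nL hK (a⁻¹) (1 : Kˣ) (hab hK a 1)
  rw [J_center hK] at h
  simp only [inv_inv, mul_inv_cancel_right] at h
  obtain ⟨c, d, e⟩ : ∃ c d, nL hK * hab hK a 1 * (nL hK)⁻¹ = hab hK c d := by
    have hn : ∀ L : List (Fin 2), ∀ p q : Kˣ, ∃ c d,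
        wG hK L * hab hK p q * (wG hK L)⁻¹ = hab hK c d := by
      intro L
      induction L with
      | nil => exact fun p q => ⟨p, q, by simp [wG_nil]⟩
      | cons i L ih =>
        intro p q
        obtain ⟨c, d, e⟩ := ih p q
        refine ⟨_, _, Eq.trans ?_ (s_conj hK i c d)⟩
        rw [wG_cons, ← e]; group
    exact hn lw a 1
  rw [e] at h ⊢
  -- compare the actions on the root subgroups
  have k1 := conj_nL hK c d (P0 1 1)
  rw [← e] at k1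
  have k2 : nL hK * hab hK a 1 * (nL hK)⁻¹ * (nL hK * P0 1 1 * (nL hK)⁻¹) *
      (nL hK * hab hK a 1 * (nL hK)⁻¹)⁻¹ =
      nL hK * (hab hK a 1 * P0 1 1 * (hab hK a 1)⁻¹) * (nL hK)⁻¹ := by group
  rw [k2, hab_conj_P0, hab_conj_P0, mul_one, mul_one, mul_left_inj, mul_right_inj] at k1
  have k3 := conj_nL hK c d (P1 1 1 0)
  rw [← e] at k3
  have k4 : nL hK * hab hK a 1 * (nL hK)⁻¹ * (nL hK * P1 1 1 0 * (nL hK)⁻¹) *
      (nL hK * hab hK a 1 * (nL hK)⁻¹)⁻¹ =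
      nL hK * (hab hK a 1 * P1 1 1 0 * (hab hK a 1)⁻¹) * (nL hK)⁻¹ := by group
  rw [k4, hab_conj_P1, hab_conj_P1, mul_one, mul_one, mul_left_inj, mul_right_inj] at k3
  have e1 : (J 1 (c, d)).1 = a := Units.ext (P0_inj hK k1).symm
  have e2 : (J 1 (c, d)).2 = 1 := Units.ext (P1_inj hK k3).1.symm
  have e3 : J 1 (c, d) = J 1 (a⁻¹, (1 : Kˣ)) := by
    rw [J_center hK, inv_inv]; exact Prod.ext e1 e2
  obtain ⟨rfl, rfl⟩ := Prod.mk.inj (J_inj hK e3)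
  rfl

theorem nL_rk1 {l : ↥(FG K 1)} (hl : l ∈ rk1 (sys hK) 1) :
    nL hK * l * (nL hK)⁻¹ ∈ rk1 (sys hK) 1 := by
  have hle : (rk1 (sys hK) 1).map (MulAut.conj (nL hK)).toMonoidHom ≤ rk1 (sys hK) 1 := by
    rw [rk1, Subgroup.map_sup]
    refine sup_le ?_ ?_
    · rw [(opp hK).conj]; exact le_sup_right
    · rw [(opp hK).conj, (opp hK).negneg]; exact le_sup_left
  exact hle ⟨l, hl, rfl⟩

/-- The statement for `q = 8`. -/
theorem exists_eight : ∃ x : ↥(FG K 1), Odd (orderOf x) ∧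
    ∀ g : ↥(FG K 1), g ≠ 1 → ∃ u v : ↥(FG K 1), g = (u * x * u⁻¹) * (v * x * v⁻¹) := by
  classical
  have hm : 1 ≤ 1 := le_rfl
  have hS := ax hK hm
  have hO := opp hK (m := 1)
  obtain ⟨⟨eq⟩, -⟩ := exists_suzuki hK hm
  obtain ⟨r0, hr5, hr1, hconj, hsq⟩ := H53.Sz8Sq.exists_five hK
  let r : ↥(FG K 1) := (eq.symm r0).1
  have hrL : r ∈ rk1 (sys hK) 1 := (eq.symm r0).2
  have hconjL : ∀ l ∈ rk1 (sys hK) 1, l ^ 5 = 1 → l ≠ 1 →
      ∃ c ∈ rk1 (sys hK) 1, l = c * r * c⁻¹ := by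
    intro l hl h5 h1
    set l' : ↥(rk1 (sys hK) 1) := ⟨l, hl⟩
    obtain ⟨c, hc⟩ := hconj (eq l') (by rw [← map_pow, show l' ^ 5 = 1 from Subtype.ext h5, map_one])
      (fun h => h1 (congrArg Subtype.val (eq.map_eq_one_iff.1 h)))
    refine ⟨(eq.symm c).1, (eq.symm c).2, ?_⟩
    have h2 := congrArg eq.symm hc
    rw [eq.symm_apply_apply, map_mul, map_mul, map_inv] at h2
    exact congrArg Subtype.val h2
  have hsqL : ∀ l ∈ rk1 (sys hK) 1, l ≠ 1 → ∃ u ∈ rk1 (sys hK) 1, ∃ v ∈ rk1 (sys hK) 1,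
      l = (u * r * u⁻¹) * (v * r * v⁻¹) := by
    intro l hl h1
    obtain ⟨u, v, huv⟩ := hsq (eq ⟨l, hl⟩)
      (fun h => h1 (congrArg Subtype.val (eq.map_eq_one_iff.1 h)))
    refine ⟨(eq.symm u).1, (eq.symm u).2, (eq.symm v).1, (eq.symm v).2, ?_⟩
    have h2 := congrArg eq.symm huv
    rw [eq.symm_apply_apply] at h2
    simp only [map_mul, map_inv] at h2
    exact congrArg Subtype.val h2
  have hr5' : r ^ 5 = 1 := by
    have : (eq.symm r0) ^ 5 = 1 := by rw [← map_pow, hr5, map_one]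
    exact congrArg Subtype.val this
  have hr1' : r ≠ 1 := fun h =>
    hr1 (eq.symm.map_eq_one_iff.1 (Subtype.ext h))
  obtain ⟨ζ, hζ⟩ := one_lt_card hK hm
  set z := hab hK ζ 1 with hzdef
  set x := z * r
  have hzr : Commute z r := center1 hK ζ hrL
  have hab_pow : ∀ (b : Kˣ) (n : ℕ), hab hK b 1 ^ n = hab hK (b ^ n) 1 := by
    intro b n
    induction n with
    | zero => rw [pow_zero, pow_zero, hab_one]
    | succ n ih => rw [pow_succ, pow_succ, ih, hab_mul, mul_one]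
  have hpow5 : ∀ b : Kˣ, b ≠ 1 → b ^ 5 ≠ 1 := by
    intro b hb h5
    have h7 := pow_seven hK b
    have h35 : b ^ 15 = b ^ 14 * b := by rw [← pow_succ]
    rw [show 15 = 5 * 3 by norm_num, pow_mul, h5, one_pow, show 14 = 7 * 2 by norm_num,
      pow_mul, h7, one_pow, one_mul] at h35
    exact hb h35.symm
  -- fixed point free on the radicals
  have fpf : ∀ b : Kˣ, b ≠ 1 →
      (∀ q ∈ (sys hK).Uhat 1, hab hK b 1 * r * q = q * (hab hK b 1 * r) → q = 1) ∧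
        ∀ w ∈ Vhat (sys hK) 1, hab hK b 1 * r * w = w * (hab hK b 1 * r) → w = 1 := by
    intro b hb
    obtain ⟨f1, f2⟩ := fix_radical hK (hpow5 b hb)
    have e5 : (hab hK b 1 * r) ^ 5 = hab hK (b ^ 5) 1 := by
      rw [(show Commute (hab hK b 1) r from center1 hK b hrL).mul_pow, hr5', mul_one, hab_pow]
    exact ⟨fun q hq hc => f1 q hq (e5 ▸ (show Commute _ q from hc).pow_left 5).eq,
      fun w hw hc => f2 w hw (e5 ▸ (show Commute _ w from hc).pow_left 5).eq⟩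
  have nrm : ∀ b : Kˣ, (∀ q ∈ (sys hK).Uhat 1,
      hab hK b 1 * r * q * (hab hK b 1 * r)⁻¹ ∈ (sys hK).Uhat 1) ∧
      ∀ w ∈ Vhat (sys hK) 1, hab hK b 1 * r * w * (hab hK b 1 * r)⁻¹ ∈ Vhat (sys hK) 1 := by
    intro b
    obtain ⟨k1, k2⟩ := rk1_conj hK hm hrL
    constructor <;> intro q hq <;>
      rw [show hab hK b 1 * r * q * (hab hK b 1 * r)⁻¹ =
        hab hK b 1 * (r * q * r⁻¹) * (hab hK b 1)⁻¹ by group]
    · exact RootGroupSys.H_conj_Uhat hS 1 (hab_mem16 hK b 1) (k1 q hq)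
    · exact H_conj_Vhat hS hO 1 (hab_mem16 hK b 1) (k2 q hq)
  -- the other class representative
  have hx' : ∃ d, hab hK ζ⁻¹ 1 * r = d * x * d⁻¹ := by
    have e : nL hK * x * (nL hK)⁻¹ = hab hK ζ⁻¹ 1 * (nL hK * r * (nL hK)⁻¹) := by
      rw [← nL_center hK ζ]; simp only [x, hzdef]; group
    obtain ⟨c, hc, hc'⟩ := hconjL _ (nL_rk1 hK hrL) (by rw [conj_pow, hr5']; group)
      (fun h => hr1' (conj_eq_one_iff.1 h))
    refine ⟨c⁻¹ * nL hK, ?_⟩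
    have hcc := center1 hK ζ⁻¹ (inv_mem hc)
    calc hab hK ζ⁻¹ 1 * r = hab hK ζ⁻¹ 1 * c⁻¹ * (c * r * c⁻¹) * c := by group
      _ = c⁻¹ * (hab hK ζ⁻¹ 1 * (c * r * c⁻¹)) * c := by rw [hcc]; group
      _ = c⁻¹ * (nL hK * x * (nL hK)⁻¹) * c := by rw [e, hc']
      _ = _ := by group
  refine ⟨x, ?_, fun g hg => ?_⟩
  · have h35 : x ^ 35 = 1 := by
      rw [hzr.mul_pow, show (35 : ℕ) = 5 * 7 by norm_num, pow_mul r, hr5', one_pow, mul_one, pow_mul,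
        hzdef, hab_pow, hab_pow, pow_seven hK, hab_one]
    exact Odd.of_dvd_nat (by decide) (orderOf_dvd_of_pow_eq_one h35)
  obtain ⟨a0, b0, h0⟩ := exists_nc0 hK hm hg
  -- products in the coset of `t0` in the Levi subgroup
  have key : ∀ (ζ' : Kˣ), ζ' ≠ 1 → (∃ d, hab hK ζ' 1 * r = d * x * d⁻¹) →
      ∀ (x0 y : Kˣ), St (sys hK) g (hab hK (ζ * ζ') 1 *
        hab hK (y⁻¹ ^ (2 * 2 ^ 1 + 2)) (y * y)) → hab hK (y⁻¹ ^ (2 * 2 ^ 1 + 2)) (y * y) ≠ 1 →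
      ∃ u v : ↥(FG K 1), g = (u * x * u⁻¹) * (v * x * v⁻¹) := by
    intro ζ' hζ' ⟨dd, hdd⟩ x0 y hst hd1
    set d := hab hK (y⁻¹ ^ (2 * 2 ^ 1 + 2)) (y * y)
    have hdL : d ∈ rk1 (sys hK) 1 := by
      have h := (tor_rk1 hK 1 ((1 : Kˣ), y⁻¹)).1
      simp only [tp, if_neg (show ¬ ((1 : Fin 2) = 0) by decide), inv_one, mul_one, one_mul,
        inv_inv] at h
      exact h
    obtain ⟨c, v, hv, u, hu, e⟩ := hst
    obtain ⟨w, hw, f, hf, rfl⟩ := Uminus_split hS hO (1 : Fin 2) hv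
    obtain ⟨p, hp, q, hq, rfl⟩ := Uplus_split' hS hO (1 : Fin 2) hu
    have hfL : f ∈ rk1 (sys hK) 1 := Subgroup.mem_sup_right hf
    have hpL : p ∈ rk1 (sys hK) 1 := Subgroup.mem_sup_left hp
    have hM : f * d * p ∈ rk1 (sys hK) 1 := mul_mem (mul_mem hfL hdL) hpL
    have hM1 : f * d * p ≠ 1 := by
      intro h1
      have hdpB : d * p ∈ (sys hK).B := mul_mem (RootGroupSys.H_le_B (hab_mem16 hK _ _))
        (RootGroupSys.Uplus_le_B (RootGroupSys.U_le_Uplus (hS.pos_a 1) hp))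
      have hf1 : f ∈ (sys hK).B ⊓ (sys hK).Uminus := Subgroup.mem_inf.2
        ⟨by rw [show f = (d * p)⁻¹ from eq_inv_of_mul_eq_one_left (by rw [← h1]; group)]
            exact inv_mem hdpB, Uneg_le_Uminus hS 1 hf⟩
      rw [(sep hK hm).B_V, Subgroup.mem_bot] at hf1
      rw [hf1, one_mul] at h1
      have hd : d ∈ (sys hK).Uplus ⊓ (sys hK).N := Subgroup.mem_inf.2
        ⟨by rw [show d = p⁻¹ from eq_inv_of_mul_eq_one_left h1]
            exact inv_mem (RootGroupSys.U_le_Uplus (hS.pos_a 1) hp),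
          RootGroupSys.H_le_N (hab_mem16 hK _ _)⟩
      rw [(sep hK hm).U_N, Subgroup.mem_bot] at hd
      exact hd1 hd
    obtain ⟨α, hα, β, hβ, hMeq⟩ := hsqL _ hM hM1
    set z' := hab hK ζ' 1
    obtain ⟨r1, -, er1⟩ := exists_absorb (K := Vhat (sys hK) 1) (x := x) (nrm ζ).2 (fpf ζ hζ).2
      (show α⁻¹ * w * α ∈ Vhat (sys hK) 1 by
        simpa using (rk1_conj hK hm (inv_mem hα)).2 w hw)
    obtain ⟨r2, -, er2⟩ := exists_absorb_right (K := (sys hK).Uhat 1) (x := z' * r)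
      (nrm ζ').1 (fpf ζ' hζ').1
      (show β⁻¹ * q * β ∈ (sys hK).Uhat 1 by
        simpa using (rk1_conj hK hm (inv_mem hβ)).1 q hq)
    have cf : hab hK (ζ * ζ') 1 * f = f * hab hK (ζ * ζ') 1 := center1 hK _ hfL
    have zz : hab hK (ζ * ζ') 1 = z * z' := by simp only [z, z']; rw [hab_mul, mul_one]
    have cα : z * α = α * z := center1 hK _ hα
    have cβ : z' * β = β * z' := center1 hK _ hβ
    have cz : z' * (α * r * α⁻¹) = (α * r * α⁻¹) * z' :=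
      center1 hK _ (mul_mem (mul_mem hα hrL) (inv_mem hα))
    refine ⟨c⁻¹ * (α * r1), c⁻¹ * (β * r2 * dd), ?_⟩
    calc g = c⁻¹ * (c * g * c⁻¹) * c := by group
      _ = c⁻¹ * (w * (f * hab hK (ζ * ζ') 1) * d * p * q) * c := by rw [e]; group
      _ = c⁻¹ * (w * z * z' * (f * d * p) * q) * c := by rw [← cf, zz]; group
      _ = c⁻¹ * (w * z * (z' * (α * r * α⁻¹)) * (β * r * β⁻¹) * q) * c := by rw [hMeq]; group
      _ = c⁻¹ * (w * (z * α) * r * α⁻¹ * (z' * β) * r * β⁻¹ * q) * c := by rw [cz]; group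
      _ = c⁻¹ * (α * ((α⁻¹ * w * α) * x) * α⁻¹ * (β * ((z' * r) * (β⁻¹ * q * β)) * β⁻¹)) * c := by
        rw [cα, cβ]; simp only [x]; group
      _ = c⁻¹ * (α * (r1 * x * r1⁻¹) * α⁻¹ * (β * (r2 * (dd * x * dd⁻¹) * r2⁻¹) * β⁻¹)) * c := by
        rw [er1, ← hdd, er2]
      _ = _ := by group
  -- the two cosets
  obtain ⟨x1, y1, h1⟩ := exists_mv hK (m := 1) ((ζ * ζ) * a0⁻¹, b0⁻¹)
  obtain ⟨x2, y2, h2⟩ := exists_mv hK (m := 1) (a0⁻¹, b0⁻¹)
  have step : ∀ (τ : Kˣ) (x0 y : Kˣ), mv 1 (x0, y) = (τ * a0⁻¹, b0⁻¹) →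
      St (sys hK) g (hab hK τ 1 * hab hK ((y⁻¹)⁻¹ ^ (2 * 2 ^ 1 + 2)) (y⁻¹ * y⁻¹)) := by
    intro τ x0 y h
    obtain ⟨e1, e2⟩ := Prod.mk.inj h
    simp only at e1 e2
    have h3 := move0 hK hm h0 x0
    have k1 : x0 * x0 * a0 = τ * y ^ (2 * 2 ^ 1 + 2) := by
      rw [show τ = x0 * x0 * y⁻¹ ^ (2 * 2 ^ 1 + 2) * a0 by rw [e1, inv_mul_cancel_right],
        inv_pow]
      calc x0 * x0 * a0 = x0 * x0 * a0 * ((y ^ (2 * 2 ^ 1 + 2))⁻¹ * y ^ (2 * 2 ^ 1 + 2)) := by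
            rw [inv_mul_cancel, mul_one]
        _ = _ := by ac_rfl
    have k2 : x0⁻¹ * b0 = y⁻¹ * y⁻¹ := by
      rw [← mul_inv, eq_inv_iff_mul_eq_one, mul_assoc, mul_comm b0, ← mul_assoc, e2,
        inv_mul_cancel]
    rw [k1, k2] at h3
    rwa [hab_mul, one_mul, inv_inv]
  have hst1 := step _ _ _ h1
  have hst2 : St (sys hK) g (hab hK (ζ * ζ⁻¹) 1 *
      hab hK ((y2⁻¹)⁻¹ ^ (2 * 2 ^ 1 + 2)) (y2⁻¹ * y2⁻¹)) := by
    rw [mul_inv_cancel]
    exact step 1 x2 y2 (by rw [one_mul]; exact h2)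
  by_cases hy1 : hab hK ((y1⁻¹)⁻¹ ^ (2 * 2 ^ 1 + 2)) (y1⁻¹ * y1⁻¹) = 1
  · refine key ζ⁻¹ (inv_ne_one.2 hζ) hx' x2 y2⁻¹ hst2 fun hy2 => ?_
    have sq1 : ∀ y : Kˣ, hab hK ((y⁻¹)⁻¹ ^ (2 * 2 ^ 1 + 2)) (y⁻¹ * y⁻¹) = 1 → y = 1 := by
      intro y h
      obtain ⟨h1, -⟩ := hab_eq_one hK h
      rw [inv_inv] at h1
      exact units_pow hK y (Or.inr (Or.inr (Or.inl h1)))
    rw [sq1 _ hy1] at h1
    rw [sq1 _ hy2] at h2
    have e1 := congrArg Prod.snd h1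
    have e2 := congrArg Prod.snd h2
    simp only [mv, mul_one] at e1 e2
    obtain rfl : x1 = x2 := inv_inj.1 (e1.trans e2.symm)
    have e3 := congrArg Prod.fst (h1.symm.trans h2)
    simp only at e3
    rw [mul_eq_right] at e3
    haveI := charTwo hK
    refine hζ (Units.ext (frobenius_inj K 2 ?_))
    simp only [frobenius_def, sq]
    exact (congrArg Units.val e3).trans (by simp)
  · exact key ζ hζ ⟨1, by simp only [x, hzdef]; group⟩ x1 y1⁻¹ hst1 hy1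

end H53.F4Sq
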