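import Cfsg.Agent.H13.EA.Abstract
import Cfsg.Agent.H13.EA.TwParam
import Cfsg.Prelude.Def_LocalEven
import Mathlib.GroupTheory.Sylow

/-!
Pairs of proper overgroups of a Sylow subgroup, invariant under the `p`-automorphisms fixing it and
generating the group: the obstruction to `p`-minimality of the almost simple overgroups.
-/

set_option autoImplicit false
set_option linter.unusedSectionVars false

namespace H53

open H13.EA

/-- Two proper overgroups of some Sylow `p`-subgroup generate `K` and are invariant under every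
`p`-element of `Aut K` fixing that Sylow subgroup. -/
def PSplit (p : ℕ) (K : Type*) [Group K] : Prop :=
  ∃ U P Q : Subgroup K, IsPGroup p U ∧ ¬ p ∣ U.index ∧ U ≤ P ∧ U ≤ Q ∧ P ≠ ⊤ ∧ Q ≠ ⊤ ∧ P ⊔ Q = ⊤ ∧
    ∀ α : MulAut K, (∃ k, α ^ p ^ k = 1) → U.map α.toMonoidHom = U →
      P.map α.toMonoidHom = P ∧ Q.map α.toMonoidHom = Q

theorem map_toMonoidHom_pow {K : Type*} [Group K] (α : MulAut K) (W : Subgroup K)
    (h : W.map α.toMonoidHom = W) : ∀ n : ℕ, W.map (α ^ n).toMonoidHom = W
  | 0 => by ext x; simp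
  | n + 1 => by
    rw [pow_succ, show (α ^ n * α).toMonoidHom = (α ^ n).toMonoidHom.comp α.toMonoidHom from rfl,
      ← Subgroup.map_map, h, map_toMonoidHom_pow α W h n]

theorem PSplit.congr {p : ℕ} {K L : Type*} [Group K] [Group L] (e : K ≃* L) (h : PSplit p K) :
    PSplit p L := by
  obtain ⟨U, P, Q, hU, hidx, hUP, hUQ, hP, hQ, hPQ, hinv⟩ := h
  have he : Function.Surjective e.toMonoidHom := e.surjective
  have hne : ∀ W : Subgroup K, W ≠ ⊤ → W.map e.toMonoidHom ≠ ⊤ := fun W hW h =>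
    hW (Subgroup.map_injective (f := e.toMonoidHom) e.injective
      (h.trans (Subgroup.map_top_of_surjective _ he).symm))
  refine ⟨U.map e.toMonoidHom, P.map e.toMonoidHom, Q.map e.toMonoidHom, hU.map _, ?_,
    Subgroup.map_mono hUP, Subgroup.map_mono hUQ, hne P hP, hne Q hQ,
    by rw [← Subgroup.map_sup, hPQ, Subgroup.map_top_of_surjective _ he], fun α hα hfix => ?_⟩
  · rwa [show U.map e.toMonoidHom = U.map (e : K →* L) from rfl, Subgroup.index_map_equiv]
  set β : MulAut K := MulAut.congr e.symm α with hβ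
  have key : ∀ W : Subgroup K, (W.map β.toMonoidHom).map e.toMonoidHom =
      (W.map e.toMonoidHom).map α.toMonoidHom := fun W => by
    rw [Subgroup.map_map, Subgroup.map_map]
    congr 1
    ext x
    simp [hβ, MulAut.congr]
  have hUb : U.map β.toMonoidHom = U :=
    Subgroup.map_injective (f := e.toMonoidHom) e.injective (by rw [key, hfix])
  obtain ⟨k, hk⟩ := hα
  obtain ⟨h1, h2⟩ := hinv β ⟨k, by rw [hβ, ← map_pow, hk, map_one]⟩ hUb
  exact ⟨by rw [← key, h1], by rw [← key, h2]⟩

section Frame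

variable {G : Type*} [Group G] [Finite G] {ι : Type*} [Finite ι] {A : Frame G ι} (hA : A.Hyp)
include hA

theorem par_subset (i : ι) : ({A.s i} : Set G) ⊆ A.P.S := by
  rw [Set.singleton_subset_iff, hA.s_range]; exact ⟨i, rfl⟩

theorem par_inj {i j : ι} (h : A.P.parabolic {A.s i} = A.P.parabolic {A.s j}) : i = j := by
  have hs : A.s i ∈ A.P.parabolic {A.s i} := Subgroup.mem_sup_right (Subgroup.subset_closure rfl)
  rw [h] at hs
  have := (H56.simple_mem_parabolic_iff A.P (par_subset hA j) (par_subset hA i rfl)).1 hs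
  exact hA.s_inj this

/-- An automorphism fixing `U` permutes the minimal parabolics as one fixing `U` and `V` permutes
the simple root subgroups. -/
theorem exists_par_perm (θ : MulAut G) (hU : A.U.map θ.toMonoidHom = A.U) :
    ∃ (θ₀ : MulAut G) (π : Equiv.Perm ι), A.U.map θ₀.toMonoidHom = A.U ∧
      A.V.map θ₀.toMonoidHom = A.V ∧ (∀ i, (A.X i).map θ₀.toMonoidHom = A.X (π i)) ∧
      ∀ i, (A.P.parabolic {A.s i}).map θ.toMonoidHom = A.P.parabolic {A.s (π i)} := by
  have h1 : A.V.map θ.toMonoidHom = A.U.map (MulAut.conj (θ A.n0)).toMonoidHom := by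
    rw [← hA.V_eq, Frame.map_conj_map, hU]
  have h2 : A.U ⊓ A.U.map (MulAut.conj (θ A.n0)).toMonoidHom = ⊥ := by
    have h3 : (A.U ⊓ A.V).map θ.toMonoidHom = ⊥ := by rw [Frame.inf_V_U hA, Subgroup.map_bot]
    rwa [Subgroup.map_inf _ _ _ θ.injective, hU, h1] at h3
  obtain ⟨b, hb, he⟩ := hA.opposite _ h2
  set θ₀ : MulAut G := θ.trans (MulAut.conj b⁻¹) with hθ₀
  have key : ∀ W : Subgroup G, W.map θ₀.toMonoidHom =
      (W.map θ.toMonoidHom).map (MulAut.conj b⁻¹).toMonoidHom := fun W => by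
    rw [Subgroup.map_map]; congr 1
  have hU0 : A.U.map θ₀.toMonoidHom = A.U := by rw [key, hU, Frame.B_norm_U hA (inv_mem hb)]
  have hV0 : A.V.map θ₀.toMonoidHom = A.V := by
    rw [key, h1, he, Frame.map_conj_conj, inv_mul_cancel, Frame.map_conj_one]
  obtain ⟨π, hπ⟩ := Frame.exists_perm hA hU0 hV0
  refine ⟨θ₀, π, hU0, hV0, fun i => (hπ i).1, fun i => ?_⟩
  obtain ⟨j, hj⟩ := Frame.exists_par_map hA hU i
  have hbj : b⁻¹ ∈ A.P.parabolic {A.s j} := Subgroup.mem_sup_left (inv_mem hb)
  have hj0 : (A.P.parabolic {A.s i}).map θ₀.toMonoidHom = A.P.parabolic {A.s j} := by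
    rw [key, hj]
    exact Subgroup.mem_normalizer_iff_map_conj_eq.1 (Subgroup.le_normalizer hbj)
  have hXn : (A.Xn i).map θ₀.toMonoidHom = A.Xn j := by
    rw [← Frame.inf_par hA i, Subgroup.map_inf _ _ _ θ₀.injective, hV0, hj0, Frame.inf_par hA j]
  rw [hj, Frame.Xn_injective hA (hXn.symm.trans (hπ i).2)]

/-- A proper nonempty set of nodes preserved by the `p`-automorphisms gives a split. -/
theorem psplit_of_frame {p : ℕ} (hUp : IsPGroup p A.U) (hidx : ¬ p ∣ A.U.index) (O : Set ι)
    (hO : O.Nonempty) (hO' : Oᶜ.Nonempty)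
    (hsym : ∀ θ : MulAut G, A.U.map θ.toMonoidHom = A.U → A.V.map θ.toMonoidHom = A.V →
      ∀ π : Equiv.Perm ι, (∀ i, (A.X i).map θ.toMonoidHom = A.X (π i)) →
        (∃ k, π ^ p ^ k = 1) → ∀ i ∈ O, π i ∈ O) : PSplit p G := by
  have hsub : ∀ J : Set ι, A.s '' J ⊆ A.P.S := fun J => by
    rw [hA.s_range]; exact Set.image_subset_range _ _
  have hne : ∀ J : Set ι, Jᶜ.Nonempty → A.P.parabolic (A.s '' J) ≠ ⊤ := by
    rintro J ⟨i, hi⟩ h
    have := (H56.simple_mem_parabolic_iff A.P (hsub J) (par_subset hA i rfl)).1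
      (h ▸ Subgroup.mem_top _)
    obtain ⟨j, hj, hji⟩ := this
    exact hi (hA.s_inj hji ▸ hj)
  refine ⟨A.U, A.P.parabolic (A.s '' O), A.P.parabolic (A.s '' Oᶜ), hUp, hidx,
    hA.U_le.trans le_sup_left, hA.U_le.trans le_sup_left, hne _ hO', hne _ (by rwa [compl_compl]),
    ?_, fun α hα hfix => ?_⟩
  · refine eq_top_iff.2 (le_of_eq_of_le (H56.eq_parabolic_of_le A.P (M := ⊤) le_top) ?_)
    refine sup_le (le_sup_of_le_left le_sup_left) ((Subgroup.closure_le _).2 ?_)
    rintro t ⟨ht, -⟩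
    rw [hA.s_range] at ht
    obtain ⟨i, rfl⟩ := ht
    by_cases hi : i ∈ O
    · exact Subgroup.mem_sup_left (Subgroup.mem_sup_right (Subgroup.subset_closure ⟨i, hi, rfl⟩))
    · exact Subgroup.mem_sup_right (Subgroup.mem_sup_right (Subgroup.subset_closure ⟨i, hi, rfl⟩))
  obtain ⟨θ₀, π, hU0, hV0, hX, hpar⟩ := exists_par_perm hA α hfix
  obtain ⟨k, hk⟩ := hα
  have hpow : ∀ n : ℕ, ∀ i, (A.P.parabolic {A.s i}).map (α ^ n).toMonoidHom =
      A.P.parabolic {A.s ((π ^ n) i)} := by
    intro n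
    induction n with
    | zero => intro i; ext x; simp
    | succ n ih =>
      intro i
      rw [pow_succ, show (α ^ n * α).toMonoidHom = (α ^ n).toMonoidHom.comp α.toMonoidHom from rfl,
        ← Subgroup.map_map, hpar, ih, pow_succ, Equiv.Perm.mul_apply]
  have hπ1 : π ^ p ^ k = 1 := Equiv.ext fun i => (par_inj hA (by
    rw [← hpow, hk]; ext x; simp)).symm
  have hO1 : ∀ i ∈ O, π i ∈ O := hsym θ₀ hU0 hV0 π hX ⟨k, hπ1⟩
  have hO2 : ∀ i ∈ Oᶜ, π i ∈ Oᶜ := fun i hi hπi => hi (by
    have himg : π '' O = O := Set.eq_of_subset_of_ncard_le (Set.image_subset_iff.2 hO1)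
      (le_of_eq (Set.ncard_image_of_injective O π.injective).symm)
    obtain ⟨j, hj, hji⟩ := himg.symm ▸ hπi
    rwa [← π.injective hji])
  have hmap : ∀ J : Set ι, (∀ i ∈ J, π i ∈ J) →
      (A.P.parabolic (A.s '' J)).map α.toMonoidHom = A.P.parabolic (A.s '' J) := by
    intro J hJ
    refine Subgroup.eq_of_le_of_card_ge ?_ (le_of_eq
      (Nat.card_congr (Subgroup.equivMapOfInjective _ _ α.injective).toEquiv))
    rw [Subgroup.map_le_iff_le_comap]
    refine sup_le ?_ ((Subgroup.closure_le _).2 ?_)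
    · rw [← Subgroup.map_le_iff_le_comap, Frame.map_B hA hfix]
      exact le_sup_left
    · rintro _ ⟨i, hi, rfl⟩
      have h : α (A.s i) ∈ A.P.parabolic {A.s (π i)} := by
        rw [← hpar i]
        exact ⟨_, Subgroup.mem_sup_right (Subgroup.subset_closure rfl), rfl⟩
      refine (sup_le le_sup_left ((Subgroup.closure_le _).2 ?_) :
        A.P.parabolic {A.s (π i)} ≤ A.P.parabolic (A.s '' J)) h
      rintro _ rfl
      exact Subgroup.mem_sup_right (Subgroup.subset_closure ⟨_, hJ i hi, rfl⟩)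
  exact ⟨hmap O hO1, hmap _ hO2⟩

end Frame

/-- A normal subgroup with a split is not the socle of a `p`-minimal group: the unique maximal
subgroup over a Sylow subgroup would contain it and the normalizer of its Sylow subgroup. -/
theorem PSplit.not_pMinimal {X : Type*} [Group X] [Finite X] {p : ℕ} [Fact p.Prime]
    (K : Subgroup X) [K.Normal] (h : PSplit p ↥K)
    (hne : ∀ V : Subgroup ↥K, IsPGroup p V → ¬ p ∣ V.index →
      Subgroup.normalizer ((V.map K.subtype : Subgroup X) : Set X) ≠ ⊤)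
    (hX : Cfsg.IsPMinimal p X) : False := by
  obtain ⟨U, P, Q, hUp, hidx, hUP, hUQ, hP, hQ, hPQ, hinv⟩ := h
  set U' : Sylow p ↥K := hUp.toSylow hidx with hU'
  have hcoe : (U' : Subgroup ↥K) = U := rfl
  set N := Subgroup.normalizer ((U.map K.subtype : Subgroup X) : Set X) with hN
  have hfr : N ⊔ K = ⊤ := by
    have := Sylow.normalizer_sup_eq_top U'
    rwa [hcoe] at this
  have hUN : U.map K.subtype ≤ N := Subgroup.le_normalizer
  obtain ⟨S₀⟩ : Nonempty (Sylow p ↥N) := inferInstance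
  set S₁ : Subgroup X := (S₀ : Subgroup ↥N).map N.subtype with hS₁
  have hS₁p : IsPGroup p S₁ := S₀.isPGroup'.map _
  have hS₁idx : ¬ p ∣ S₁.index := by
    rw [hS₁, Subgroup.index_map_subtype]
    refine (Fact.out : p.Prime).not_dvd_mul S₀.not_dvd_index fun hd => hidx ?_
    have h1 : N.index ∣ U.index := by
      refine dvd_trans (dvd_of_eq ?_) (Subgroup.index_dvd_of_le (?_ : U ≤ N.subgroupOf K))
      · have e1 := Subgroup.relIndex_mul_index (inf_le_left : N ⊓ K ≤ N)
        have e2 := Subgroup.relIndex_mul_index (inf_le_right : N ⊓ K ≤ K)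
        have e3 : K.relIndex N = K.index := by
          rw [← Subgroup.relIndex_top_right, ← hfr, Subgroup.relIndex_sup_right]
        rw [Subgroup.inf_relIndex_left, e3] at e1
        rw [Subgroup.inf_relIndex_right, ← e1, mul_comm] at e2
        exact (Nat.eq_of_mul_eq_mul_left (Nat.pos_of_ne_zero Subgroup.index_ne_zero_of_finite) e2).symm
      · intro x hx
        exact Subgroup.mem_subgroupOf.2 (hUN ⟨x, hx, rfl⟩)
    exact hd.trans h1
  set S : Sylow p X := hS₁p.toSylow hS₁idx with hS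
  have hSN : (S : Subgroup X) ≤ N := Subgroup.map_subtype_le _
  obtain ⟨-, M, ⟨hM, hSM⟩, huniq⟩ := hX S
  have hover : ∀ W : Subgroup X, (S : Subgroup X) ≤ W → W ≠ ⊤ → W ≤ M := by
    intro W hSW hW
    obtain ⟨M', hM', hWM'⟩ := (eq_top_or_exists_le_coatom W).resolve_left hW
    exact huniq M' ⟨hM', hSW.trans hWM'⟩ ▸ hWM'
  have hNM : N ≤ M := hover N hSN (hne U hUp hidx)
  -- the Sylow subgroup normalizes both members
  have hpart : ∀ W : Subgroup ↥K, U ≤ W → W ≠ ⊤ →
      (∀ α : MulAut ↥K, (∃ k, α ^ p ^ k = 1) → U.map α.toMonoidHom = U → W.map α.toMonoidHom = W) →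
      W.map K.subtype ≤ M := by
    intro W hUW hW hWinv
    have hnorm : (S : Subgroup X) ≤ Subgroup.normalizer ((W.map K.subtype : Subgroup X) : Set X) := by
      intro s hs
      set α : MulAut ↥K := MulAut.conjNormal s with hα
      have key : ∀ V : Subgroup ↥K, (V.map α.toMonoidHom).map K.subtype =
          (V.map K.subtype).map (MulAut.conj s).toMonoidHom := fun V => by
        rw [Subgroup.map_map, Subgroup.map_map]; congr 1
      have hfix : U.map α.toMonoidHom = U := Subgroup.map_injective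
        (f := K.subtype) Subtype.val_injective (by
          rw [key]; exact Subgroup.mem_normalizer_iff_map_conj_eq.1 (hSN hs))
      obtain ⟨k, hk⟩ := S.isPGroup' ⟨s, hs⟩
      have hk' : s ^ p ^ k = 1 := congrArg Subtype.val hk
      refine Subgroup.mem_normalizer_iff_map_conj_eq.2 ?_
      show (W.map K.subtype).map (MulAut.conj s).toMonoidHom = W.map K.subtype
      rw [← key, hWinv α ⟨k, by rw [hα, ← map_pow, hk', map_one]⟩ hfix]
    refine le_trans le_sup_left (hover (W.map K.subtype ⊔ (S : Subgroup X)) le_sup_right fun htop => hW ?_)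
    -- the trace of the product on `K` is `W`
    refine eq_top_iff.2 fun x _ => ?_
    have hx : (x : X) ∈ W.map K.subtype ⊔ (S : Subgroup X) := htop ▸ Subgroup.mem_top _
    rw [← SetLike.mem_coe, Subgroup.coe_mul_of_right_le_normalizer_left _ _ hnorm, Set.mem_mul] at hx
    obtain ⟨_, ⟨w, hw, rfl⟩, s, hs, hws⟩ := hx
    have hsK : s ∈ K := by
      rw [show s = (w : X)⁻¹ * (x : X) by rw [← hws]; exact (inv_mul_cancel_left _ _).symm]
      exact mul_mem (inv_mem w.2) x.2
    have hsU : (⟨s, hsK⟩ : ↥K) ∈ U := by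
      have hS0 : IsPGroup p ((S : Subgroup X).subgroupOf K) :=
        S.isPGroup'.comap_of_injective _ Subtype.val_injective
      have hUS : U ≤ (S : Subgroup X).subgroupOf K ⊔ U := le_sup_right
      have hsup : IsPGroup p (((S : Subgroup X).subgroupOf K ⊔ U : Subgroup ↥K)) :=
        hS0.to_sup_of_normal_right' hUp fun y hy => by
          refine Subgroup.mem_normalizer_iff_map_conj_eq.2
            (Subgroup.map_injective (f := K.subtype) Subtype.val_injective ?_)
          show (U.map (MulAut.conj y).toMonoidHom).map K.subtype = U.map K.subtype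
          rw [Subgroup.map_map, show K.subtype.comp (MulAut.conj y).toMonoidHom =
              (MulAut.conj (y : X)).toMonoidHom.comp K.subtype from by ext; rfl, ← Subgroup.map_map]
          exact Subgroup.mem_normalizer_iff_map_conj_eq.1 (hSN (Subgroup.mem_subgroupOf.1 hy))
      have := U'.3 hsup hUS
      rw [hcoe] at this
      exact this ▸ Subgroup.mem_sup_left (Subgroup.mem_subgroupOf.2 hs)
    have : x = w * ⟨s, hsK⟩ := Subtype.ext hws.symm
    rw [this]
    exact mul_mem hw (hUW hsU)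
  have hKM : K ≤ M := by
    have h1 := sup_le (hpart P hUP hP fun α a b => (hinv α a b).1)
      (hpart Q hUQ hQ fun α a b => (hinv α a b).2)
    rwa [← Subgroup.map_sup, hPQ, ← MonoidHom.range_eq_map, Subgroup.range_subtype] at h1
  exact hM.1 (eq_top_iff.2 (hfr ▸ sup_le hNM hKM))

/-- The form for a simple normal subgroup. -/
theorem PSplit.not_pMinimal_simple {X : Type*} [Group X] [Finite X] {p : ℕ} [Fact p.Prime]
    (K : Subgroup X) [K.Normal] [IsSimpleGroup ↥K] (hdvd : p ∣ Nat.card ↥K) (h : PSplit p ↥K)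
    (hX : Cfsg.IsPMinimal p X) : False := by
  refine h.not_pMinimal K (fun V hV hidx htop => ?_) hX
  obtain ⟨U, P, Q, hUp, hUidx, hUP, -, hP, -⟩ := h
  have hn : V.Normal := ⟨fun v hv g => by
    have hg : (g : X) ∈ Subgroup.normalizer ((V.map K.subtype : Subgroup X) : Set X) := htop ▸ Subgroup.mem_top _
    obtain ⟨w, hw, hwe⟩ := (Subgroup.mem_normalizer_iff.1 hg (v : X)).1 ⟨v, hv, rfl⟩
    rwa [show g * v * g⁻¹ = w from Subtype.ext hwe.symm]⟩
  rcases hn.eq_bot_or_eq_top with rfl | rfl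
  · exact hidx (by rwa [Subgroup.index_bot])
  · refine hP (top_le_iff.1 ((le_of_eq ?_).trans hUP))
    have := (hUp.toSylow hUidx).3 hV le_top
    exact this

end H53
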