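import Cfsg.Agent.H53.PSplitTwo
import Cfsg.Agent.H52.G2Two
import Cfsg.Agent.H50.AutPSUCard
import Cfsg.Agent.H50.Center
import Cfsg.Agent.H13.EA.Out
import Cfsg.Agent.S1059

/-!
A split for `PSU₃(3) ≅ G₂(2)′` at the prime 2.
-/

set_option autoImplicit false
set_option linter.unusedSectionVars false
set_option maxRecDepth 4000

namespace H53

open Cfsg.Lie H13.EA

/-- The node other than `i`, moved root: the neighbour reflection of a simple root. -/
theorem g2_tab : ∀ i : Fin chevG2.rank, ∃ j : Fin chevG2.rank,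
    chevG2.nroots / 2 ≤ chevG2.reflectRoot j.val (chevG2.simple i.val) ∧
      chevG2.nroots / 2 ≤ chevG2.reflectRoot i.val (chevG2.reflectRoot j.val (chevG2.simple i.val)) := by
  decide +kernel

theorem g2_two_move (C : H54.Ctx chevG2) {D : Subgroup ↥(chevG2.group (ZMod 2))} (hD : D.index = 2)
    (k : Fin chevG2.rank) : ∃ y ∈ (frame C (ZMod 2)).U, y ∈ D ∧
      (frame C (ZMod 2)).s k * y * ((frame C (ZMod 2)).s k)⁻¹ ∉ (frame C (ZMod 2)).U := by
  haveI : D.Normal := Subgroup.normal_of_index_eq_two hD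
  have hA := frame_hyp (F := ZMod 2) C
  have hk := C.hC.simple_lt k.isLt
  set x := el C (chevG2.simple k.val) (1 : ZMod 2) with hx
  have hxU : x ∈ (frame C (ZMod 2)).U := hA.X_le k (el_mem_Xs C _ _)
  -- `s x s⁻¹` lies outside `U`
  have hsx : (frame C (ZMod 2)).s k * x * ((frame C (ZMod 2)).s k)⁻¹ ∉ (frame C (ZMod 2)).U := by
    intro h
    have h2 : nn C (chevG2.simple k.val) (1 : ZMod 2) * x * (nn C (chevG2.simple k.val) 1)⁻¹ =
        el C (chevG2.neg (chevG2.simple k.val)) (-1 / 1 ^ 2) := nn_conj_rt C hk one_ne_zero 1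
    have h3 : el C (chevG2.neg (chevG2.simple k.val)) (-1 / 1 ^ 2 : ZMod 2) ∈
        (frame C (ZMod 2)).U ⊓ (frame C (ZMod 2)).V :=
      ⟨h2 ▸ h, hA.Xn_le k (el_mem_Xs C _ _)⟩
    rw [Frame.inf_V_U hA, Subgroup.mem_bot, ← el_zero C (chevG2.neg (chevG2.simple k.val))] at h3
    exact absurd (el_inj C (C.hC.neg_lt hk) h3) (by simp)
  by_cases hxD : x ∈ D
  · exact ⟨x, hxU, hxD, hsx⟩
  obtain ⟨j, hj1, hj2⟩ := g2_tab k
  set r := C.W.sigma j ⟨_, hk⟩ with hr
  have hrv : r.val = chevG2.reflectRoot j.val (chevG2.simple k.val) := C.sigma_val j _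
  have hUmem : ∀ r' : Fin chevG2.nroots, chevG2.nroots / 2 ≤ r'.val →
      Xs (F := ZMod 2) C r'.val ≤ (frame C (ZMod 2)).U := fun r' h => Xs_le_Upos C h r'.isLt
  have hmap := nn_map_Xs (F := ZMod 2) C j ⟨_, hk⟩ one_ne_zero
  obtain ⟨z, hz, hzD⟩ : ∃ z ∈ Xs (F := ZMod 2) C r.val, z ∉ D := by
    refine ⟨_, hmap.le ⟨x, el_mem_Xs C _ _, rfl⟩, fun h => hxD ?_⟩
    have := Subgroup.Normal.conj_mem ‹D.Normal› _ h (nn C (chevG2.simple j.val) (1 : ZMod 2))⁻¹
    simpa [mul_assoc] using this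
  have hsz : (frame C (ZMod 2)).s k * z * ((frame C (ZMod 2)).s k)⁻¹ ∈ (frame C (ZMod 2)).U := by
    refine hUmem (C.W.sigma k r) ?_ ((nn_map_Xs (F := ZMod 2) C k r one_ne_zero).le ⟨z, hz, rfl⟩)
    rw [C.sigma_val, hrv]
    exact hj2
  refine ⟨x * z, mul_mem hxU (hUmem r (hrv ▸ hj1) hz),
    (Subgroup.mul_mem_iff_of_index_two hD).2 (iff_of_false hxD hzD), fun h => hsx ?_⟩
  have := mul_mem h (inv_mem hsz)
  simpa [mul_assoc] using this

theorem card_g2Der : Nat.card ↥(commutator ↥(chevG2.group (ZMod 2))) = 6048 := by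
  classical
  obtain ⟨e⟩ := H52.g2_two_iso
  rw [Nat.card_congr e.toEquiv]
  have h := H50.card_PSU_mul H52.card_K9_fintype (n := 3) (by norm_num)
  rw [H50.card_GU H52.card_K9_fintype] at h
  generalize Nat.card (Cfsg.PSU 3 H37.K9 3) = c at h ⊢
  norm_num [Finset.prod_range_succ, Nat.even_iff] at h
  omega

theorem index_g2Der : (commutator ↥(chevG2.group (ZMod 2))).index = 2 := by
  have h := (commutator ↥(chevG2.group (ZMod 2))).card_mul_index
  rw [card_g2Der, Cfsg.Agent.S1059.result (F := ZMod 2) (q := 2) (ZMod.card 2)] at h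
  norm_num at h
  omega

theorem g2Two_B (C : H54.Ctx chevG2) :
    (frame C (ZMod 2)).P.B = (frame C (ZMod 2)).U := by
  have hA := frame_hyp (F := ZMod 2) C
  refine le_antisymm (fun b hb => ?_) hA.U_le
  obtain ⟨u, hu, h, hh, rfl⟩ := hA.B_eq b hb
  refine mul_mem hu ?_
  have hh' : (h : GL chevG2.Idx (ZMod 2)) ∈ chevG2.diagonalSubgroup (ZMod 2) :=
    Subgroup.mem_subgroupOf.1 hh
  rw [C.hC.diagonalSubgroup_eq] at hh'
  obtain ⟨c, hc⟩ := hh'
  have : h = 1 := Subtype.ext (by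
    rw [← hc, Subsingleton.elim c 1, map_one]
    rfl)
  rw [this]
  exact Subgroup.one_mem _

theorem g2Two_centralizer (C : H54.Ctx chevG2) (g : ↥(chevG2.group (ZMod 2)))
    (hcomm : ∀ d ∈ commutator ↥(chevG2.group (ZMod 2)), Commute g d) : g = 1 := by
  classical
  set D := commutator ↥(chevG2.group (ZMod 2))
  by_cases hgD : g ∈ D
  · obtain ⟨e⟩ := H52.g2_two_iso
    haveI : IsSimpleGroup (Cfsg.PSU 3 H37.K9 3) :=
      H50.PSU_isSimple H52.card_K9_fintype le_rfl (by norm_num)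
    haveI : IsSimpleGroup ↥D := e.isSimpleGroup_congr.mpr ‹_›
    have hc : (⟨g, hgD⟩ : ↥D) ∈ Subgroup.center ↥D :=
      Subgroup.mem_center_iff.2 fun d => Subtype.ext (hcomm d d.2).eq.symm
    rcases (inferInstance : (Subgroup.center ↥D).Normal).eq_bot_or_eq_top with h | h
    · rw [h, Subgroup.mem_bot] at hc
      exact congrArg Subtype.val hc
    · letI : CommGroup ↥D :=
        { (inferInstance : Group ↥D) with
          mul_comm := fun a b => (Subgroup.mem_center_iff.1 (h ▸ Subgroup.mem_top b) a) }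
      have hp : (Nat.card ↥D).Prime := IsSimpleGroup.prime_card
      rw [card_g2Der] at hp
      norm_num at hp
  · refine center_trivial C (MulEquiv.ext fun y => ?_)
    have hcy : Commute g y := by
      by_cases hy : y ∈ D
      · exact hcomm y hy
      · have h1 : g⁻¹ * y ∈ D := (Subgroup.mul_mem_iff_of_index_two index_g2Der).2
          (iff_of_false (fun h => hgD (inv_mem_iff.1 h)) hy)
        have h2 : Commute g (g * (g⁻¹ * y)) := (Commute.refl g).mul_right (hcomm _ h1)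
        rwa [mul_inv_cancel_left] at h2
    rw [MulAut.conj_apply, MulAut.one_apply, hcy.eq, mul_inv_cancel_right]

theorem card_mulAut_congr {G : Type*} [Group G] (D : Subgroup G) {H : Type*} [Group H]
    (e : ↥D ≃* H) : Nat.card (MulAut ↥D) = Nat.card (MulAut H) :=
  Nat.card_congr (MulAut.congr e).toEquiv

theorem g2Two_aut (C : H54.Ctx chevG2) [(commutator ↥(chevG2.group (ZMod 2))).Normal]
    (α : MulAut ↥(commutator ↥(chevG2.group (ZMod 2)))) :
    ∃ g : ↥(chevG2.group (ZMod 2)), MulAut.conjNormal g = α := by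
  classical
  haveI : Fact (Nat.Prime 3) := ⟨Nat.prime_three⟩
  have hinj : Function.Injective (MulAut.conjNormal :
      ↥(chevG2.group (ZMod 2)) →* MulAut ↥(commutator ↥(chevG2.group (ZMod 2)))) := by
    rw [injective_iff_map_eq_one]
    intro g hg
    refine g2Two_centralizer C g fun d hd => ?_
    have := congrArg Subtype.val (MulEquiv.congr_fun hg ⟨d, hd⟩)
    simp only [MulAut.conjNormal_apply, MulAut.one_apply] at this
    exact mul_inv_eq_iff_eq_mul.1 this
  obtain ⟨e⟩ := H52.g2_two_iso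
  have hcard : Nat.card (MulAut ↥(commutator ↥(chevG2.group (ZMod 2)))) =
      Nat.card ↥(chevG2.group (ZMod 2)) := by
    have haut : Nat.card (MulAut (Cfsg.PSU 3 H37.K9 3)) =
        Nat.gcd 3 (3 + 1) * (2 * 1) * Nat.card (Cfsg.PSU 3 H37.K9 3) :=
      H50.card_mulAut_PSU (F := H37.K9) (n := 3) (q := 3) H52.card_K9_fintype (p := 3) (f := 1)
        (pow_one 3).symm le_rfl (fun h => absurd h.2 (by decide))
    rw [card_mulAut_congr _ e, haut,
      ← Nat.card_congr e.toEquiv, card_g2Der,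
      Cfsg.Agent.S1059.result (F := ZMod 2) (q := 2) (ZMod.card 2)]
    norm_num
  haveI : Finite (MulAut ↥(commutator ↥(chevG2.group (ZMod 2)))) :=
    Finite.of_injective _ (DFunLike.coe_injective (F := MulAut ↥(commutator ↥(chevG2.group (ZMod 2)))))
  exact (hinj.bijective_of_nat_card_le hcard.le).2 α

theorem psplit_g2_two : PSplit 2 ↥(commutator ↥(chevG2.group (ZMod 2))) := by
  classical
  haveI : Fact (Nat.Prime 2) := ⟨Nat.prime_two⟩
  obtain ⟨C⟩ := H54.exists_ctx (D := chevG2) (by simp)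
  haveI : (commutator ↥(chevG2.group (ZMod 2))).Normal := Subgroup.normal_of_index_eq_two index_g2Der
  obtain ⟨P, hPU⟩ := C.exists_sylow (F := ZMod 2) 2
  have hPU' : (P : Subgroup ↥(chevG2.group (ZMod 2))) = (frame C (ZMod 2)).U := hPU
  have hUp : IsPGroup 2 (frame C (ZMod 2)).U := hPU' ▸ P.isPGroup'
  have hidx : ¬ 2 ∣ (frame C (ZMod 2)).U.index := hPU' ▸ P.not_dvd_index
  refine psplit_index_two (frame_hyp C) index_g2Der (g2Two_B C) hUp hidx
    (⟨0, by decide⟩ : Fin chevG2.rank) ⟨1, by decide⟩ (by decide) ?_ ?_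
  · decide
  · exact inv_of_conjNormal (frame_hyp C) index_g2Der (g2Two_B C) hUp hidx (g2Two_aut C)
      (g2_two_move C index_g2Der)

theorem psplit_psu33 {G : Type*} [Group G]
    (h : ∃ (F : Type) (_ : Field F) (_ : Fintype F), Fintype.card F = 9 ∧
      Nonempty (G ≃* Cfsg.PSU 3 F 3)) : PSplit 2 G := by
  obtain ⟨F, _, _, hF, ⟨e⟩⟩ := h
  obtain ⟨e'⟩ := H52.g2_two_psu (F := ZMod 2) (ZMod.card 2) hF
  exact psplit_g2_two.congr (e'.trans e.symm)

end H53
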