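import Cfsg.Agent.H53.PSplit
import Cfsg.Agent.H13.EA.Sym
import Cfsg.Agent.H13.EA.TwAuts
import Cfsg.Agent.H13.EA.TwInst
import Cfsg.Agent.H52.Seven
import Cfsg.Agent.H32.F4Base
import Cfsg.Prelude.Def_LieTypeChar

/-!
Splits for the exceptional Chevalley groups and for `³D₄`, `²E₆`, `²F₄`.
-/

set_option autoImplicit false
set_option linter.unusedSectionVars false
set_option maxRecDepth 4000

namespace H53

open Cfsg.Lie H52 H13.EA

variable {p : ℕ} [Fact p.Prime]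

theorem psplit_chev {D : ChevalleyDatum}
    (hD : D ∈ [chevG2, chevB2, chevD4, chevF4, chevE6, chevE7, chevE8])
    (F : Type*) [Field F] [Fintype F] [CharP F p] (O : Set (Fin D.rank)) (hO : O.Nonempty)
    (hO' : Oᶜ.Nonempty)
    (hsym : ∀ C : H54.Ctx D, ∀ π ∈ symSet C F, (∃ k, π ^ p ^ k = 1) → ∀ i ∈ O, π i ∈ O) :
    PSplit p ↥(D.group F) := by
  obtain ⟨C⟩ := H54.exists_ctx hD
  have hdiag := diagFacts_of_mem hD
  obtain ⟨P, hP⟩ := C.exists_sylow (F := F) p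
  have hPU : (P : Subgroup ↥(D.group F)) = (frame C F).U := hP
  refine psplit_of_frame (frame_hyp C) (hPU ▸ P.isPGroup') (hPU ▸ P.not_dvd_index) O hO hO'
    fun θ hU hV π hπ hk => hsym C π ?_ hk
  obtain ⟨π', c, σ, -, -, hpar⟩ := exists_param C hdiag (show θ ∈ A0 C F from ⟨hU, hV⟩)
  have h : π = π' := Equiv.ext fun i => by
    obtain ⟨u, hu⟩ := (hπ i).le ⟨_, el_mem_Xs C (D.simple i.val) 1, rfl⟩
    have h1 := (hpar i 1).1.symm.trans hu
    simp only [map_one, one_pow, mul_one] at h1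
    exact (simple_inj C
      (el_eq_el C (C.hC.simple_lt (π' i).isLt) (C.hC.simple_lt (π i).isLt) (c i).ne_zero h1).1).symm
  exact ⟨θ, c, σ, h ▸ hpar⟩

theorem psplit_adj {D : ChevalleyDatum} {L : List (List ℕ)}
    (hD : D ∈ [chevG2, chevB2, chevD4, chevF4, chevE6, chevE7, chevE8]) (hL : ext D D.rank = L)
    (O : List ℕ) (hok : ∃ i j : Fin D.rank, i.val ∈ O ∧ j.val ∉ O)
    (hLO : ∀ l ∈ L, ∀ i ∈ O, i < D.rank → l.getD i 0 ∈ O)
    (F : Type*) [Field F] [Fintype F] [CharP F p] : PSplit p ↥(D.group F) := by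
  obtain ⟨i, j, hi, hj⟩ := hok
  refine psplit_chev hD F {i | i.val ∈ O} ⟨i, hi⟩ ⟨j, hj⟩ fun C π hπ _ k hk => ?_
  have := hLO _ (adj_cases hL (adj_of_symSet C (diagFacts_of_mem hD) hπ)) k.val hk k.isLt
  rwa [permList_getD π k.isLt k.isLt] at this

theorem psplit_G2 (F : Type*) [Field F] [Fintype F] [CharP F p] (hq : 3 ≤ Fintype.card F) :
    PSplit p ↥(chevG2.group F) := by
  refine psplit_chev (by simp) F {(⟨0, by decide⟩ : Fin chevG2.rank)} ⟨_, rfl⟩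
    ⟨⟨1, by decide⟩, by decide⟩ fun C π hπ ⟨k, hk⟩ i hi => ?_
  suffices π = 1 by simpa [this] using hi
  have hcard := symSet_G2 (F := F) C (by rwa [Nat.card_eq_fintype_card])
  rw [ringChar.eq F p] at hcard
  split_ifs at hcard with h3
  · subst h3
    have key : ∀ σ : Equiv.Perm (Fin chevG2.rank), σ ^ 2 = 1 := by decide +kernel
    have h2 := key π
    have h1 : orderOf π ∣ Nat.gcd 2 (3 ^ k) :=
      Nat.dvd_gcd (orderOf_dvd_of_pow_eq_one h2) (orderOf_dvd_of_pow_eq_one hk)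
    rw [(Nat.Coprime.pow_right k (by decide : Nat.Coprime 2 3)).gcd_eq_one, Nat.dvd_one] at h1
    exact orderOf_eq_one_iff.1 h1
  · obtain ⟨a, ha⟩ := Nat.card_eq_one_iff_exists.1 hcard
    exact congrArg Subtype.val ((ha ⟨π, hπ⟩).trans (ha ⟨1, one_mem_symSet C⟩).symm)

theorem psplit_exceptional {G : Type*} [Group G] (h : Cfsg.IsExceptionalChevChar p G) :
    PSplit p G := by
  obtain ⟨F, _, _, _, h⟩ := h
  rcases h with ⟨hq, ⟨e⟩⟩ | ⟨⟨e⟩⟩ | ⟨⟨e⟩⟩ | ⟨⟨e⟩⟩ | ⟨⟨e⟩⟩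
  · exact (psplit_G2 F hq).congr e.symm
  · exact (psplit_adj (by simp) ext_F4 [0, 3] ⟨⟨0, by decide⟩, ⟨1, by decide⟩, by decide, by decide⟩
      (by decide) F).congr e.symm
  · exact (psplit_adj (by simp) ext_E6 [1] ⟨⟨1, by decide⟩, ⟨0, by decide⟩, by decide, by decide⟩
      (by decide) F).congr e.symm
  · exact (psplit_adj (by simp) ext_E7 [0] ⟨⟨0, by decide⟩, ⟨1, by decide⟩, by decide, by decide⟩
      (by decide) F).congr e.symm
  · exact (psplit_adj (by simp) ext_E8 [0] ⟨⟨0, by decide⟩, ⟨1, by decide⟩, by decide, by decide⟩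
      (by decide) F).congr e.symm

theorem psplit_twist {D D' : ChevalleyDatum} {Fl : Fold D D'} {T : Tables} {K : Type*} [Field K]
    [Fintype K] [CharP K p] (X : Twist Fl T K) {q : ℕ} {J₀ : Fin D'.rank} (hF : TwFacts X q J₀)
    (hr : 1 < D'.rank) : PSplit p ↥X.grp := by
  classical
  obtain ⟨P, hP⟩ := exists_tsylow X p
  have hPU : (P : Subgroup ↥X.grp) = (tframe X).U := hP
  obtain ⟨j, hj⟩ : ∃ j : Fin D'.rank, j ≠ J₀ := by
    haveI : Nontrivial (Fin D'.rank) := Fin.nontrivial_iff_two_le.2 hr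
    exact exists_ne J₀
  refine psplit_of_frame (tframe_hyp X) (hPU ▸ P.isPGroup') (hPU ▸ P.not_dvd_index) {J₀}
    ⟨J₀, rfl⟩ ⟨j, hj⟩ fun θ hU hV π hπ _ i hi => ?_
  rwa [Frame.X_injective (tframe_hyp X) ((hπ i).symm.trans (fix_classes hF θ hU hV i).1)]

theorem psplit_twisted {G : Type*} [Group G] (h : Cfsg.IsTwistedE6D4Char p G) : PSplit p G := by
  obtain ⟨K, _, _, _, q, hq, ⟨hK, ⟨e⟩⟩ | ⟨hK, ⟨e⟩⟩⟩ := h
  · obtain ⟨T, X, hf⟩ := exists_twistE6 hq hK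
    exact (psplit_twist X (e6_twFacts X hf hK) (by decide)).congr
      (e.trans (MulEquiv.subgroupCongr (twistE6_grp X hf hK)).symm).symm
  · obtain ⟨T, X, hf⟩ := exists_twistD4 hq hK
    exact (psplit_twist X (d4_twFacts X hf hK) (by decide)).congr
      (e.trans (MulEquiv.subgroupCongr (twistD4_grp X hf hK)).symm).symm

theorem psplit_F4Ree {G : Type*} [Group G] (h : Cfsg.Lie.Iso2F4 G) : PSplit 2 G := by
  obtain ⟨K, _, _, m, -, hK, ⟨e⟩⟩ := h
  haveI : Fact (Nat.Prime 2) := ⟨Nat.prime_two⟩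
  obtain ⟨P, hP⟩ := H32.FF.exists_sylow hK
  refine (psplit_of_frame (H32.TwistFrame.frame_hyp (H32.FF.hT hK) (H32.FF.extra hK))
    (hP ▸ P.isPGroup') (hP ▸ P.not_dvd_index) {(0 : Fin 2)} ⟨0, rfl⟩ ⟨1, by decide⟩
    fun θ _ _ π hπ _ i hi => ?_).congr
      ((Subgroup.subgroupOfEquivOfLe (F4T.twisted_le (K := K) (2 ^ m))).trans e.symm)
  have hi' : i = 0 := hi
  subst hi'
  by_contra hne
  have h1 : π 0 = 1 := ((Fin.exists_fin_two (p := fun x => π 0 = x)).1 ⟨π 0, rfl⟩).resolve_left hne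
  have h2 := hπ 0
  rw [h1] at h2
  have hc : Nat.card ↥(H32.TwistFrame.XG (H32.FF.TD hK) 0) =
      Nat.card ↥(H32.TwistFrame.XG (H32.FF.TD hK) 1) :=
    (Nat.card_congr (Subgroup.equivMapOfInjective _ _ θ.injective).toEquiv).trans
      (congrArg (fun W : Subgroup _ => Nat.card ↥W) h2)
  rw [H32.FF.card_X0 hK, H32.FF.card_X1 hK] at hc
  have h4 : 2 ≤ Fintype.card K := Fintype.one_lt_card
  nlinarith [hc]

end H53
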