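import Cfsg.Agent.H53.PSplitLie

/-!
Splits in a normal subgroup of index two of a group with a split BN pair without torus.
-/

set_option autoImplicit false
set_option linter.unusedSectionVars false

namespace H53

open H13.EA

section IndexTwo

variable {G : Type*} [Group G] [Finite G] {ι : Type*} [Finite ι] {A : Frame G ι} (hA : A.Hyp)
  {D : Subgroup G} (hD : D.index = 2) (hB : A.P.B = A.U) (hUp : IsPGroup 2 A.U)
  (hidx : ¬ 2 ∣ A.U.index)
include hA hD hB hUp hidx

theorem not_U_le_two : ¬ A.U ≤ D := fun h => hidx (hD ▸ Subgroup.index_dvd_of_le h)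

/-- The minimal parabolic traced on `D`. -/
def parD (A : Frame G ι) (D : Subgroup G) (k : ι) : Subgroup ↥D :=
  (A.P.parabolic {A.s k}).subgroupOf D

theorem parD_mul (k : ι) {g : G} (hg : g ∈ A.P.parabolic {A.s k}) :
    ∃ b ∈ A.U, g * b ∈ A.P.parabolic {A.s k} ⊓ D := by
  by_cases h : g ∈ D
  · exact ⟨1, one_mem _, by rw [mul_one]; exact ⟨hg, h⟩⟩
  · obtain ⟨b, hb, hbD⟩ := SetLike.not_le_iff_exists.1 (not_U_le_two hA hD hB hUp hidx)
    exact ⟨b, hb, mul_mem hg (Subgroup.mem_sup_left (hA.U_le hb)),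
      (Subgroup.mul_mem_iff_of_index_two hD).2 (iff_of_false h hbD)⟩

/-- The core: a family of invariant traces of minimal parabolics gives a split. -/
theorem psplit_index_two (k0 k1 : ι) (hne : k0 ≠ k1) (hall : ∀ k, k = k0 ∨ k = k1)
    (hinv : ∀ α : MulAut ↥D, (A.U.subgroupOf D).map α.toMonoidHom = A.U.subgroupOf D →
      ∀ k, (parD A D k).map α.toMonoidHom = parD A D k) : PSplit 2 ↥D := by
  haveI : Fact (Nat.Prime 2) := ⟨Nat.prime_two⟩
  haveI : D.Normal := Subgroup.normal_of_index_eq_two hD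
  have hUD := not_U_le_two hA hD hB hUp hidx
  have hUP : ∀ k, A.U ≤ A.P.parabolic {A.s k} := fun k => hA.U_le.trans le_sup_left
  have hsub : ∀ k : ι, ({A.s k} : Set G) ⊆ A.P.S := fun k => par_subset hA k
  have hsk : ∀ k l, A.s l ∈ A.P.parabolic {A.s k} → l = k := fun k l h =>
    hA.s_inj ((H56.simple_mem_parabolic_iff A.P (hsub k) (hsub l rfl)).1 h)
  have hproper : ∀ k, parD A D k ≠ ⊤ := by
    intro k h
    obtain ⟨l, hl⟩ : ∃ l, l ≠ k := by
      rcases hall k with rfl | rfl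
      exacts [⟨k1, Ne.symm hne⟩, ⟨k0, hne⟩]
    obtain ⟨b, hb, hbD⟩ := parD_mul hA hD hB hUp hidx l
      (Subgroup.mem_sup_right (Subgroup.subset_closure rfl) : A.s l ∈ A.P.parabolic {A.s l})
    have h1 : A.s l * b ∈ A.P.parabolic {A.s k} :=
      Subgroup.mem_subgroupOf.1 (h ▸ Subgroup.mem_top (⟨A.s l * b, hbD.2⟩ : ↥D))
    refine hl (hsk k l ?_)
    simpa using mul_mem h1 (inv_mem (hUP k hb))
  refine ⟨A.U.subgroupOf D, parD A D k0, parD A D k1,
    hUp.comap_of_injective D.subtype Subtype.val_injective, fun h => hidx (h.trans ?_),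
    fun x hx => hUP k0 hx, fun x hx => hUP k1 hx, hproper k0, hproper k1, ?_,
    fun α _ hfix => ⟨hinv α hfix k0, hinv α hfix k1⟩⟩
  · -- index of the trace
    have hsup : A.U ⊔ D = ⊤ := by
      by_contra hne'
      have h3 := Subgroup.relIndex_mul_index (le_sup_right : D ≤ A.U ⊔ D)
      rw [hD] at h3
      rcases (Nat.dvd_prime Nat.prime_two).1 (Dvd.intro_left _ h3) with h4 | h4
      · exact hne' (Subgroup.index_eq_one.1 h4)
      · rw [h4] at h3
        have h5 : D.relIndex (A.U ⊔ D) = 1 := by omega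
        exact hUD (le_sup_left.trans (Subgroup.relIndex_eq_one.1 h5))
    have e1 : D.relIndex A.U = 2 := by
      rw [← Subgroup.relIndex_sup_right, hsup, Subgroup.relIndex_top_right, hD]
    have e2 := Subgroup.relIndex_mul_index (inf_le_left : A.U ⊓ D ≤ A.U)
    have e3 := Subgroup.relIndex_mul_index (inf_le_right : A.U ⊓ D ≤ D)
    rw [Subgroup.inf_relIndex_left, e1] at e2
    rw [Subgroup.inf_relIndex_right, hD, ← e2, mul_comm] at e3
    exact dvd_of_eq (Nat.eq_of_mul_eq_mul_left two_pos e3)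
  · -- the two traces generate
    set L : Subgroup G := (parD A D k0 ⊔ parD A D k1).map D.subtype with hL
    have hLk : ∀ k, A.P.parabolic {A.s k} ⊓ D ≤ L := fun k x hx =>
      ⟨⟨x, hx.2⟩, by
        rcases hall k with rfl | rfl
        exacts [Subgroup.mem_sup_left hx.1, Subgroup.mem_sup_right hx.1], rfl⟩
    have hnorm : A.U ≤ Subgroup.normalizer (L : Set G) := by
      intro u hu
      refine Subgroup.mem_normalizer_iff_map_conj_eq.2 (Subgroup.eq_of_le_of_card_ge ?_ (le_of_eq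
        (Nat.card_congr (Subgroup.equivMapOfInjective _ _ (MulAut.conj u).injective).toEquiv)))
      show L.map (MulAut.conj u).toMonoidHom ≤ L
      rw [hL, Subgroup.map_sup, Subgroup.map_sup, ← Subgroup.map_sup (parD A D k0), ← hL]
      refine sup_le ?_ ?_ <;>
      · rintro _ ⟨_, ⟨x, hx, rfl⟩, rfl⟩
        exact hLk _ ⟨mul_mem (mul_mem (hUP _ hu) hx) ((A.P.parabolic {A.s _}).inv_mem (hUP _ hu)),
          Subgroup.Normal.conj_mem ‹D.Normal› _ x.2 u⟩
    have hLD : L ≤ D := Subgroup.map_subtype_le _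
    have hLU : L ⊔ A.U = ⊤ := by
      refine eq_top_iff.2 (le_of_eq_of_le (H56.eq_parabolic_of_le A.P (M := ⊤) le_top) ?_)
      refine sup_le (hB ▸ le_sup_right) ((Subgroup.closure_le _).2 ?_)
      rintro t ⟨ht, -⟩
      rw [hA.s_range] at ht
      obtain ⟨i, rfl⟩ := ht
      obtain ⟨b, hb, hbD⟩ := parD_mul hA hD hB hUp hidx i
        (Subgroup.mem_sup_right (Subgroup.subset_closure rfl) : A.s i ∈ A.P.parabolic {A.s i})
      have h1 : A.s i * b * b⁻¹ ∈ L ⊔ A.U :=
        mul_mem (Subgroup.mem_sup_left (hLk i hbD)) (Subgroup.mem_sup_right (inv_mem hb))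
      simpa using h1
    refine eq_top_iff.2 fun x _ => ?_
    have hx : (x : G) ∈ L ⊔ A.U := hLU ▸ Subgroup.mem_top _
    rw [← SetLike.mem_coe, Subgroup.coe_mul_of_right_le_normalizer_left _ _ hnorm, Set.mem_mul] at hx
    obtain ⟨l, hl, u, hu, hlu⟩ := hx
    have huD : u ∈ D := by
      rw [show u = l⁻¹ * (x : G) by rw [← hlu]; exact (inv_mul_cancel_left _ _).symm]
      exact mul_mem (inv_mem (hLD hl)) x.2
    have hxL : (x : G) ∈ L := hlu ▸ mul_mem hl (hLk k0 ⟨hUP k0 hu, huD⟩)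
    obtain ⟨y, hy, hye⟩ := hxL
    rwa [← Subtype.ext hye]

/-- Invariance when all automorphisms come from the big group. -/
theorem inv_of_conjNormal [hDn : D.Normal]
    (haut : ∀ α : MulAut ↥D, ∃ g : G, MulAut.conjNormal g = α)
    (hmove : ∀ k, ∃ y ∈ A.U, y ∈ D ∧ A.s k * y * (A.s k)⁻¹ ∉ A.U) (α : MulAut ↥D)
    (hfix : (A.U.subgroupOf D).map α.toMonoidHom = A.U.subgroupOf D) (k : ι) :
    (parD A D k).map α.toMonoidHom = parD A D k := by
  obtain ⟨g, rfl⟩ := haut α
  have key : ∀ (x : G) (W : Subgroup ↥D),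
      (W.map (MulAut.conjNormal x : MulAut ↥D).toMonoidHom).map D.subtype =
        (W.map D.subtype).map (MulAut.conj x).toMonoidHom := fun x W => by
    rw [Subgroup.map_map, Subgroup.map_map]; congr 1
  set N := Subgroup.normalizer ((A.U ⊓ D : Subgroup G) : Set G) with hN
  have hgN : g ∈ N := by
    refine Subgroup.mem_normalizer_iff_map_conj_eq.2 ?_
    show (A.U ⊓ D).map (MulAut.conj g).toMonoidHom = A.U ⊓ D
    rw [← Subgroup.subgroupOf_map_subtype, ← key, hfix]
  have hUN : A.U ≤ N := (le_inf Subgroup.le_normalizer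
    (by rw [Subgroup.normalizer_eq_top]; exact le_top)).trans Subgroup.inf_normalizer_le_normalizer_inf
  have hNU : N ≤ A.U := by
    rw [H56.eq_parabolic_of_le A.P (hB ▸ hUN : A.P.B ≤ N)]
    refine sup_le hB.le ((Subgroup.closure_le _).2 ?_)
    rintro t ⟨ht, htN⟩
    rw [hA.s_range] at ht
    obtain ⟨i, rfl⟩ := ht
    obtain ⟨y, hy, hyD, hys⟩ := hmove i
    exact absurd ((Subgroup.mem_normalizer_iff.1 htN y).1 ⟨hy, hyD⟩).1 hys
  have hgP : g ∈ A.P.parabolic {A.s k} := Subgroup.mem_sup_left (hA.U_le (hNU hgN))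
  refine Subgroup.map_injective (f := D.subtype) Subtype.val_injective ?_
  rw [key, parD, Subgroup.subgroupOf_map_subtype, Subgroup.map_inf _ _ _ (MulAut.conj g).injective]
  congr 1
  · exact Subgroup.mem_normalizer_iff_map_conj_eq.1 (Subgroup.le_normalizer hgP)
  · exact Subgroup.mem_normalizer_iff_map_conj_eq.1 (by rw [Subgroup.normalizer_eq_top]; trivial)

end IndexTwo

end H53
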