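import Cfsg.Agent.H26.TitsCoding
import Cfsg.Agent.H53.TitsSylow
import Cfsg.Agent.H53.TitsSqData

/-!
Codes of normal forms in the twisted group of type F4 over two elements, for kernel checks.
-/

set_option autoImplicit false

namespace H53.TitsSq

open H26.TitsSchur H53.Tits H53.TitsSqData

/-- Multiply codes, with a literal mask. -/
noncomputable def mulK (a b : ℕ) : ℕ :=
  Nat.rec (motive := fun _ => ℕ) 0
    (fun j acc => Nat.xor acc (Nat.mul (Nat.land (Nat.shiftRight a j) 0x4000001000000400000100000040000010000004000001000000400000100000040000010000004000001000000400000100000040000010000004000001000000400000100000040000010000004000001)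
      (Nat.mod (Nat.shiftRight b (Nat.mul 26 j)) 67108864))) 26

theorem mulK_eq : mulK = mulC := by
  funext a b
  have : onesMask = 0x4000001000000400000100000040000010000004000001000000400000100000040000010000004000001000000400000100000040000010000004000001000000400000100000040000010000004000001 := by decide +kernel
  unfold mulK mulC rowC
  rw [this]
  rfl

/-- The code of the normal form `i`. -/
noncomputable def uC (i : ℕ) : ℕ := mulK (loT.getD (i % 64) 0) (hiT.getD (i / 64) 0)

/-- The code of a monomial element times a normal form. -/
noncomputable def ncC (w i : ℕ) : ℕ := mulK ((nlT.getD w []).getD (i % 64) 0) (hiT.getD (i / 64) 0)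

/-- The code of `U_b n_w U_j`. -/
noncomputable def yC (b w j : ℕ) : ℕ := mulK (uC b) (ncC w j)

/-- The candidate of a rank. -/
def sel (k : ℕ) : ℕ :=
  if (wOf (k / 2 * 4 + k % 2)).countP (fun j => j % 2 == 1) % 2 == 0 then k / 2 * 4 + k % 2
  else k / 2 * 4 + k % 2 + 2

/-- The rank of a candidate. -/
def rk (i : ℕ) : ℕ := i / 4 * 2 + i % 2

/-- The packed conjugator of a candidate. -/
def yAt (w k : ℕ) : ℕ := (((yT.getD w []).getD (k / 64) 0) >>> (33 * (k % 64))) % 2 ^ 33

/-- The code of a representative. -/
noncomputable def repC (r : ℕ) : ℕ := ncC (repT.getD r (0, 0)).1 (repT.getD r (0, 0)).2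

/-- The difference of the two sides of the conjugacy. -/
noncomputable def diffY (c y r : ℕ) : ℕ :=
  force y fun y => force r fun r => force c fun c => Nat.xor (mulK c y) (mulK y r)

/-- The check at a candidate. -/
noncomputable def okY (w k : ℕ) : Bool :=
  Nat.blt (yAt w k % 32) 17 &&
    Nat.beq (diffY (ncC w (sel k))
      (yC (yAt w k / 32 % 4096) (yAt w k / 131072 % 16) (yAt w k / 2097152 % 4096))
      (repC (yAt w k % 32))) 0

/-- The checks for a monomial element. -/
noncomputable def okW (w : ℕ) : Bool := allLt (fun q => allLt (fun j => okY w (64 * q + j)) 64) 32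

end H53.TitsSq
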