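import Cfsg.Agent.H53.TitsSqBase

/-!
Kernel check of the conjugators, part A.
-/

set_option autoImplicit false

namespace H53.TitsSq

theorem ok_w0 : okW 0 = true := by decide +kernel

theorem ok_w1 : okW 1 = true := by decide +kernel

theorem ok_w2 : okW 2 = true := by decide +kernel

theorem ok_w3 : okW 3 = true := by decide +kernel

end H53.TitsSq
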