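import Cfsg.Agent.H53.TitsSqBase

/-!
Kernel check of the conjugators, part B.
-/

set_option autoImplicit false

namespace H53.TitsSq

theorem ok_w4 : okW 4 = true := by decide +kernel

theorem ok_w5 : okW 5 = true := by decide +kernel

theorem ok_w6 : okW 6 = true := by decide +kernel

theorem ok_w7 : okW 7 = true := by decide +kernel

end H53.TitsSq
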