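import Cfsg.Agent.H53.TitsSqBase

/-!
Kernel check of the conjugators, part C.
-/

set_option autoImplicit false

namespace H53.TitsSq

theorem ok_w8 : okW 8 = true := by decide +kernel

theorem ok_w9 : okW 9 = true := by decide +kernel

theorem ok_w10 : okW 10 = true := by decide +kernel

theorem ok_w11 : okW 11 = true := by decide +kernel

end H53.TitsSq
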