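import Cfsg.Agent.H53.TitsSqBase

/-!
Kernel check of the conjugators, part D.
-/

set_option autoImplicit false

namespace H53.TitsSq

theorem ok_w12 : okW 12 = true := by decide +kernel

theorem ok_w13 : okW 13 = true := by decide +kernel

theorem ok_w14 : okW 14 = true := by decide +kernel

theorem ok_w15 : okW 15 = true := by decide +kernel

end H53.TitsSq
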