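import Cfsg.Agent.H53.TitsSqBase

/-!
The kernel checks of the Bruhat steps.
-/

set_option autoImplicit false
set_option maxRecDepth 20000

namespace H53.TitsSq

open H26.TitsSchur H53.Tits H53.TitsSylowData H53.TitsSqData

/-- The images of the pieces under the two reflections. -/
def ncj : List (List ℕ) := [[0, 1024, 512, 128, 64, 16, 8, 2], [512, 128, 64, 16, 8, 2, 1, 0]]

/-- The steps to the right of the first reflection. -/
def step0 : List (ℕ × ℕ × ℕ) := [(0, 1, 0), (1, 1, 0), (0, 0, 0), (1, 1, 1), (0, 3, 0), (8, 3, 0), (0, 2, 0), (8, 3, 1), (0, 5, 0), (64, 5, 0), (0, 4, 0), (64, 5, 1), (0, 7, 0), (512, 7, 0), (0, 6, 0), (512, 7, 1), (0, 15, 0), (1, 8, 1), (0, 10, 0), (512, 10, 0), (0, 9, 0), (512, 10, 1), (0, 12, 0), (64, 12, 0), (0, 11, 0), (64, 12, 1), (0, 14, 0), (8, 14, 0), (0, 13, 0), (8, 14, 1), (0, 8, 0), (1, 8, 0)]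

/-- The steps to the left of the second reflection. -/
def step1 : List (ℕ × ℕ × ℕ) := [(0, 9, 0), (0, 9, 1024), (0, 9, 2048), (0, 9, 3072), (0, 10, 0), (0, 10, 2), (0, 10, 4), (0, 10, 6), (0, 11, 0), (0, 11, 128), (0, 11, 256), (0, 11, 384), (0, 12, 0), (0, 12, 16), (0, 12, 32), (0, 12, 48), (0, 13, 0), (0, 13, 16), (0, 13, 32), (0, 13, 48), (0, 14, 0), (0, 14, 128), (0, 14, 256), (0, 14, 384), (0, 15, 0), (0, 15, 2), (0, 15, 4), (0, 15, 6), (0, 8, 0), (0, 8, 1024), (0, 8, 2048), (0, 8, 3072), (0, 7, 0), (1024, 8, 2048), (3072, 8, 1024), (2048, 8, 3072), (0, 0, 0), (1024, 9, 2048), (3072, 9, 1024), (2048, 9, 3072), (0, 1, 0), (1024, 10, 4), (3072, 10, 2), (2048, 10, 6), (0, 2, 0), (1024, 11, 256), (3072, 11, 128), (2048, 11, 384), (0, 3, 0), (1024, 12, 32), (3072, 12, 16), (2048, 12, 48), (0, 4, 0), (1024, 13, 32), (3072, 13, 16), (2048, 13, 48), (0, 5, 0), (1024, 14, 256), (3072, 14, 128), (2048, 14, 384), (0, 6, 0), (1024, 15, 4), (3072,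 15, 2), (2048, 15, 6)]

/-- A monomial element as a word in the generators. -/
def nw (w : ℕ) : List (Fin 4) :=
  (nWord.getD w []).flatMap fun b => if b then [2, 2, 2, 3, 2, 2] else [0, 1, 0]

/-- A piece word is even exactly at the even pieces. -/
def evP (l : List ℕ) : Bool := l.countP (fun j => j % 2 == 1) % 2 == 0

theorem piece_code : ∀ j < 8, pieceT.getD j 0 = wordC (uw.getD j []) := by decide +kernel

theorem nw_code : ∀ w < 16, nwT.getD w 0 = wordC (nw w) ∧ evenW (nw w) = true := by decide +kernel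

theorem lo_code : ∀ a < 64,
    loT.getD a 0 = (wOf a).foldr (fun j acc => mulK (pieceT.getD j 0) acc) oneC := by decide +kernel

theorem hi_code : ∀ a < 64,
    hiT.getD a 0 = (wOf (64 * a)).foldr (fun j acc => mulK (pieceT.getD j 0) acc) oneC := by
  decide +kernel

theorem nl_code : ∀ w < 16, ∀ a < 64,
    (nlT.getD w []).getD a 0 = mulK (nwT.getD w 0) (loT.getD a 0) := by decide +kernel

theorem wOf_halves : ∀ b < 64, ∀ a < 64, wOf (a + 64 * b) = wOf a ++ wOf (64 * b) := by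
  decide +kernel

theorem wOf_first : ∀ b < 2048, ∀ d < 2,
    wOf (d + 2 * b) = wOf d ++ wOf (2 * b) ∧ (wOf (2 * b)).all (fun j => !(j == 0)) = true := by
  decide +kernel

theorem wOf_last : ∀ b < 1024, ∀ d < 4,
    wOf (b + 1024 * d) = wOf b ++ wOf (1024 * d) ∧ (wOf b).all (fun j => !(j == 7)) = true := by
  decide +kernel

theorem inv_code : ∀ w < 16, ∃ w' < 16, mulK (nwT.getD w 0) (nwT.getD w' 0) = oneC := by
  decide +kernel

theorem refl_sq : mulK (nwT.getD 1 0) (nwT.getD 1 0) = oneC ∧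
    mulK (nwT.getD 9 0) (nwT.getD 9 0) = oneC := by decide +kernel

theorem conj_code : ∀ k < 2, ∀ j < 8, j = 7 * k ∨
    mulK (mulK (nwT.getD (1 + 8 * k) 0) (pieceT.getD j 0)) (nwT.getD (1 + 8 * k) 0) =
      uC ((ncj.getD k []).getD j 0) := by decide +kernel

theorem step0_code : ∀ w < 16, ∀ d < 2, (step0.getD (2 * w + d) (0, 0, 0)).2.1 < 16 ∧
    mulK (ncC w d) (nwT.getD 1 0) = yC (step0.getD (2 * w + d) (0, 0, 0)).1
      (step0.getD (2 * w + d) (0, 0, 0)).2.1 (step0.getD (2 * w + d) (0, 0, 0)).2.2 := by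
  decide +kernel

theorem step1_code : ∀ w < 16, ∀ d < 4, (step1.getD (4 * w + d) (0, 0, 0)).2.1 < 16 ∧
    mulK (mulK (nwT.getD 9 0) (uC (1024 * d))) (nwT.getD w 0) =
      yC (step1.getD (4 * w + d) (0, 0, 0)).1 (step1.getD (4 * w + d) (0, 0, 0)).2.1
        (step1.getD (4 * w + d) (0, 0, 0)).2.2 := by decide +kernel

theorem gel_code : uC 1 = genCodes.getD 0 0 ∧ uC 1024 = genCodes.getD 2 0 := by decide +kernel

theorem sel_rk : ∀ i < 4096, evP (wOf i) = true → sel (rk i) = i := by decide +kernel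

theorem piece_even : ∀ j < 8, evenW (uw.getD j []) = (j % 2 == 0) := by decide +kernel

/-- The factorisation check of a representative. -/
noncomputable def okWit (r : ℕ) : Bool :=
  let l := witT.getD (r - 1) []
  let u := yC (l.getD 0 0) (l.getD 1 0 % 16) (l.getD 2 0)
  let ui := yC (l.getD 3 0) (l.getD 4 0 % 16) (l.getD 5 0)
  let v := yC (l.getD 6 0) (l.getD 7 0 % 16) (l.getD 8 0)
  let vi := yC (l.getD 9 0) (l.getD 10 0 % 16) (l.getD 11 0)
  Nat.beq (mulK u ui) oneC && Nat.beq (mulK v vi) oneC &&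
    Nat.beq (mulK (mulK (mulK u (repC 16)) ui) (mulK (mulK v (repC 16)) vi)) (repC r)

theorem wit_code : ∀ r < 17, r = 0 ∨ okWit r = true := by decide +kernel

theorem rep_facts : ∀ r < 17, (repT.getD r (0, 0)).1 < 16 ∧ (repT.getD r (0, 0)).2 < 4096 := by
  decide +kernel

theorem x_facts : repC 0 = oneC ∧ repC 16 ≠ oneC ∧
    mulK (mulK (mulK (mulK (repC 16) (repC 16)) (repC 16)) (repC 16)) (repC 16) = oneC ∧
    mulK (uC 128) (repC 16) = mulK (repC 16) (uC 128) ∧ evP (wOf 128) = false ∧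
    evP (wOf (repT.getD 16 (0, 0)).2) = true := by decide +kernel

end H53.TitsSq
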