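import Cfsg.Agent.H53.TitsSqTables
import Cfsg.Agent.H53.TitsSqCheckA
import Cfsg.Agent.H53.TitsSqCheckB
import Cfsg.Agent.H53.TitsSqCheckC
import Cfsg.Agent.H53.TitsSqCheckD

/-!
In the Tits group every element other than `1` is a product of two conjugates of an element of order `5`.
-/

set_option autoImplicit false
set_option maxRecDepth 20000

namespace H53.TitsSq

open Cfsg.Lie H52 H53 H26.TitsSchur H53.Tits H53.TitsSylowData H53.TitsSqData

attribute [local irreducible] mulK mulC uC ncC yC repC wOf codeG pieceT loT hiT nwT nlT yT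

/-- The derived subgroup. -/
noncomputable abbrev DG : Subgroup ↥G2' := commutator ↥G2'

theorem codeG_mulK (g h : ↥G2') : codeG (g * h) = mulK (codeG g) (codeG h) := by
  rw [codeG_mul, mulK_eq]

/-- The coding is faithful on the whole group. -/
theorem codeG_inj {g h : ↥G2'} (e : codeG g = codeG h) : g = h := by
  have key : ∀ z : ↥G2', codeG z = oneC → z = 1 := by
    have inT : ∀ z : ↥G2', z ∈ DG → codeG z = oneC → z = 1 := fun z hz he => by
      have := codeT_inj (a₁ := (⟨z, hz⟩ : TitsGroup)) (a₂ := 1)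
        (show codeG z = codeG ((1 : TitsGroup) : ↥G2') by rw [OneMemClass.coe_one, codeG_one, he])
      exact congrArg Subtype.val this
    intro z hz
    have h2 : z * z = 1 := inT _ (Subgroup.mul_self_mem_of_index_two index_eq_two z)
      (by rw [codeG_mul, hz, ← codeG_one, ← codeG_mul, mul_one])
    by_cases h1 : z = 1
    · exact h1
    haveI : Fact (Nat.Prime 2) := ⟨Nat.prime_two⟩
    exact inT z (mem_derived_of_involution z (orderOf_eq_prime (by rw [sq]; exact h2) h1)) hz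
  have := key (g⁻¹ * h) (by rw [codeG_mul, ← e, ← codeG_mul, inv_mul_cancel, codeG_one])
  exact inv_mul_eq_one.1 this

theorem uel_append (w w' : List ℕ) : uel (w ++ w') = uel w * uel w' := by simp [uel]

theorem codeG_upiece {j : ℕ} (hj : j < 8) : codeG (upiece j) = pieceT.getD j 0 := by
  rw [upiece, codeG_gprod, piece_code j hj]

theorem codeG_uel : ∀ w : List ℕ, (∀ j ∈ w, j < 8) →
    codeG (uel w) = w.foldr (fun j acc => mulK (pieceT.getD j 0) acc) oneC
  | [], _ => by simp [uel, codeG_one]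
  | j :: w, h => by
    rw [show uel (j :: w) = upiece j * uel w by simp [uel], codeG_mulK,
      codeG_upiece (h j List.mem_cons_self), codeG_uel w fun i hi => h i (List.mem_cons_of_mem _ hi)]
    rfl

/-- A normal form. -/
noncomputable def cU (i : ℕ) : ↥G2' := uel (wOf i)

/-- A monomial element. -/
noncomputable def nel (w : ℕ) : ↥G2' := gprod (nw w)

theorem cU_mem (i : ℕ) : cU i ∈ Usyl := uel_mem i

theorem code_cU {i : ℕ} (hi : i < 4096) : codeG (cU i) = uC i := by
  have h := wOf_halves (i / 64) (by omega) (i % 64) (Nat.mod_lt _ (by norm_num))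
  rw [Nat.mod_add_div] at h
  rw [cU, h, uel_append, codeG_mulK, codeG_uel _ (wOf_lt _), codeG_uel _ (wOf_lt _),
    ← lo_code _ (Nat.mod_lt _ (by norm_num)), ← hi_code _ (by omega), uC]

theorem code_nel {w : ℕ} (hw : w < 16) : codeG (nel w) = nwT.getD w 0 := by
  rw [nel, codeG_gprod, (nw_code w hw).1]

theorem mulK_assoc_code (a b c : ↥G2') :
    mulK (mulK (codeG a) (codeG b)) (codeG c) = mulK (codeG a) (mulK (codeG b) (codeG c)) := by
  rw [← codeG_mulK, ← codeG_mulK, ← codeG_mulK, ← codeG_mulK, mul_assoc]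

theorem code_ncC {w i : ℕ} (hw : w < 16) (hi : i < 4096) : codeG (nel w * cU i) = ncC w i := by
  have hl : i % 64 < 4096 := by omega
  have hh : 64 * (i / 64) < 4096 := by omega
  have e : cU i = cU (i % 64) * cU (64 * (i / 64)) := by
    have h := wOf_halves (i / 64) (by omega) (i % 64) (Nat.mod_lt _ (by norm_num))
    rw [Nat.mod_add_div] at h
    rw [cU, h, uel_append]; rfl
  rw [e, ← mul_assoc, codeG_mulK, codeG_mulK, code_nel hw, ncC,
    nl_code w hw _ (Nat.mod_lt _ (by norm_num))]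
  congr 1
  · congr 1
    rw [cU, codeG_uel _ (wOf_lt _), ← lo_code _ (Nat.mod_lt _ (by norm_num))]
  · rw [cU, codeG_uel _ (wOf_lt _), ← hi_code _ (by omega)]

/-- The element `U_b n_w U_j`. -/
noncomputable def tr (b w j : ℕ) : ↥G2' := cU b * (nel w * cU j)

theorem code_tr {b w j : ℕ} (hb : b < 4096) (hw : w < 16) (hj : j < 4096) :
    codeG (tr b w j) = yC b w j := by
  rw [tr, codeG_mulK, code_cU hb, code_ncC hw hj, yC]

theorem exists_cU {u : ↥G2'} (hu : u ∈ Usyl) : ∃ i < 4096, u = cU i := uel_surj hu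

/-- The elements `u n u'`. -/
def InCell (g : ↥G2') : Prop := ∃ a ∈ Usyl, ∃ w < 16, ∃ b ∈ Usyl, g = a * nel w * b

theorem inCell_left {x g : ↥G2'} (hx : x ∈ Usyl) (hg : InCell g) : InCell (x * g) := by
  obtain ⟨a, ha, w, hw, b, hb, rfl⟩ := hg
  exact ⟨x * a, mul_mem hx ha, w, hw, b, hb, by group⟩

theorem inCell_inv {g : ↥G2'} (hg : InCell g) : InCell g⁻¹ := by
  obtain ⟨a, ha, w, hw, b, hb, rfl⟩ := hg
  obtain ⟨w', hw', h⟩ := inv_code w hw
  have e : (nel w)⁻¹ = nel w' := inv_eq_of_mul_eq_one_right (codeG_inj (by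
    rw [codeG_mulK, code_nel hw, code_nel hw', h, codeG_one]))
  exact ⟨b⁻¹, inv_mem hb, w', hw', a⁻¹, inv_mem ha, by rw [← e]; group⟩

theorem refl_mul {k : ℕ} (hk : k < 2) : nel (1 + 8 * k) * nel (1 + 8 * k) = 1 := by
  refine codeG_inj ?_
  rw [codeG_mulK, code_nel (by omega), codeG_one]
  obtain rfl | rfl : k = 0 ∨ k = 1 := by omega
  · exact refl_sq.1
  · exact refl_sq.2

theorem n0_inv : (nel 1)⁻¹ = nel 1 := by
  have h := refl_mul (k := 0) (by norm_num)
  norm_num at h
  exact inv_eq_of_mul_eq_one_right h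

theorem n1_inv : (nel 9)⁻¹ = nel 9 := by
  have h := refl_mul (k := 1) (by norm_num)
  norm_num at h
  exact inv_eq_of_mul_eq_one_right h

/-- A reflection maps the words avoiding its piece into the unipotent group. -/
theorem refl_conj {k : ℕ} (hk : k < 2) : ∀ w : List ℕ, (∀ j ∈ w, j < 8 ∧ j ≠ 7 * k) →
    nel (1 + 8 * k) * uel w * nel (1 + 8 * k) ∈ Usyl
  | [], _ => by
    rw [show uel ([] : List ℕ) = 1 by simp [uel], mul_one, refl_mul hk]
    exact one_mem _
  | j :: w, h => by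
    set n := nel (1 + 8 * k)
    have hn : n * n = 1 := refl_mul hk
    obtain ⟨hj, hj'⟩ := h j List.mem_cons_self
    have h1 : n * upiece j * n ∈ Usyl := by
      have e := (conj_code k hk j hj).resolve_left hj'
      have hidx : (ncj.getD k []).getD j 0 < 4096 :=
        (by decide +kernel : ∀ k < 2, ∀ j < 8, (ncj.getD k []).getD j 0 < 4096) k hk j hj
      rw [codeG_inj (g := n * upiece j * n) (h := cU ((ncj.getD k []).getD j 0))
        (by rw [codeG_mulK, codeG_mulK, code_nel (by omega), codeG_upiece hj, code_cU hidx, e])]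
      exact cU_mem _
    have h2 := refl_conj hk w fun i hi => h i (List.mem_cons_of_mem _ hi)
    rw [show n * uel (j :: w) * n = (n * upiece j * n) * (n * uel w * n) by
      rw [show uel (j :: w) = upiece j * uel w by simp [uel]]
      calc n * (upiece j * uel w) * n = n * upiece j * 1 * uel w * n := by group
        _ = _ := by rw [← hn]; group]
    exact mul_mem h1 h2

theorem all_ne {j : ℕ} {w : List ℕ} (h : w.all (fun i => !(i == j)) = true) {i : ℕ} (hi : i ∈ w) :
    i ≠ j := by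
  have := (List.all_eq_true.1 h) i hi
  simpa using this

theorem inCell_n1 {g : ↥G2'} (hg : InCell g) : InCell (nel 9 * g) := by
  obtain ⟨a, ha, w, hw, b, hb, rfl⟩ := hg
  obtain ⟨i, hi, rfl⟩ := exists_cU ha
  obtain ⟨hsplit, hav⟩ := wOf_last (i % 1024) (Nat.mod_lt _ (by norm_num)) (i / 1024) (by omega)
  rw [Nat.mod_add_div] at hsplit
  have hc := refl_conj (k := 1) (by norm_num) (wOf (i % 1024))
    fun j hj => ⟨wOf_lt _ j hj, by simpa using all_ne hav hj⟩
  obtain ⟨hw', hst⟩ := step1_code w hw (i / 1024) (by omega)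
  have hb4 : ∀ w < 16, ∀ d < 4, (step1.getD (4 * w + d) (0, 0, 0)).1 < 4096 ∧
      (step1.getD (4 * w + d) (0, 0, 0)).2.2 < 4096 := by decide +kernel
  obtain ⟨h1, h2⟩ := hb4 w hw (i / 1024) (by omega)
  set s := step1.getD (4 * w + i / 1024) (0, 0, 0)
  have e : nel 9 * cU (1024 * (i / 1024)) * nel w = tr s.1 s.2.1 s.2.2 := codeG_inj (by
    rw [codeG_mulK, codeG_mulK, code_nel (by norm_num), code_cU (by omega), code_nel hw,
      code_tr h1 hw' h2]
    exact hst)
  have key : nel 9 * (cU i * nel w * b) =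
      (nel 9 * uel (wOf (i % 1024)) * nel 9) * (cU s.1 * nel s.2.1 * (cU s.2.2 * b)) := by
    have h9 : nel 9 * nel 9 = 1 := refl_mul (k := 1) (by norm_num)
    rw [cU, hsplit, uel_append]
    calc _ = nel 9 * uel (wOf (i % 1024)) * 1 * (uel (wOf (1024 * (i / 1024)))) * nel w * b := by group
      _ = nel 9 * uel (wOf (i % 1024)) * nel 9 * (nel 9 * cU (1024 * (i / 1024)) * nel w) * b := by
        rw [← h9, cU]; group
      _ = _ := by rw [e, tr]; group
  rw [key]
  exact inCell_left hc ⟨_, cU_mem _, _, hw', _, mul_mem (cU_mem _) hb, rfl⟩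

theorem inCell_n0_right {g : ↥G2'} (hg : InCell g) : InCell (g * nel 1) := by
  obtain ⟨a, ha, w, hw, b, hb, rfl⟩ := hg
  obtain ⟨i, hi, rfl⟩ := exists_cU hb
  obtain ⟨hsplit, hav⟩ := wOf_first (i / 2) (by omega) (i % 2) (Nat.mod_lt _ (by norm_num))
  rw [Nat.mod_add_div] at hsplit
  have hc := refl_conj (k := 0) (by norm_num) (wOf (2 * (i / 2)))
    fun j hj => ⟨wOf_lt _ j hj, by simpa using all_ne hav hj⟩
  obtain ⟨hw', hst⟩ := step0_code w hw (i % 2) (Nat.mod_lt _ (by norm_num))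
  have hb2 : ∀ w < 16, ∀ d < 2, (step0.getD (2 * w + d) (0, 0, 0)).1 < 4096 ∧
      (step0.getD (2 * w + d) (0, 0, 0)).2.2 < 4096 := by decide +kernel
  obtain ⟨h1, h2⟩ := hb2 w hw (i % 2) (Nat.mod_lt _ (by norm_num))
  set s := step0.getD (2 * w + i % 2) (0, 0, 0)
  have e : nel w * cU (i % 2) * nel 1 = tr s.1 s.2.1 s.2.2 := codeG_inj (by
    rw [codeG_mulK, code_ncC hw (by omega), code_nel (by norm_num), code_tr h1 hw' h2]
    exact hst)
  have key : a * nel w * cU i * nel 1 =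
      (a * cU s.1) * nel s.2.1 * (cU s.2.2 * (nel 1 * uel (wOf (2 * (i / 2))) * nel 1)) := by
    have h9 : nel 1 * nel 1 = 1 := refl_mul (k := 0) (by norm_num)
    rw [cU, hsplit, uel_append]
    calc _ = a * nel w * uel (wOf (i % 2)) * 1 * uel (wOf (2 * (i / 2))) * nel 1 := by group
      _ = a * (nel w * cU (i % 2) * nel 1) * (nel 1 * uel (wOf (2 * (i / 2))) * nel 1) := by
        rw [← h9, cU]; group
      _ = _ := by rw [e, tr]; group
  exact ⟨_, mul_mem ha (cU_mem _), _, hw', _, mul_mem (cU_mem _) hc, key⟩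

theorem inCell_n0 {g : ↥G2'} (hg : InCell g) : InCell (nel 1 * g) := by
  have h := inCell_inv (inCell_n0_right (inCell_inv hg))
  rwa [mul_inv_rev, inv_inv, n0_inv] at h

/-- Every element is `u n u'`. -/
theorem inCell_all (g : ↥G2') : InCell g := by
  classical
  let K : Subgroup ↥G2' :=
    { carrier := {x | (∀ g, InCell g → InCell (x * g)) ∧ ∀ g, InCell g → InCell (x⁻¹ * g)}
      one_mem' := ⟨fun g hg => by simpa using hg, fun g hg => by simpa using hg⟩
      mul_mem' := fun {a b} ha hb =>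
        ⟨fun g hg => by rw [mul_assoc]; exact ha.1 _ (hb.1 g hg),
          fun g hg => by rw [mul_inv_rev, mul_assoc]; exact hb.2 _ (ha.2 g hg)⟩
      inv_mem' := fun {a} ha => ⟨ha.2, fun g hg => by rw [inv_inv]; exact ha.1 g hg⟩ }
  have hU : Usyl ≤ K := fun x hx =>
    ⟨fun g hg => inCell_left hx hg, fun g hg => inCell_left (inv_mem hx) hg⟩
  have h0 : nel 1 ∈ K := ⟨fun g hg => inCell_n0 hg, fun g hg => by
    rw [n0_inv]; exact inCell_n0 hg⟩
  have h1 : nel 9 ∈ K := ⟨fun g hg => inCell_n1 hg, fun g hg => by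
    rw [n1_inv]; exact inCell_n1 hg⟩
  have g0 : gel 0 ∈ K := by
    rw [codeG_inj (g := gel 0) (h := cU 1) (by rw [codeG_gel, code_cU (by norm_num), gel_code.1]; rfl)]
    exact hU (cU_mem _)
  have g2 : gel 2 ∈ K := by
    rw [codeG_inj (g := gel 2) (h := cU 1024)
      (by rw [codeG_gel, code_cU (by norm_num), gel_code.2]; rfl)]
    exact hU (cU_mem _)
  have e0 : nel 1 = gel 0 * gel 1 * gel 0 := by
    simp [nel, nw, nWord, gprod, mul_assoc]
  have e1 : nel 9 = gel 2 * gel 2 * gel 2 * gel 3 * (gel 2 * gel 2) := by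
    simp [nel, nw, nWord, gprod, mul_assoc]
  have g1 : gel 1 ∈ K := by
    rw [show gel 1 = (gel 0)⁻¹ * nel 1 * (gel 0)⁻¹ by rw [e0]; group]
    exact mul_mem (mul_mem (inv_mem g0) h0) (inv_mem g0)
  have g3 : gel 3 ∈ K := by
    rw [show gel 3 = (gel 2 * gel 2 * gel 2)⁻¹ * nel 9 * (gel 2 * gel 2)⁻¹ by rw [e1]; group]
    exact mul_mem (mul_mem (inv_mem (mul_mem (mul_mem g2 g2) g2)) h1) (inv_mem (mul_mem g2 g2))
  have hg : g ∈ K := by
    have htop : Subgroup.closure (Set.range gel) ≤ K := by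
      refine (Subgroup.closure_le _).2 ?_
      rintro _ ⟨k, rfl⟩
      fin_cases k
      exacts [g0, g1, g2, g3]
    exact htop (gen_top.symm ▸ Subgroup.mem_top g)
  have h := hg.1 1 ⟨1, one_mem _, 0, by norm_num, 1, one_mem _, by simp [nel, nw, nWord, gprod]⟩
  rwa [mul_one] at h

theorem uel_mem_iff : ∀ w : List ℕ, (∀ j ∈ w, j < 8) → (uel w ∈ DG ↔ evP w = true)
  | [], _ => by simp [uel, evP]
  | j :: w, h => by
    have hj := h j List.mem_cons_self
    rw [show uel (j :: w) = upiece j * uel w by simp [uel],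
      Subgroup.mul_mem_iff_of_index_two index_eq_two,
      uel_mem_iff w (fun i hi => h i (List.mem_cons_of_mem _ hi)), upiece, gprod_mem_iff,
      piece_even j hj, evP, evP, List.countP_cons]
    rcases Nat.mod_two_eq_zero_or_one j with hp | hp <;> simp [hp] <;> omega

theorem nel_mem {w : ℕ} (hw : w < 16) : nel w ∈ DG := (gprod_mem_iff _).2 (nw_code w hw).2

/-- A representative. -/
noncomputable def rep (r : ℕ) : ↥G2' :=
  nel (repT.getD r (0, 0)).1 * cU (repT.getD r (0, 0)).2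

theorem code_rep {r : ℕ} (hr : r < 17) : codeG (rep r) = repC r := by
  rw [rep, code_ncC (rep_facts r hr).1 (rep_facts r hr).2, repC]

theorem code_rep_zero : rep 0 = 1 :=
  codeG_inj (by rw [code_rep (by norm_num), x_facts.1, codeG_one])

theorem yAt_fields (n : ℕ) : n / 32 % 4096 < 4096 ∧ n / 131072 % 16 < 16 ∧ n / 2097152 % 4096 < 4096 :=
  ⟨Nat.mod_lt _ (by norm_num), Nat.mod_lt _ (by norm_num), Nat.mod_lt _ (by norm_num)⟩

theorem okW_all : ∀ w < 16, okW w = true := by
  intro w hw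
  interval_cases w
  exacts [ok_w0, ok_w1, ok_w2, ok_w3, ok_w4, ok_w5, ok_w6, ok_w7, ok_w8, ok_w9, ok_w10, ok_w11,
    ok_w12, ok_w13, ok_w14, ok_w15]

/-- A candidate is conjugate to a representative. -/
theorem cand_conj {w i : ℕ} (hw : w < 16) (hi : i < 4096) (he : evP (wOf i) = true) :
    ∃ r < 17, ∃ y : ↥G2', nel w * cU i = y * rep r * y⁻¹ := by
  have hk : rk i < 2048 := by unfold rk; omega
  have h := allLt_spec (allLt_spec (okW_all w hw) (rk i / 64) (by omega)) (rk i % 64)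
    (Nat.mod_lt _ (by norm_num))
  rw [Nat.div_add_mod, okY, Bool.and_eq_true, Nat.blt_eq, sel_rk i hi he] at h
  obtain ⟨hr, hd⟩ := h
  set n := yAt w (rk i)
  obtain ⟨f1, f2, f3⟩ := yAt_fields n
  have hd' := Nat.eq_of_beq_eq_true hd
  rw [diffY, force_eq, force_eq, force_eq] at hd'
  have heq : mulK (ncC w i) (yC (n / 32 % 4096) (n / 131072 % 16) (n / 2097152 % 4096)) =
      mulK (yC (n / 32 % 4096) (n / 131072 % 16) (n / 2097152 % 4096)) (repC (n % 32)) := by
    refine Nat.eq_of_testBit_eq fun t => ?_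
    have h := congrArg (fun z : ℕ => z.testBit t) hd'
    simp only [Nat.zero_testBit] at h
    rw [show ∀ a b : ℕ, Nat.xor a b = a ^^^ b from fun _ _ => rfl, Nat.testBit_xor] at h
    simpa using h
  rw [← code_ncC hw hi, ← code_tr f1 f2 f3, ← code_rep hr, ← codeG_mulK, ← codeG_mulK] at heq
  exact ⟨n % 32, hr, _, eq_mul_inv_of_mul_eq (codeG_inj heq)⟩

theorem rep_sq {r : ℕ} (hr : r < 17) (hr0 : r ≠ 0) :
    ∃ u v : ↥G2', rep r = u * rep 16 * u⁻¹ * (v * rep 16 * v⁻¹) := by
  have h := (wit_code r hr).resolve_left hr0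
  simp only [okWit, Bool.and_eq_true] at h
  obtain ⟨⟨h1, h2⟩, h3⟩ := h
  have hwit : ∀ r < 17, ∀ k < 4, (witT.getD (r - 1) []).getD (3 * k) 0 < 4096 ∧
      (witT.getD (r - 1) []).getD (3 * k + 2) 0 < 4096 := by decide +kernel
  set l := witT.getD (r - 1) []
  obtain ⟨a0, a1⟩ := hwit r hr 0 (by norm_num)
  obtain ⟨b0, b1⟩ := hwit r hr 1 (by norm_num)
  obtain ⟨c0, c1⟩ := hwit r hr 2 (by norm_num)
  obtain ⟨d0, d1⟩ := hwit r hr 3 (by norm_num)
  have m : ∀ k, k % 16 < 16 := fun k => Nat.mod_lt _ (by norm_num)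
  set u := tr (l.getD 0 0) (l.getD 1 0 % 16) (l.getD 2 0)
  set ui := tr (l.getD 3 0) (l.getD 4 0 % 16) (l.getD 5 0)
  set v := tr (l.getD 6 0) (l.getD 7 0 % 16) (l.getD 8 0)
  set vi := tr (l.getD 9 0) (l.getD 10 0 % 16) (l.getD 11 0)
  have eu : u⁻¹ = ui := inv_eq_of_mul_eq_one_right (codeG_inj (by
    rw [codeG_mulK, code_tr a0 (m _) a1, code_tr b0 (m _) b1, codeG_one]
    exact Nat.eq_of_beq_eq_true h1))
  have ev : v⁻¹ = vi := inv_eq_of_mul_eq_one_right (codeG_inj (by
    rw [codeG_mulK, code_tr c0 (m _) c1, code_tr d0 (m _) d1, codeG_one]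
    exact Nat.eq_of_beq_eq_true h2))
  refine ⟨u, v, codeG_inj ?_⟩
  rw [eu, ev, codeG_mulK, codeG_mulK, codeG_mulK, codeG_mulK, codeG_mulK,
    code_tr a0 (m _) a1, code_tr b0 (m _) b1, code_tr c0 (m _) c1, code_tr d0 (m _) d1,
    code_rep (by norm_num : 16 < 17), code_rep hr]
  exact (Nat.eq_of_beq_eq_true h3).symm

/-- In the twisted group over two elements. -/
theorem sq_derived {g : ↥G2'} (hg : g ∈ DG) (hg1 : g ≠ 1) :
    ∃ u v : ↥G2', g = u * rep 16 * u⁻¹ * (v * rep 16 * v⁻¹) := by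
  obtain ⟨a, ha, w, hw, b, hb, e⟩ := inCell_all g
  obtain ⟨i, hi, hi'⟩ := exists_cU (mul_mem hb ha)
  have e1 : a⁻¹ * g * a = nel w * cU i := by rw [← hi', e]; group
  haveI : (DG).Normal := by unfold DG; infer_instance
  have hmem : nel w * cU i ∈ DG := by
    rw [← e1]
    simpa using Subgroup.Normal.conj_mem inferInstance g hg a⁻¹
  have he : evP (wOf i) = true := (uel_mem_iff _ (wOf_lt i)).1
    ((Subgroup.mul_mem_cancel_left DG (nel_mem hw)).1 hmem)
  obtain ⟨r, hr, y, hy⟩ := cand_conj hw hi he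
  by_cases hr0 : r = 0
  · exfalso
    apply hg1
    rw [hr0, code_rep_zero, mul_one, mul_inv_cancel] at hy
    rw [show g = a * (a⁻¹ * g * a) * a⁻¹ by group, e1, hy]
    group
  · obtain ⟨u, v, huv⟩ := rep_sq hr hr0
    refine ⟨a * y * u, a * y * v, ?_⟩
    calc g = a * (a⁻¹ * g * a) * a⁻¹ := by group
      _ = _ := by rw [e1, hy, huv]; group

/-- In the Tits group. -/
theorem exists_tits : ∃ x : TitsGroup, Odd (orderOf x) ∧
    ∀ g : TitsGroup, g ≠ 1 → ∃ u v : TitsGroup, g = (u * x * u⁻¹) * (v * x * v⁻¹) := by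
  obtain ⟨-, hne, h5, hs, hso, hxe⟩ := x_facts
  have hx : rep 16 ∈ DG := mul_mem (nel_mem (rep_facts 16 (by norm_num)).1)
    ((uel_mem_iff _ (wOf_lt _)).2 hxe)
  have hc : cU 128 * rep 16 = rep 16 * cU 128 := codeG_inj (by
    rw [codeG_mulK, codeG_mulK, code_cU (by norm_num), code_rep (by norm_num)]
    exact hs)
  have hsT : cU 128 ∉ DG := fun h => by
    rw [cU, uel_mem_iff _ (wOf_lt _), hso] at h
    exact Bool.noConfusion h
  have fix : ∀ u : ↥G2', ∃ t : TitsGroup, u * rep 16 * u⁻¹ = (t : ↥G2') * rep 16 * (t : ↥G2')⁻¹ := by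
    intro u
    by_cases hu : u ∈ DG
    · exact ⟨⟨u, hu⟩, rfl⟩
    · refine ⟨⟨u * cU 128, (Subgroup.mul_mem_iff_of_index_two index_eq_two).2
        (iff_of_false hu hsT)⟩, ?_⟩
      show u * rep 16 * u⁻¹ = u * cU 128 * rep 16 * (u * cU 128)⁻¹
      rw [mul_assoc u (cU 128), hc]
      group
  refine ⟨⟨rep 16, hx⟩, ?_, fun g hg => ?_⟩
  · refine Odd.of_dvd_nat (show Odd 5 by decide) (orderOf_dvd_of_pow_eq_one (Subtype.ext ?_))
    show rep 16 ^ 5 = 1
    refine codeG_inj ?_
    simp only [pow_succ, pow_zero, one_mul, codeG_mulK, code_rep (show (16 : ℕ) < 17 by norm_num),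
      codeG_one]
    exact h5
  · obtain ⟨u, v, e⟩ := sq_derived g.2 (fun h => hg (Subtype.ext h))
    obtain ⟨s, hs'⟩ := fix u
    obtain ⟨t, ht⟩ := fix v
    refine ⟨s, t, Subtype.ext ?_⟩
    rw [e, hs', ht]
    rfl

end H53.TitsSq
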